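import Cfsg.Agent.SPOR.MP.EvStep
import Cfsg.Agent.SPOR.MP.CvrD
import Cfsg.Agent.SPOR.MP.Tb1

/-! The identities for axis number 0. -/

set_option autoImplicit false

namespace CL.MP.E0

open CL.Gr CL.MO

def cS0 : ℕ := nat_lit 0x221465210842148420c84214a5210c430c63208842148420c8420c652108420c652108420c822148420ca52088420ca311084214c421484214a52108420ca5210842148430c8620ca3210851908428c63190a31906529084294a4314a52088420c8421484214a3210851908428c65190a5290a31908418ca420c6521084214842144421463110832908429463190a5290632908428c6420ca3310842144421484214a5210851908418ca329065290632908428ca31908418c65190632906319084294631908418c6319065190a52908418c6420c632104430c8420c84214a32108420ca52108620c8420c843146521085290841946519065190651908428ca4214a32108420c8420c4420ca51108420ca5210842148410c8220ca321084214a3210842148220c842146320884214a521044314842148420c652108420ca52108220c8420c8411465210831908428ca5290a5190651908428c6621465210842148420c84214a52104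
theorem eS0 : elOK cS0 Cvr.g0_0 = true := by decide +kernel
theorem rS0 : chkR lkB 256 Cvr.g0_0 gId = true := by decide +kernel
theorem vS0 : chkV cS0 Cvr.g0_0 cId gId aT0 lkB 256 = true := by decide +kernel
def cS1 : ℕ := nat_lit 0x6a4e739ce92a5294a52949d274a4e539d29294a739d6739ce73a4e939ca74a4e739ce94a4a92a52929d27294e93ad294952739ce759d673a4e539d2759d294a52719ce739ce73a4e939d2b4a4e739ce5495292a5294ad274a56939ca54a52739d6739ce7394e539d274a4eb3ace9495294a52549d272a4e94a4e73ace94a525495292ad274a4e939d294a4ab39ce73ace73a4e559d274a4e759ce94a5294a4a94aca72a4e939ca92a52739ce75aceb3a4e939d27494eb59ce54a5294a52929d274a4e939d294a52739ce739ceb5a56539ca739d254a4a739ceb59ce73a56939d274a56739d69495294a4a929d274a4e939ca94952b39ce739ce73a5693ad2739d292a5273aceb39ce73a4e53ad2739d294a52b39d6b39d6b3a4e939d27494e739ce9494a94952949ca74a4e94956739ce94a5254a52949d272a56939d254a52739ce73ad673a4e93aca7494e739d694a5294a5254ad27494e92a4e739ce92a5294a52949d274a4ed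
theorem eS1 : elOK cS1 Cvr.g1_0 = true := by decide +kernel
theorem rS1 : chkR lkB 256 Cvr.g1_0 gId = true := by decide +kernel
theorem vS1 : chkV cS1 Cvr.g1_0 cId gId aT0 lkB 256 = true := by decide +kernel

variable {P : Pk ℝ}

theorem kn : Kn P aT0 lkB 256 (T0 P) :=
  ⟨T0_mem, T0_tb (by decide +kernel) fun _ => tau_lkB⟩

theorem ty {t : GG P} (h : Kn P aT0 lkB 256 t) :
    Ty P t aT0 lkB 256 Cvr.g0_0 Cvr.g1_0 :=
  ⟨h.1, h.2,
    stb_of LK_lkB (by norm_num) eS0 rS0 vS0
      (Or.inl fun _ => tau0_zero) h,
    stb_of LK_lkB (by norm_num) eS1 rS1 vS1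
      (Or.inl fun _ => tau0_zero) h⟩

end CL.MP.E0
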