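import Cfsg.Agent.SPOR.MP.EvStep
import Cfsg.Agent.SPOR.MP.CvrD
import Cfsg.Agent.SPOR.MP.Tb1

/-! The identities for axis number 1. -/

set_option autoImplicit false

namespace CL.MP.E1

open CL.Gr CL.MO

def cT : ℕ := nat_lit 0x4214842148521484210a421445218a420c84214c521484210a410c8321064214842148521484210a4214c5208a420c862148520c4421064214852106420c4421483214843106421483210a220c8420c8520c84210a621483210a430c841148320c84210a420c85210a420c8420c85314842086420c85210a420c842144521484210a430c832106620c8420c8520c84210a221483210a410c843148320c84210a420c85210a5190a519064190a528c85190a42948420c8420c85114842186420c85210a3190a3190a42906529483290a42948420c8420c8321486210a4214851106420c8420c8321482210a4214853106529063290a41906518c85290a42948420cc421483214841106421483210a420c822148520cc4210642148521063290a5290a4190a328c83290a419485290a3290642906329485190a41948519065190a4290a319485290a4194832906529064290a519483190a42948319063190641906318c83190a41948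
def gT : ℕ := nat_lit 0x2935bb010aa06701ee65bb002020c40026614401088067008000110000244d0088a0e70002205501e801230000014400000001003a43df0175a9ef01170a3601ff2c94007c01bd00cece1c00f3697f01c027a7013c033f0155adab0141c8b6
theorem eT : elOK cT gT = true := by decide +kernel
theorem tT : chkT lkB 256 gT (lk tT1) 128 gId = true := by decide +kernel
theorem uT : chkU cT gT aT0 lkB 256 cId gId aT1 (lk tT1) 128 = true := by
  decide +kernel
def cS0 : ℕ := nat_lit 0x401084210842108421084210842108421084010842108421084210842108421084210842108420084210842108421084210842108421104210842108421084210842108421084410842108422084210842108421084210842108421084211042108421084210842108421084210842108401084210842108421084210842108821084210842108421084210842208421084210842108421084210842108421084210882108421084210842108421084210840108421084220842108421084210842108821084210842108421084210842108421084210842108421080210842108421084210842108421084220842108421084210842108421084210842100421004210842108421084210842108421084210842108421084210842208421084210842108421084210042108421080210842108421084210842108421084210802108421084210842108421084210842100421084210842108421084210844108421084210842108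
theorem eS0 : elOK cS0 Cvr.g0_1 = true := by decide +kernel
theorem rS0 : chkR (lk tT1) 128 Cvr.g0_1 gId = true := by decide +kernel
theorem vS0 : chkV cS0 Cvr.g0_1 cId gId aT1 (lk tT1) 128 = true := by decide +kernel
def cS1 : ℕ := nat_lit 0x421088210842108421084210842108421084210844108421084210842108421084010842108421084210842108421084210842108021084210842108821084210842108421084210842108421084210842108421004210842108421084210842108421084210882108421084210842108421084210842208421084210842100421084210842108421084210842008421084210842108421084210842108421084210842100421104210842108421084210842108421084210842108421084010842108421084210842108421084220842108401084210842108421084210842108421084210842108421084210840108422084210842108421084210842108421084210842108441084210842108421084210842108420084210842108421084210842108421084211042108421084210802108421084210842108421084211042108421084210842108421084210842108421080210842108421084220842108421084210842108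
theorem eS1 : elOK cS1 Cvr.g1_1 = true := by decide +kernel
theorem rS1 : chkR (lk tT1) 128 Cvr.g1_1 gId = true := by decide +kernel
theorem vS1 : chkV cS1 Cvr.g1_1 cId gId aT1 (lk tT1) 128 = true := by decide +kernel

variable {P : Pk ℝ}

theorem step (h : Kn P aT0 lkB 256 (T0 P)) :
    ∃ t, Kn P aT1 (lk tT1) 128 t ∧ Edge P (T0 P) t 1 := by
  obtain ⟨x, ex, k⟩ := step0 LK_lkB (LK_lk tT1) (by norm_num) (by norm_num) eT tT uT
    (fun _ => tau_zero tU1) h z_T0
  have e : apT gT 2048 = 1 := by decide +kernel
  exact ⟨_, k, e ▸ (edge_chd ex _).1⟩

theorem ty {t : GG P} (h : Kn P aT1 (lk tT1) 128 t) :
    Ty P t aT1 (lk tT1) 128 Cvr.g0_1 Cvr.g1_1 :=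
  ⟨h.1, h.2,
    stb_of (LK_lk tT1) (by norm_num) eS0 rS0 vS0
      (Or.inl fun _ _ => tau_zero tU1) h,
    stb_of (LK_lk tT1) (by norm_num) eS1 rS1 vS1
      (Or.inl fun _ _ => tau_zero tU1) h⟩

end CL.MP.E1
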