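import Cfsg.Agent.SPOR.MP.EvStep
import Cfsg.Agent.SPOR.MP.CvrD
import Cfsg.Agent.SPOR.MP.Tb1
import Cfsg.Agent.SPOR.MP.Tb2

/-! The identities for axis number 2. -/

set_option autoImplicit false

namespace CL.MP.E2

open CL.Gr CL.MO

def cT : ℕ := nat_lit 0x429485210842988411084210a52948429483110c429084210842106328c8419485208862908421084210a318c82294c5210841908421084210631948428c85210841904421084218a328c84294833104429084210842106328c8419483210841908420884310a32948428c832108429084210c2210a31948419485218822908421084210a318c8429485210842888431084210a529485210a418c6321465294a528c84210a428c83210842908421046210a3194832106419465214a3294a5294842106629445210841908421084210631948418c8521084290822108421063294c32106428ca3214a52946329484210a418c85210842908621084210632944428c8521084190c421084208a328c8321064294a52146528ca518c84210a5210a4294a5214632946328c8421065210a419465214a528c6319484210a5210a428ca3214a328ca519484210632106418c632146328c6318c842106419483210841908421884110a32948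
def gT : ℕ := nat_lit 0x127a6fb0082832a018811930021d00000a95573004515420102030a000115420122830a008090a2016e16fb006491820000000200511df10048500700c48bac004c8bb900d9df1900c84f7000735d140036cb240033080701061814007f464f
theorem eT : elOK cT gT = true := by decide +kernel
theorem tT : chkT lkB 256 gT (lk tT2) 128 gId = true := by decide +kernel
theorem uT : chkU cT gT aT0 lkB 256 cId gId aT2 (lk tT2) 128 = true := by
  decide +kernel
def cS0 : ℕ := nat_lit 0x421084210842104621082210442108431084210842108410884110842108221884210c4210842108421084210c421084310822108421084218843108411084210842108410884310842108621884210c42108421084210842104221884210442108421084210842104421084310822108421084208841108421084210842104621086210c42108421086210841088421084210822108411084210842108430884110842108220884210c421084210842108421044210841108221084210842188411084210862108431884210842108221084210822108430884210842108221084210842108421042210862104421084210442188421084210442108420884210862108430884210842108621084210442088421084210c421084208842108421084210c6210862104421084110842108421084118841108421084210843108621084210842188411084210c4208842108421044210842088421044208842108421044210842188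
theorem eS0 : elOK cS0 Cvr.g0_2 = true := by decide +kernel
theorem rS0 : chkR (lk tT2) 128 Cvr.g0_2 gId = true := by decide +kernel
theorem vS0 : chkV cS0 Cvr.g0_2 cId gId aT2 (lk tT2) 128 = true := by decide +kernel
def cS1 : ℕ := nat_lit 0x5214642946321063210a520ca428c64190832108429484284841908321083214a428c65210a5210a5214a428ca3214a4294a5210652106520c6418c64290852108438c8418c8429085210832146419463210a52106520ca4194a52146418ca5210652106320ca428ca52146419465210a5210a32146418c6320c64294a3210a5210a320c6428ca4290852108418c8438c842908521084290812108418c8418c84290852108320c6418c65210a32106520c6428c632146418ca321065210a52146429464290852108419c8418c84290852108439083210842948429484190832108520c6428c6521065210a520c64194a5214a4194a5210a3210a520c64294a4290852108418c8418c8429081210832146429465210632106321464294a520ca41946321065210652146428ca4290852108418c8418c84090852108320c64194a521063210a5214a418ca320ca41946521065210a320ca429463214a418c6321063210a320c6418ca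
theorem eS1 : elOK cS1 Cvr.g1_2 = true := by decide +kernel
theorem rS1 : chkR (lk tT2) 128 Cvr.g1_2 gId = true := by decide +kernel
theorem vS1 : chkV cS1 Cvr.g1_2 cId gId aT2 (lk tT2) 128 = true := by decide +kernel

variable {P : Pk ℝ}

theorem step (h : Kn P aT0 lkB 256 (T0 P)) :
    ∃ t, Kn P aT2 (lk tT2) 128 t ∧ Edge P (T0 P) t 2 ∧ zz P * t = t * zz P := by
  obtain ⟨x, ex, k⟩ := step0 LK_lkB (LK_lk tT2) (by norm_num) (by norm_num) eT tT uT
    (fun _ => tau_zero tU2) h z_T0
  have e : apT gT 2048 = 2 := by decide +kernel
  exact ⟨_, k, e ▸ (edge_chd ex _).1,
    z_chd ex (by decide +kernel)⟩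

theorem ty {t : GG P} (h : Kn P aT2 (lk tT2) 128 t) :
    Ty P t aT2 (lk tT2) 128 Cvr.g0_2 Cvr.g1_2 :=
  ⟨h.1, h.2,
    stb_of (LK_lk tT2) (by norm_num) eS0 rS0 vS0
      (Or.inl fun _ _ => tau_zero tU2) h,
    stb_of (LK_lk tT2) (by norm_num) eS1 rS1 vS1
      (Or.inl fun _ _ => tau_zero tU2) h⟩

end CL.MP.E2
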