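import Cfsg.Agent.SPOR.MP.EvStep
import Cfsg.Agent.SPOR.MP.CvrD
import Cfsg.Agent.SPOR.MP.Tb2
import Cfsg.Agent.SPOR.MP.Tb4

/-! The identities for axis number 4. -/

set_option autoImplicit false

namespace CL.MP.E4

open CL.Gr CL.MO

def cT : ℕ := nat_lit 0x421084294a42904421485214c4290842108418c642908421483314822908421084294a4290c421485214442908421084294642888420c8320c842988421084194a41908420cc3214842904421084194a2290862148320c84190862108428ca4190841148320c84290842088628ca42908420c8321484190842108418c642908421483114862908421084194a6290822148320c84190822108428ca4190843148320c842908328ca321085214a5190a4190a3214a42188228ca42908420c832148419083294a52108320ca3190a4290a520ca4110c4294641908421483214841908431044294641908421483214841908528ca32108520ca529064290a520c6421084194a41908420c4321484290c421084294642988420c8320c842888518c6321083214a3290a4290a5214a5194652108520ca5290a4190a320ca31946521085214a519064290a521465294a521083214a329064190a32146318c632108320ca319064190a320c6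
def gT : ℕ := nat_lit 0x2395dc01480023016a2032010ee0230108803200a884ee01a64418018a852a010aa06700820080010aa1230164c5dc0000000101d3e09400b8413500d40ea80167efff0064cdbb00bd8a4901b0435201416c640107695f018b67f201e324c6
theorem eT : elOK cT gT = true := by decide +kernel
theorem tT : chkT (lk tT2) 128 gT (lk tT4) 128 gId = true := by decide +kernel
theorem uT : chkU cT gT aT2 (lk tT2) 128 cId gId aT4 (lk tT4) 128 = true := by
  decide +kernel
def cS0 : ℕ := nat_lit 0x329064294652908529485194831908519064294a31908528c8519485290842148521084214e4210a4210a421463290a4194a329085194831948529084214852108421464210a4210242146529064294a32908318c8318c8319083190a428c632908328c8319483290831906418ca52908318c85194851908329064194631908328c832948519083190a4194a3190832948518c8319084214852108420464210a4210a421464214812108421464210a4210a421465190a429463290831948529485190832906428ca3290832948528c8529085290a4194652908328c8518c852908420c832108420ca4210642106420c25290a418ca32908528c852948319083290a4294a51908318c852948329085290a428ca519083294831948519084214852108421464210a4210a420463290a428c631908518c8518c8519083190a4294a52908528c8328c851908421c832108420ca4210642106420ca421485210842146421024210a42146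
theorem eS0 : elOK cS0 Cvr.g0_4 = true := by decide +kernel
theorem rS0 : chkR (lk tT4) 128 Cvr.g0_4 gId = true := by decide +kernel
theorem vS0 : chkV cS0 Cvr.g0_4 cId gId aT4 (lk tT4) 128 = true := by decide +kernel
def cS1 : ℕ := nat_lit 0x421044308842108421084310842108221084210c22108421884210842108420886210842108421084210c42088221084210c62108420884210842108421886210842108421084210c42188421084210842108211086218842108411084210841108421084210863108421084210842108231082218842108621084210c6210842188421084210842108421084210823108620884210842108421084208c42104421084210c4218862108421084210842104420882210842104621084218842108421084210441088421084210841108421084110842108411084210842108211084210842108420844210c421084210c431084210841108421084210823108421044318842108421084110842108421084210842108631086218842108421882210842108421084210c420884210c430884210842108411084210841108421084310842108421082310842108421084208c4210c421084210442108421084218c4210c421084210c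
theorem eS1 : elOK cS1 Cvr.g1_4 = true := by decide +kernel
theorem rS1 : chkR (lk tT4) 128 Cvr.g1_4 gId = true := by decide +kernel
theorem vS1 : chkV cS1 Cvr.g1_4 cId gId aT4 (lk tT4) 128 = true := by decide +kernel

variable {P : Pk ℝ}

theorem step {s : GG P} (h : Kn P aT2 (lk tT2) 128 s) (hz : zz P * s = s * zz P) :
    ∃ t, Kn P aT4 (lk tT4) 128 t ∧ Edge P s t 1 := by
  obtain ⟨x, ex, k⟩ := step0 (LK_lk tT2) (LK_lk tT4) (by norm_num) (by norm_num) eT tT uT
    (fun _ => tau_zero tU4) h hz
  have e : apT gT 2048 = 1 := by decide +kernel
  exact ⟨_, k, e ▸ (edge_chd ex _).1⟩

theorem ty {t : GG P} (h : Kn P aT4 (lk tT4) 128 t) :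
    Ty P t aT4 (lk tT4) 128 Cvr.g0_4 Cvr.g1_4 :=
  ⟨h.1, h.2,
    stb_of (LK_lk tT4) (by norm_num) eS0 rS0 vS0
      (Or.inl fun _ _ => tau_zero tU4) h,
    stb_of (LK_lk tT4) (by norm_num) eS1 rS1 vS1
      (Or.inl fun _ _ => tau_zero tU4) h⟩

end CL.MP.E4
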