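import Mathlib

/-! Involutions of `S9` commuting with an alternating group of degree four. -/

set_option autoImplicit false

namespace CL.MP.HNA

open Equiv Equiv.Perm

/-- a five-cycle -/
def t5 : Perm (Fin 5) := finRotate 5

/-- the conclusion -/
def Concl {G : Type*} [Group G] (c ζ t t' : G) : Prop :=
  ((∃ j < 5, t' = t ^ j) ∨ ∃ i < 5, ∃ j < 5, t ^ i * t' ^ j * t ^ i = ζ ∨
    t ^ i * t' ^ j * t ^ i = ζ * c) ∧ ((ζ * t) ^ 3 = 1 ∨ (ζ * t ^ 2) ^ 3 = 1)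

instance {G : Type*} [Group G] [DecidableEq G] (c ζ t t' : G) : Decidable (Concl c ζ t t') := by
  unfold Concl; infer_instance

set_option synthInstance.maxSize 1000 in
set_option synthInstance.maxHeartbeats 200000 in
theorem five : ∀ c : Perm (Fin 5), c * c = 1 → c * t5 * (c * t5) = 1 →
    ∀ ζ : Perm (Fin 5), ζ * ζ = 1 → ζ * c = c * ζ → ζ ≠ 1 → ζ ≠ c → sign ζ = 1 →
    ∀ b : Perm (Fin 5), b * b = 1 → (c * b) ^ 5 = 1 → c * b ≠ 1 → Concl c ζ t5 (c * b) := by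
  decide +kernel

theorem four : ∀ v : Perm (Fin 4), v * v = 1 → v ≠ 1 → sign v = 1 → (∀ i, v i ≠ i) ∧
    ∀ w : Perm (Fin 4), w ^ 3 = 1 → w ≠ 1 → ∀ e : Perm (Fin 4), e * v = v * e → e * w = w * e →
      e = 1 := by
  decide +kernel

theorem Concl.of_map {G H : Type*} [Group G] [Group H] (φ : G →* H) {c ζ t t' : G}
    (h : Concl c ζ t t') : Concl (φ c) (φ ζ) (φ t) (φ t') := by
  obtain ⟨h1, h2⟩ := h
  refine ⟨h1.imp (fun ⟨j, hj, e⟩ => ⟨j, hj, by rw [e, map_pow]⟩)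
    fun ⟨i, hi, j, hj, e⟩ => ⟨i, hi, j, hj, ?_⟩, h2.imp (fun e => ?_) fun e => ?_⟩
  on_goal 3 => exact e.imp (fun e => by rw [← e]; simp) fun e => by rw [← map_mul, ← e]; simp
  · simpa using congrArg φ e
  · simpa using congrArg φ e

/-- the conclusion lifts along a map that is injective on a subgroup -/
theorem Concl.lift {G H : Type*} [Group G] [Group H] (φ : G →* H) (K : Subgroup G)
    (hK : ∀ x ∈ K, φ x = 1 → x = 1) {c ζ t t' : G} (hc : c ∈ K) (hζ : ζ ∈ K) (ht : t ∈ K)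
    (ht' : t' ∈ K) (h : Concl (φ c) (φ ζ) (φ t) (φ t')) : Concl c ζ t t' := by
  have inj : ∀ x ∈ K, ∀ y ∈ K, φ x = φ y → x = y := fun x hx y hy e =>
    mul_inv_eq_one.1 (hK _ (K.mul_mem hx (K.inv_mem hy)) (by rw [map_mul, map_inv, e, mul_inv_cancel]))
  have m : ∀ i j : ℕ, t ^ i * t' ^ j * t ^ i ∈ K := fun i j =>
    K.mul_mem (K.mul_mem (K.pow_mem ht i) (K.pow_mem ht' j)) (K.pow_mem ht i)
  obtain ⟨h1, h2⟩ := h
  refine ⟨h1.imp (fun ⟨j, hj, e⟩ => ⟨j, hj, inj _ ht' _ (K.pow_mem ht j) (by rw [e, map_pow])⟩)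
    fun ⟨i, hi, j, hj, e⟩ => ⟨i, hi, j, hj, ?_⟩, h2.imp (fun e => ?_) fun e => ?_⟩
  on_goal 3 =>
    exact e.imp (fun e => inj _ (m i j) _ hζ (by simpa using e))
      fun e => inj _ (m i j) _ (K.mul_mem hζ hc) (by simpa using e)
  · exact hK _ (K.pow_mem (K.mul_mem hζ ht) 3) (by simpa using e)
  · exact hK _ (K.pow_mem (K.mul_mem hζ (K.pow_mem ht 2)) 3) (by simpa using e)

abbrev S := Fin 5 ⊕ Fin 4

theorem split {e : Perm S} (h : ∀ i, ∃ j, e (.inl i) = .inl j) :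
    ∃ a b, e = Perm.sumCongr a b := by
  obtain ⟨⟨a, b⟩, e'⟩ := mem_sumCongrHom_range_of_perm_mapsTo_inl (σ := e) (by
    rintro _ ⟨i, rfl⟩
    exact let ⟨j, hj⟩ := h i; ⟨j, hj.symm⟩)
  exact ⟨a, b, e'.symm⟩

theorem cong_inj {a a' : Perm (Fin 5)} {b b' : Perm (Fin 4)}
    (h : Perm.sumCongr a b = Perm.sumCongr a' b') : a = a' ∧ b = b' :=
  Prod.mk.inj (sumCongrHom_injective (a₁ := (a, b)) (a₂ := (a', b')) h)

theorem cent5 : ∀ a : Perm (Fin 5), a * t5 = t5 * a → a ^ 6 = 1 → a = 1 := by decide +kernel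

theorem cong_pow (a : Perm (Fin 5)) (b : Perm (Fin 4)) (n : ℕ) :
    Perm.sumCongr a b ^ n = Perm.sumCongr (a ^ n) (b ^ n) :=
  (map_pow (sumCongrHom (Fin 5) (Fin 4)) (a, b) n).symm

theorem of_comm_t {u : Perm S} (h : u * Perm.sumCongr t5 1 = Perm.sumCongr t5 1 * u)
    (h6 : u ^ 6 = 1) : ∃ b, u = Perm.sumCongr 1 b := by
  obtain ⟨a, b, rfl⟩ := split (e := u) fun i => by
    have h1 := DFunLike.congr_fun h (.inl i)
    simp only [Perm.mul_apply, Perm.sumCongr_apply, Sum.map_inl] at h1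
    rcases hu : u (.inl i) with j | j
    · exact ⟨j, rfl⟩
    · rw [hu, Sum.map_inr, Perm.one_apply, ← hu] at h1
      exact absurd (Sum.inl.inj (u.injective h1)) ((by decide : ∀ i, t5 i ≠ i) i)
  rw [sumCongr_mul, sumCongr_mul] at h
  rw [cong_pow, ← sumCongr_one] at h6
  exact ⟨b, by rw [cent5 a (cong_inj h).1 (cong_inj h6).1]⟩

theorem std {c ζ b v w : Perm S} (hc : c * c = 1)
    (hb1 : c * Perm.sumCongr t5 1 * (c * Perm.sumCongr t5 1) = 1) (hζ : ζ * ζ = 1)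
    (hζc : ζ * c = c * ζ) (n1 : ζ ≠ 1) (n2 : ζ ≠ c) (s1 : sign ζ = 1) (hb : b * b = 1)
    (h5 : (c * b) ^ 5 = 1) (n3 : c * b ≠ 1) (hv : v * v = 1) (nv : v ≠ 1) (sv : sign v = 1)
    (hw : w ^ 3 = 1) (nw : w ≠ 1) (tv : Commute v (Perm.sumCongr t5 1))
    (tw : Commute w (Perm.sumCongr t5 1)) (cv : Commute c v) (cw : Commute c w)
    (ζv : Commute ζ v) (ζw : Commute ζ w) (bv : Commute b v) (bw : Commute b w) :
    Concl c ζ (Perm.sumCongr t5 1) (c * b) := by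
  obtain ⟨v, rfl⟩ := of_comm_t tv (by rw [show 6 = 2 * 3 from rfl, pow_mul, sq, hv, one_pow])
  obtain ⟨w, rfl⟩ := of_comm_t tw (by rw [show 6 = 3 * 2 from rfl, pow_mul, hw, one_pow])
  rw [sumCongr_mul, ← sumCongr_one] at hv
  rw [cong_pow, ← sumCongr_one] at hw
  obtain ⟨f1, f2⟩ := four v (cong_inj hv).2 (fun e => nv (by rw [e, sumCongr_one]))
    (by simpa using sv)
  have key : ∀ e : Perm S, Commute e (Perm.sumCongr 1 v) → Commute e (Perm.sumCongr 1 w) →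
      ∃ a, e = Perm.sumCongr a 1 := fun e h1 h2 => by
    obtain ⟨a, b, rfl⟩ := split (e := e) fun i => by
      have h3 := DFunLike.congr_fun h1.eq (.inl i)
      simp only [Perm.mul_apply, Perm.sumCongr_apply, Sum.map_inl, Perm.one_apply] at h3
      rcases hu : e (.inl i) with j | j
      · exact ⟨j, rfl⟩
      · rw [hu, Sum.map_inr] at h3
        exact absurd (Sum.inr.inj h3).symm (f1 j)
    have h3 := h1.eq
    have h4 := h2.eq
    rw [sumCongr_mul, sumCongr_mul] at h3 h4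
    exact ⟨a, by rw [f2 w (cong_inj hw).2 (fun e => nw (by rw [e, sumCongr_one])) b (cong_inj h3).2
      (cong_inj h4).2]⟩
  obtain ⟨c, rfl⟩ := key c cv cw
  obtain ⟨ζ, rfl⟩ := key ζ ζv ζw
  obtain ⟨b, rfl⟩ := key b bv bw
  simp only [sumCongr_mul, cong_pow, mul_one, one_pow] at hc hb1 hζ hζc hb h5 n3
  rw [← sumCongr_one] at hc hb1 hζ hb h5
  have := (five c (cong_inj hc).1 (cong_inj hb1).1 ζ (cong_inj hζ).1 (cong_inj hζc).1
    (fun e => n1 (by rw [e, sumCongr_one])) (fun e => n2 (by rw [e])) (by simpa using s1) b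
    (cong_inj hb).1 (cong_inj h5).1 (fun e => n3 (by rw [e, sumCongr_one]))).of_map
    ((sumCongrHom (Fin 5) (Fin 4)).comp (MonoidHom.inl _ _))
  rwa [map_mul] at this

theorem nine {c ζ b₁ b v w : Perm (Fin 9)} (hc : c * c = 1) (hb1 : b₁ * b₁ = 1)
    (o1 : orderOf (c * b₁) = 5) (hζ : ζ * ζ = 1)
    (hζc : ζ * c = c * ζ) (n1 : ζ ≠ 1) (n2 : ζ ≠ c) (s1 : sign ζ = 1) (hb : b * b = 1)
    (h5 : (c * b) ^ 5 = 1) (n3 : c * b ≠ 1) (hv : v * v = 1) (nv : v ≠ 1) (sv : sign v = 1)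
    (hw : w ^ 3 = 1) (nw : w ≠ 1) (tv : Commute b₁ v) (tw : Commute b₁ w) (cv : Commute c v)
    (cw : Commute c w) (ζv : Commute ζ v) (ζw : Commute ζ w) (bv : Commute b v)
    (bw : Commute b w) : Concl c ζ (c * b₁) (c * b) := by
  let e0 : Perm (Fin 9) ≃* Perm S := Equiv.permCongrHom (finSumFinEquiv (m := 5) (n := 4)).symm
  have o2 : orderOf (Perm.sumCongr t5 (1 : Perm (Fin 4))) = 5 :=
    orderOf_eq_prime (hp := ⟨Nat.prime_five⟩) (by decide +kernel) (by decide +kernel)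
  have cy : ∀ s : Perm S, orderOf s = 5 → s.cycleType = {5} := fun s hs => by
    have h1 := isCycle_of_prime_order' (σ := s) (by rw [hs]; exact Nat.prime_five)
      (by rw [hs]; simp)
    rw [h1.cycleType, ← h1.orderOf, hs]
  obtain ⟨g, hg⟩ := isConj_iff.1 (isConj_of_cycleType_eq ((cy (e0 (c * b₁))
    (by rw [e0.orderOf_eq, o1])).trans (cy _ o2).symm))
  let e : Perm (Fin 9) ≃* Perm S := e0.trans (MulAut.conj g)
  have ht : e (c * b₁) = Perm.sumCongr t5 1 := hg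
  have sg : ∀ x, sign (e x) = sign x := fun x => by
    show sign (g * e0 x * g⁻¹) = _
    rw [map_mul, map_mul, sign_inv, mul_right_comm, Int.units_mul_self, one_mul]
    exact sign_permCongr _ _
  have m : ∀ {x y : Perm (Fin 9)}, x * y = 1 → e x * e y = 1 := fun h => by rw [← map_mul, h, map_one]
  have := std (c := e c) (ζ := e ζ) (b := e b) (v := e v) (w := e w) (m hc)
    (by rw [← ht, ← map_mul, ← mul_assoc, hc, one_mul]; exact m hb1) (m hζ)
    (by rw [← map_mul, hζc, map_mul]) (by simpa using n1) (by simpa using n2) (by rw [sg, s1]) (m hb)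
    (by rw [← map_mul, ← map_pow, h5, map_one]) (by rw [← map_mul]; exact fun h => n3 (e.map_eq_one_iff.1 h)) (m hv)
    (by simpa using nv) (by rw [sg, sv]) (by rw [← map_pow, hw, map_one]) (by simpa using nw)
    (ht ▸ ((cv.mul_left tv).symm.map e)) (ht ▸ ((cw.mul_left tw).symm.map e)) (cv.map e) (cw.map e)
    (ζv.map e) (ζw.map e) (bv.map e) (bw.map e)
  rw [← ht, ← map_mul] at this
  simpa using this.of_map e.symm.toMonoidHom

end CL.MP.HNA
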