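import Mathlib
import Cfsg.Agent.SPOR.MP.HNA
import Cfsg.Agent.SPOR.FiN5
import Cfsg.Agent.SPOR.FiEx24
import Cfsg.Agent.SPOR.F24P.Mon3

/-! The centraliser of a `3A` element and of an element of order five is `3 × 5 × A9`. -/

set_option autoImplicit false

namespace CL.MP.HNA

open Cfsg Cfsg.Spor Subgroup Equiv Equiv.Perm CL.FiQ

theorem fi5 {s : Fi24} (hs : orderOf s = 5) : ∃ (S : Subgroup Fi24) (φ : S ≃* Perm (Fin 9)),
    (∀ g, Commute g s → g ^ 6 = 1 → g ∈ S) ∧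
      ∀ g : S, (g : Fi24) ∈ _root_.commutator Fi24 → sign (φ g) = 1 := by
  have F : CL.FiC.Fi 3 CL.Fi24.D := ⟨CL.Fi.D24.is24, CL.FiA.gp24.gen, CL.FiA.gp24.cen⟩
  obtain ⟨_, R⟩ := CL.Fi.D24.exists_real F.is
  obtain ⟨T, -, -, h3, h4, h5, h6, ⟨φ⟩⟩ := (CL.FiN.L24.five CL.Fi.D24.mod R F).2 (zpowers s)
    (by rw [Nat.card_zpowers, hs])
  set S := closure (CL.FiN.Fx CL.Fi24.D (zpowers s)) with hS
  have hc : S ≤ centralizer (zpowers s : Set Fi24) := (closure_le _).2 fun _ h => h.2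
  refine ⟨S, φ, fun g hg h6' => ?_, fun g hg => ?_⟩
  · have gc : g ∈ centralizer (zpowers s : Set Fi24) := CL.F24P.mem_cent_zpowers.2 (by
      rw [hg.eq, mul_inv_cancel_right])
    have gn : g ∈ T ⊔ S := h6 ▸ centralizer_le_normalizer _ gc
    have hn : T ≤ normalizer (S : Set Fi24) := fun x hx => mem_normalizer_iff.2 fun y =>
      ⟨fun hy => by rwa [h5 x hx y hy, mul_inv_cancel_right], fun hy => by
        have := h5 x⁻¹ (inv_mem hx) _ hy
        rwa [show y = x * y * x⁻¹ by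
          rw [← mul_left_inj x⁻¹, ← this]; group]⟩
    rw [← SetLike.mem_coe, coe_mul_of_left_le_normalizer_right T S hn] at gn
    obtain ⟨f, hf, σ, hσ, rfl⟩ := gn
    have f1 : f ∈ zpowers s := h3 ▸ mem_inf.2 ⟨hf, (mul_mem_cancel_right (hc hσ)).1 gc⟩
    have f5 : f ^ 5 = 1 := by
      obtain ⟨n, rfl⟩ := f1
      rw [← hs, ← zpow_natCast, ← zpow_mul, mul_comm, zpow_mul, zpow_natCast, pow_orderOf_eq_one,
        one_zpow]
    have e : f * σ ^ 6 = 1 := by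
      rw [← h6', Commute.mul_pow (h5 f hf σ hσ), pow_succ f 5, f5, one_mul]
    have f0 : f ∈ T ⊓ S := ⟨hf, eq_inv_of_mul_eq_one_left e ▸ S.inv_mem (S.pow_mem hσ 6)⟩
    rw [h4, mem_bot] at f0
    rw [f0]
    simpa using hσ
  · let χ : Fi24 →* ℤˣ := (MulEquiv.toMonoidHom (mulEquivOfPrimeCardEq (p := 2)
      (G := Fi24 ⧸ _root_.commutator Fi24) (G' := ℤˣ) CL.Fi24.index_commutator
      (by rw [Nat.card_eq_fintype_card, Fintype.card_units_int]))).comp
      (QuotientGroup.mk' _)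
    have hχ : ∀ x, χ x = 1 ↔ x ∈ _root_.commutator Fi24 := fun x => by
      simp [χ]
    let χ' : Perm (Fin 9) →* ℤˣ := (χ.comp S.subtype).comp φ.symm.toMonoidHom
    have hne : ∃ d ∈ CL.FiN.Fx CL.Fi24.D (zpowers s), True := by
      by_contra hn
      have : S = ⊥ := (closure_eq_bot_iff).2 fun d hd => absurd ⟨d, hd, trivial⟩ hn
      have h1 := Nat.card_congr φ.toEquiv
      rw [Nat.card_perm, this] at h1
      simp [Nat.factorial] at h1
    obtain ⟨d, hd, -⟩ := hne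
    have hsur : Function.Surjective χ' := fun u => by
      rcases Int.units_eq_one_or u with rfl | rfl
      · exact ⟨1, map_one _⟩
      · refine ⟨φ ⟨d, subset_closure hd⟩, (Int.units_eq_one_or _).resolve_left fun e => ?_⟩
        refine CL.FiA.sg24 d hd.1 ((hχ d).1 ?_)
        simpa [χ'] using e
    rw [← eq_sign_of_surjective_hom hsur]
    simpa [χ'] using (hχ g).2 hg

variable {G : Type*} [Group G]

theorem concl_of [Finite G] {g s l c ζ b₁ b v w : G}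
    [((zpowers g).subgroupOf (centralizer (zpowers g : Set G))).Normal]
    {ψ : centralizer (zpowers g : Set G) ⧸ (zpowers g).subgroupOf _ →* Fi24} (P : Ps ψ)
    (hg : orderOf g = 3) (hs : orderOf s = 5) (gs : Commute s g) (nl : ¬ Commute g l)
    (hc : c * c = 1) (hb1 : b₁ * b₁ = 1) (o1 : orderOf (c * b₁) = 5) (hζ : ζ * ζ = 1)
    (hζc : ζ * c = c * ζ) (n1 : ζ ≠ 1) (n2 : ζ ≠ c) (hb : b * b = 1)
    (o2 : orderOf (c * b) = 5) (hv : v * v = 1) (hw : w ^ 3 = 1) (nw : ¬ Commute v w)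
    (h : ∀ x ∈ [c, ζ, b₁, b], Commute x s ∧ ∀ u ∈ [g, v, w, l], Commute x u)
    (gv : Commute v g) (gw : Commute w g) (sv : Commute v s) (sw : Commute w s) :
    Concl c ζ (c * b₁) (c * b) := by
  set C := centralizer (zpowers g : Set G) with hC
  have mC : ∀ {x : G}, Commute x g → x ∈ C := fun hx => CL.F24P.mem_cent_zpowers.2 (by
    rw [hx.eq, mul_inv_cancel_right])
  let π : C →* Fi24 := ψ.comp (QuotientGroup.mk' _)
  have hπ : ∀ x : C, π x = 1 → (x : G) ∈ zpowers g := fun x hx =>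
    (QuotientGroup.eq_one_iff x).1 (P.inj (hx.trans (map_one ψ).symm))
  have p3 : ∀ x ∈ zpowers g, x ^ 3 = 1 := by
    rintro _ ⟨n, rfl⟩
    rw [← hg, ← zpow_natCast, ← zpow_mul, mul_comm, zpow_mul, zpow_natCast, pow_orderOf_eq_one,
      one_zpow]
  have o5 : ∀ x : C, orderOf (x : G) = 5 → orderOf (π x) = 5 := fun x hx =>
    orderOf_eq_prime (hp := ⟨Nat.prime_five⟩) (by
      rw [← map_pow, ← hx, orderOf_coe, pow_orderOf_eq_one, map_one]) fun e => by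
      have := orderOf_dvd_of_pow_eq_one (p3 _ (hπ x e))
      rw [hx] at this
      exact absurd this (by decide)
  obtain ⟨S, φ, h1, h2⟩ := fi5 (o5 ⟨s, mC gs⟩ hs)
  let K := S.comap π
  let Φ : K →* Perm (Fin 9) := φ.toMonoidHom.comp (π.subgroupComap S)
  let ι : K →* G := C.subtype.comp K.subtype
  have hι : Function.Injective ι := (subtype_injective _).comp (subtype_injective _)
  have ex : ∀ {x : G}, Commute x g → Commute x s → x ^ 6 = 1 → ∃ y : K, ι y = x :=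
    fun {x} a b c => ⟨⟨⟨x, mC a⟩, h1 _ (Commute.map (Subtype.ext b.eq) π)
      (by rw [← map_pow, show (⟨x, mC a⟩ : C) ^ 6 = 1 from Subtype.ext c, map_one])⟩, rfl⟩
  have ker : ∀ y : K, Φ y = 1 → ι y ∈ zpowers g := fun y hy =>
    hπ _ (congrArg Subtype.val (φ.map_eq_one_iff.1 hy))
  have sg : ∀ y : K, sign (Φ y) = 1 := fun y => h2 _ (P.range ▸ ⟨_, rfl⟩)
  have sq6 : ∀ {x : G}, x * x = 1 → x ^ 6 = 1 := fun hx => by
    rw [show 6 = 2 * 3 from rfl, pow_mul, sq, hx, one_pow]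
  have a1 := h c (by simp)
  have a2 := h ζ (by simp)
  have a3 := h b₁ (by simp)
  have a4 := h b (by simp)
  simp only [List.forall_mem_cons] at a1 a2 a3 a4
  obtain ⟨c, rfl⟩ := ex a1.2.1 a1.1 (sq6 hc)
  obtain ⟨ζ, rfl⟩ := ex a2.2.1 a2.1 (sq6 hζ)
  obtain ⟨b₁, rfl⟩ := ex a3.2.1 a3.1 (sq6 hb1)
  obtain ⟨b, rfl⟩ := ex a4.2.1 a4.1 (sq6 hb)
  obtain ⟨v, rfl⟩ := ex gv sv (sq6 hv)
  obtain ⟨w, rfl⟩ := ex gw sw (by rw [show 6 = 3 * 2 from rfl, pow_mul, hw, one_pow])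
  let L := (centralizer ({l} : Set G)).comap ι
  have hL : ∀ x ∈ L, Φ x = 1 → x = 1 := fun x hx e => by
    by_contra hne
    have hx' : ι x ≠ 1 := fun e => hne (hι (e.trans (map_one ι).symm))
    have o3 : orderOf (ι x) = 3 := orderOf_eq_prime (hp := ⟨Nat.prime_three⟩) (p3 _ (ker x e)) hx'
    have e2 : zpowers (ι x) = zpowers g := eq_of_le_of_card_ge (zpowers_le.2 (ker x e))
      (by rw [Nat.card_zpowers, Nat.card_zpowers, o3, hg])
    exact nl (mem_centralizer_singleton_iff.1 ((zpowers_le.2 hx : zpowers (ι x) ≤ _)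
      (e2 ▸ mem_zpowers g)))
  have mL : ∀ {x : K}, Commute (ι x) l → x ∈ L := fun hx => mem_centralizer_singleton_iff.2 hx.eq
  have m1 : ∀ {x y : K}, ι x * ι y = 1 → Φ x * Φ y = 1 := fun hx => by
    rw [← map_mul, hι ((map_mul ι _ _).trans (hx.trans (map_one ι).symm)), map_one]
  have cm : ∀ {x y : K}, Commute (ι x) (ι y) → Commute (Φ x) (Φ y) := fun hx =>
    Commute.map (hι (by rw [map_mul, map_mul, hx.eq])) Φ
  have o5' : ∀ {x y : K}, orderOf (ι x * ι y) = 5 → orderOf (Φ x * Φ y) = 5 := fun {x y} hx => by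
    rw [← map_mul] at hx ⊢
    exact (φ.orderOf_eq _).trans ((orderOf_coe _).symm.trans (o5 (x * y).1 hx))
  have nv : Φ v ≠ 1 := fun e => by
    have := p3 _ (ker v e)
    rw [pow_succ, sq, hv, one_mul] at this
    exact nw (this ▸ Commute.one_left _)
  have nw' : Φ w ≠ 1 := fun e => by
    obtain ⟨n, hn⟩ := ker w e
    exact nw (hn ▸ gv.zpow_right n)
  have := nine (c := Φ c) (ζ := Φ ζ) (b₁ := Φ b₁) (b := Φ b) (v := Φ v) (w := Φ w) (m1 hc) (m1 hb1)
    (o5' o1) (m1 hζ) (cm hζc) (fun e => n1 (by rw [hL ζ (mL a2.2.2.2.2.1) e, map_one]))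
    (fun e => n2 (by
      rw [mul_inv_eq_one.1 (hL (ζ * c⁻¹) (mul_mem (mL a2.2.2.2.2.1) (inv_mem (mL a1.2.2.2.2.1)))
        (by rw [map_mul, map_inv, e, mul_inv_cancel]))]))
    (sg ζ) (m1 hb) (by rw [← o5' o2, pow_orderOf_eq_one])
    (fun e => by simpa [e] using o5' o2) (m1 hv) nv (sg v)
    (by rw [← map_pow, hι ((map_pow ι _ _).trans (hw.trans (map_one ι).symm)), map_one]) nw'
    (cm a3.2.2.1) (cm a3.2.2.2.1) (cm a1.2.2.1) (cm a1.2.2.2.1) (cm a2.2.2.1) (cm a2.2.2.2.1)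
    (cm a4.2.2.1) (cm a4.2.2.2.1)
  rw [← map_mul, ← map_mul] at this
  have := (this.lift Φ L hL (mL a1.2.2.2.2.1) (mL a2.2.2.2.2.1)
    (mul_mem (mL a1.2.2.2.2.1) (mL a3.2.2.2.2.1))
    (mul_mem (mL a1.2.2.2.2.1) (mL a4.2.2.2.2.1))).of_map ι
  rwa [map_mul, map_mul] at this

end CL.MP.HNA
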