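import Mathlib
import Cfsg.Agent.SPOR.MP.HNB
import Cfsg.Agent.SPOR.MP.HNC

/-! The relators of the Harada-Norton group from local data. -/

set_option autoImplicit false

namespace CL.MP.HNA

open Cfsg Cfsg.Spor Subgroup CL.CE CL.FiQ CL.MP.HNC

variable {G : Type*} [Group G]

/-- the letters -/
def lt7 (x y ζ t : G) (a : ℕ) : G := [x, x⁻¹, y, y⁻¹, ζ, t, t⁻¹].getD a 1

theorem pres7 {x y ζ t : G} (hζ : ζ * ζ = 1) (h : ∀ r ∈ RH, ev (lt7 x y ζ 1) r = 1)
    {R : List (List ℕ)} (h' : ∀ r ∈ R, ev (lt7 x y ζ t) r = 1) :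
    Pres (lt7 x y ζ t) CL.HN.iv (RH ++ R) := by
  refine Pres.append ⟨fun a => ?_, fun r hr => ?_⟩ h'
  · rcases lt_or_ge a 7 with ha | ha
    · interval_cases a <;> simp [lt7, CL.HN.iv, CL.HN.ivl, eq_inv_of_mul_eq_one_left hζ |>.symm]
    · rw [CL.HN.iv, List.getD_eq_default _ _ (by simpa [CL.HN.ivl] using ha), lt7,
        List.getD_eq_default _ _ (by simpa using ha), inv_one]
  · rw [← h r hr]
    refine ev_congr fun a ha => ?_
    have : a < 5 := (by decide : ∀ r ∈ RH, ∀ a ∈ r, a < 5) r hr a ha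
    interval_cases a <;> rfl

theorem exists_hom {x y ζ t : G} (hζ : ζ * ζ = 1) (h : ∀ r ∈ RH, ev (lt7 x y ζ 1) r = 1)
    (o : orderOf t = 5) (hi : x * x * t * (x * x * t) = 1) (hy : Commute t y)
    (hy' : Commute t (x⁻¹ * y * x)) (hyx : Commute (x⁻¹ * t * x) y) (nc : ¬ Commute ζ y)
    (C : Concl (x * x) ζ t (x⁻¹ * t * x)) : ∃ η : HN →* G, Function.Injective η ∧
      η.range ≤ closure {x, y, ζ, t} := by
  have t5 : t ^ 5 = 1 := o ▸ pow_orderOf_eq_one t
  have x4 : x * x * (x * x) = 1 := by simpa [ev, lt7, mul_assoc] using h [0,0,0,0] (by decide)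
  have cy : Commute (x * x) y := by
    have := h [0,0,2,0,0,3] (by decide)
    simp only [ev, lt7, List.map, List.getD_cons_zero, List.getD_cons_succ, List.prod_cons,
      List.prod_nil, mul_one] at this
    calc x * x * y = x * (x * (y * (x * (x * y⁻¹)))) * y * (x * x) * (x * x * (x * x))⁻¹ := by group
      _ = y * (x * x) := by rw [this, x4]; group
  have cζ : Commute (x * x) ζ := by
    have := h [4,0,4,0] (by decide)
    simp only [ev, lt7, List.map, List.getD_cons_zero, List.getD_cons_succ, List.prod_cons,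
      List.prod_nil, mul_one] at this
    have e : ζ * x = x⁻¹ * ζ := by
      calc ζ * x = ζ * (x * (ζ * x)) * x⁻¹ * ζ * (ζ * ζ)⁻¹ * (x * x)⁻¹ * (x * x) * ζ * ζ⁻¹ := by group
        _ = x⁻¹ * ζ⁻¹ := by rw [this]; group
        _ = _ := by rw [inv_eq_of_mul_eq_one_left hζ]
    calc x * x * ζ = x * x * (x * x) * (x⁻¹ * (x⁻¹ * ζ)) := by simp [mul_assoc]
      _ = ζ * (x * x) := by rw [x4, one_mul, ← e, ← mul_assoc, ← e, mul_assoc]
  obtain ⟨j, hj, ej⟩ := C.1.resolve_right fun ⟨i, _, j, _, e⟩ => nc (by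
    have := ((hy.pow_left i).mul_left (hyx.pow_left j)).mul_left (hy.pow_left i)
    rcases e with e | e <;> rw [e] at this
    · exact this
    · exact mul_inv_cancel_right ζ (x * x) ▸ this.mul_left cy.inv_left)
  have cj : ∀ n : ℕ, x⁻¹ * t ^ n * x = (t ^ n) ^ j := fun n => by
    rw [← pow_mul, mul_comm, pow_mul, ← ej]
    simpa using (conj_pow (a := x⁻¹) (b := t) (i := n)).symm
  have hj2 : t ^ (j * j + 1) = 1 := by
    rw [pow_succ, pow_mul, ← cj, ← ej]
    calc x⁻¹ * (x⁻¹ * t * x) * x * t =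
        (x * x * (x * x))⁻¹ * (x * x * t * (x * x * t)) := by group
      _ = 1 := by rw [hi, x4]; group
  have hj3 : j = 2 ∨ j = 3 := by
    have := orderOf_dvd_of_pow_eq_one hj2
    rw [o] at this
    interval_cases j <;> simp_all
  obtain ⟨n, hn, e3⟩ : ∃ n, (n = 1 ∨ n = 2) ∧ (ζ * t ^ n) ^ 3 = 1 :=
    C.2.elim (fun e => ⟨1, .inl rfl, by rwa [pow_one]⟩) fun e => ⟨2, .inr rfl, e⟩
  have ou : orderOf (t ^ n) = 5 := by
    rcases hn with rfl | rfl
    · rwa [pow_one]
    · rw [orderOf_pow' _ two_ne_zero, o]; rfl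
  have iu : x * x * t ^ n = (t ^ n)⁻¹ * (x * x) := by
    have : x * x * t * (x * x)⁻¹ = t⁻¹ := by
      calc x * x * t * (x * x)⁻¹ = x * x * t * (x * x * t) * t⁻¹ * (x * x * (x * x))⁻¹ := by group
        _ = t⁻¹ := by rw [hi, x4]; group
    rw [← inv_pow, ← this, conj_pow, inv_mul_cancel_right]
  have hu := cj n
  have uy := hy.pow_left n
  have uy' := hy'.pow_left n
  have um : t ^ n ∈ closure ({x, y, ζ, t} : Set G) := pow_mem (subset_closure (by simp)) n
  generalize t ^ n = u at e3 ou iu hu uy uy' um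
  have u5 : u ^ 5 = 1 := ou ▸ pow_orderOf_eq_one u
  have r1 : ev (lt7 x y ζ u) [5,5,5,5,5] = 1 := by simpa [ev, lt7, pow_succ, mul_assoc] using u5
  have r3 : ev (lt7 x y ζ u) [6,3,5,2] = 1 := by
    simp [ev, lt7, uy.eq]
  have r4 : ev (lt7 x y ζ u) [4,5,4,5,4,5] = 1 := by simpa [ev, lt7, pow_succ, mul_assoc] using e3
  rcases hj3 with rfl | rfl
  · have r2 : ev (lt7 x y ζ u) [1,5,0,6,6] = 1 := by
      calc _ = x⁻¹ * u * x * (u ^ 2)⁻¹ := by simp [ev, lt7, sq, mul_assoc]
        _ = 1 := by rw [hu, mul_inv_cancel]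
    have r5 : ev (lt7 x y ζ u) [1,2,0,5,1,3,0,6] = 1 := by
      calc _ = x⁻¹ * y * x * u * (u * (x⁻¹ * y * x))⁻¹ := by simp [ev, lt7, mul_assoc]
        _ = 1 := by rw [uy'.eq, mul_inv_cancel]
    have hm := collapse (pres7 (t := u) hζ h (by simp [r1, r2, r3, r4, r5]))
    have hc : u ∈ centralizer ({x * x} : Set G) := gen_le_iff.2 (fun w hw => by
      simp only [List.mem_cons, List.not_mem_nil, or_false] at hw
      rcases hw with rfl | rfl | rfl <;> rw [ev_singleton, mem_centralizer_singleton_iff]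
      exacts [(mul_assoc x x x).symm, cy.eq.symm, cζ.eq.symm]) hm
    rw [mem_centralizer_singleton_iff, iu, mul_left_inj] at hc
    have := orderOf_dvd_of_pow_eq_one (show u ^ 2 = 1 by rw [sq]; exact mul_eq_one_iff_eq_inv.2 hc)
    rw [ou] at this
    exact absurd this (by decide)
  have r2 : ev (lt7 x y ζ u) [1,5,0,5,5] = 1 := by
    calc _ = x⁻¹ * u * x * u ^ 2 := by simp [ev, lt7, sq, mul_assoc]
      _ = 1 := by rw [hu, ← pow_add, u5]
  obtain ⟨η, hη⟩ := cox_hom (edges := HN.edges) (extra := HN.extra) (gens := CL.HN.gens)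
    (ivl := CL.HN.ivl) CL.HN.code (by decide +kernel)
    (pres7 (t := u) hζ h (R := [[4,4], [5,5,5,5,5], [1,5,0,5,5], [6,3,5,2], [4,5,4,5,4,5]])
      (by simp [r1, r2, r3, r4, show ev (lt7 x y ζ u) [4,4] = 1 by simpa [ev, lt7] using hζ]))
    (by decide +kernel)
  have := CL.HN.isSimpleGroup
  refine ⟨η, (η.normal_ker.eq_bot_or_eq_top.imp η.ker_eq_bot_iff.1 fun e => ?_).resolve_right id, ?_⟩
  · have h5 : η (CL.HN.g 5) = 1 := (e ▸ mem_top _ : _ ∈ η.ker)
    rw [hη 5 (by decide)] at h5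
    rw [show u = 1 from h5, orderOf_one] at ou
    exact absurd ou (by decide)
  · rw [MonoidHom.range_eq_map, ← CL.HN.gen_top, map_gen, gen_le_iff]
    intro w hw
    simp only [CL.HN.gw, List.mem_cons, List.not_mem_nil, or_false] at hw
    rcases hw with rfl | rfl | rfl | rfl <;> rw [ev_singleton, hη _ (by decide)]
    exacts [subset_closure (by simp [lt7]), subset_closure (by simp [lt7]),
      subset_closure (by simp [lt7]), um]

theorem exists_HN [Finite G] {x y ζ k b a g v w l : G}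
    [((zpowers g).subgroupOf (centralizer (zpowers g : Set G))).Normal]
    {ψ : centralizer (zpowers g : Set G) ⧸ (zpowers g).subgroupOf _ →* Fi24} (P : Ps ψ)
    (hζ : ζ * ζ = 1) (h : ∀ r ∈ RH, ev (lt7 x y ζ 1) r = 1) (hb : b * b = 1) (hk : k * k = 1)
    (ka : k * (x * x) * k = a) (o : orderOf (a * b) = 5) (hbb : Commute b (k * b * k))
    (h1 : ∀ u ∈ [x, y, ζ, g, v, w, l], Commute u a ∧ Commute u b)
    (h2 : ∀ u ∈ [y, g, v, w, l], Commute u k ∧ Commute u (x⁻¹ * k * x))
    (h2' : Commute (x⁻¹ * y * x) k) (h3 : ∀ u ∈ [g, v, w, l], Commute ζ u ∧ Commute (x * x) u)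
    (ζc : Commute ζ (x * x)) (n1 : ζ ≠ 1) (n2 : ζ ≠ x * x) (nc : ¬ Commute ζ y)
    (hg : orderOf g = 3) (nl : ¬ Commute g l) (hv : v * v = 1) (hw : w ^ 3 = 1)
    (nw : ¬ Commute v w) (gv : Commute v g) (gw : Commute w g) :
    ∃ η : HN →* G, Function.Injective η ∧ η.range ≤ centralizer {a, b} := by
  have x4 : x * x * (x * x) = 1 := by simpa [ev, lt7, mul_assoc] using h [0,0,0,0] (by decide)
  have ki : k⁻¹ = k := inv_eq_of_mul_eq_one_left hk
  have kk : ∀ u, k * (k * u) = u := fun u => by rw [← mul_assoc, hk, one_mul]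
  have hx := h1 x (by simp)
  have hy := h1 y (by simp)
  have et : x * x * (k * b * k) = k * (a * b) * k⁻¹ := by
    rw [← ka, ki]; simp only [mul_assoc, kk]
  have ot : orderOf (x * x * (k * b * k)) = 5 := by
    rw [et, ← o]; exact (MulAut.conj k).orderOf_eq _
  have b1 : k * b * k * (k * b * k) = 1 := by
    simp only [mul_assoc, kk]; rw [← mul_assoc b, hb, one_mul, hk]
  have a1 : Commute (k * b * k) a := by
    have := (hx.2.mul_left hx.2).map (MulAut.conj k)
    simpa [ki, ka] using this.symm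
  have s1 : Commute (k * b * k) (a * b) := a1.mul_right hbb.symm
  have xs : Commute x (a * b) := hx.1.mul_right hx.2
  have e2 : x⁻¹ * (k * b * k) * x = x⁻¹ * k * x * b * (x⁻¹ * k * x) := by
    calc _ = x⁻¹ * k * (b * x) * x⁻¹ * k * x := by group
      _ = _ := by rw [← hx.2.eq]; group
  have e3 : x⁻¹ * (x * x * (k * b * k)) * x = x * x * (x⁻¹ * (k * b * k) * x) := by group
  have u1 : ∀ u ∈ [y, g, v, w, l], Commute (k * b * k) u ∧ Commute (x⁻¹ * (k * b * k) * x) u :=
    fun u hu => by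
      have p := (h1 u (by simp only [List.mem_cons] at hu ⊢; tauto)).2
      have q := h2 u hu
      exact ⟨((q.1.mul_right p).mul_right q.1).symm, e2 ▸ ((q.2.mul_right p).mul_right q.2).symm⟩
  have cs : ∀ u ∈ [x, y, ζ, g, v, w, l], Commute u (a * b) := fun u hu =>
    (h1 u hu).1.mul_right (h1 u hu).2
  have cy : Commute (x * x) y := by
    have := h [0,0,2,0,0,3] (by decide)
    simp only [ev, lt7, List.map, List.getD_cons_zero, List.getD_cons_succ, List.prod_cons,
      List.prod_nil, mul_one] at this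
    calc x * x * y = x * (x * (y * (x * (x * y⁻¹)))) * y * (x * x) * (x * x * (x * x))⁻¹ := by group
      _ = y * (x * x) := by rw [this, x4]; group
  have C := concl_of (s := a * b) (l := l) (c := x * x) (ζ := ζ) (b₁ := k * b * k)
    (b := x⁻¹ * (k * b * k) * x) (v := v) (w := w) P hg o (cs g (by simp)).symm nl x4 b1 ot hζ ζc n1
    n2 (by rw [← (MulAut.conj x⁻¹).map_one, ← b1]; simp [mul_assoc])
    (by rw [← e3, ← ot]; simpa using (MulAut.conj x⁻¹).orderOf_eq _) hv hw nw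
    (by
      simp only [List.forall_mem_cons] at h3 u1 ⊢
      refine ⟨⟨xs.mul_left xs, by tauto⟩, ⟨cs ζ (by simp), by tauto⟩, ⟨s1, by tauto⟩,
        ⟨(xs.inv_left.mul_left ?_).mul_left xs, by tauto⟩, by simp⟩
      exact s1) gv gw (cs v (by simp)) (cs w (by simp))
  rw [← e3] at C
  obtain ⟨η, i, r⟩ := exists_hom hζ h ot (by
      calc _ = x * x * (x * x) * (k * b * k) * (x * x * (x * x)) * (k * b * k) := by group
        _ = 1 := by rw [x4, one_mul, mul_one, b1])
    (cy.mul_left (u1 y (by simp)).1)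
    (Commute.mul_left (by simpa [mul_assoc] using cy.map (MulAut.conj x⁻¹))
      ((h2'.mul_right ((hx.2.inv_left.mul_left hy.2).mul_left hx.2)).mul_right h2').symm)
    (e3 ▸ cy.mul_left (u1 y (by simp)).2) nc C
  refine ⟨η, i, r.trans ((closure_le _).2 fun u hu => mem_centralizer_iff.2 fun d hd => ?_)⟩
  have : Commute u a ∧ Commute u b := by
    rcases hu with rfl | rfl | rfl | rfl
    exacts [hx, hy, h1 _ (by simp), ⟨(hx.1.mul_left hx.1).mul_left a1,
      (hx.2.mul_left hx.2).mul_left hbb.symm⟩]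
  rcases hd with rfl | rfl
  exacts [this.1.eq.symm, this.2.eq.symm]

end CL.MP.HNA
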