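import Mathlib
import Cfsg.Agent.SPOR.LeechWalk
import Cfsg.Agent.SPOR.Griess.PkEx
import Cfsg.Agent.SPOR.Griess.Space

/-! Labels: the Leech lattice modulo two, numbered by the numbers below `2 ^ 24`. -/

set_option autoImplicit false
set_option exponentiation.threshold 700

namespace CL.MP

open Cfsg CL.Leech CL.MT CL.Gr CL.Gr.PL CL.K CL.Pack Finset
open CL.Golay (E)

/-- bit number `j` -/
def bt (p j : ℕ) : ZMod 2 := if p.testBit j then 1 else 0

theorem bt_xor (p q j : ℕ) : bt (p ^^^ q) j = bt p j + bt q j := by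
  simp only [bt, Nat.testBit_xor]
  cases p.testBit j <;> cases q.testBit j <;> decide

theorem bt_and (p q j : ℕ) : bt (p &&& q) j = bt p j * bt q j := by
  simp only [bt, Nat.testBit_and]
  cases p.testBit j <;> cases q.testBit j <;> decide

theorem bt_shiftRight (p k j : ℕ) : bt (p >>> k) j = bt p (k + j) := by
  simp only [bt, Nat.testBit_shiftRight]

theorem bt_shiftLeft (p k j : ℕ) : bt (p <<< k) j = if k ≤ j then bt p (j - k) else 0 := by
  simp only [bt, Nat.testBit_shiftLeft]
  by_cases h : k ≤ j <;> simp [h]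

theorem bt_mask (n j : ℕ) : bt (2 ^ n - 1) j = if j < n then 1 else 0 := by
  simp [bt]

theorem bt_pow (n j : ℕ) : bt (2 ^ n) j = if n = j then 1 else 0 := by
  simp [bt, Nat.testBit_two_pow]

theorem bt_mod (p n j : ℕ) : bt (p % 2 ^ n) j = if j < n then bt p j else 0 := by
  simp only [bt, Nat.testBit_mod_two_pow]
  by_cases h : j < n <;> simp [h]

theorem bt_zero (j : ℕ) : bt 0 j = 0 := by simp [bt]

theorem bt_of_lt {p n j : ℕ} (h : p < 2 ^ n) (hj : n ≤ j) : bt p j = 0 := by
  rw [bt, Nat.testBit_lt_two_pow (h.trans_le (Nat.pow_le_pow_right two_pos hj))]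
  rfl

theorem bt_ext' {p q : ℕ} (h : ∀ j, bt p j = bt q j) : p = q :=
  Nat.eq_of_testBit_eq fun j => by
    have := h j
    unfold bt at this
    revert this
    cases p.testBit j <;> cases q.testBit j <;> decide

theorem bt_ext {p q n : ℕ} (hp : p < 2 ^ n) (hq : q < 2 ^ n) (h : ∀ j < n, bt p j = bt q j) :
    p = q := bt_ext' fun j => by
  rcases lt_or_ge j n with hj | hj
  · exact h j hj
  · rw [bt_of_lt hp hj, bt_of_lt hq hj]

theorem bt_eq_cast (p j : ℕ) : bt p j = ((p / 2 ^ j : ℕ) : ZMod 2) := by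
  rw [bt, Nat.testBit_eq_decide_div_mod_eq, ← ZMod.natCast_mod _ 2]
  rcases Nat.mod_two_eq_zero_or_one (p / 2 ^ j) with h | h <;> simp [h]

theorem cast_bit (p j : ℕ) : ((bit p j : ℕ) : ZMod 2) = bt p j := by
  rw [bit_eq, bt]; split_ifs <;> simp

theorem val_bt (p j : ℕ) : (bt p j).val = bit p j := by
  rw [bit_eq, bt]; split_ifs <;> rfl

/-- the number with given bits -/
def ofB (n : ℕ) (f : ℕ → ZMod 2) : ℕ := ∑ j ∈ range n, (f j).val * 2 ^ j

theorem ofB_lt (n : ℕ) (f : ℕ → ZMod 2) : ofB n f < 2 ^ n :=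
  sum_pow_lt 2 _ n fun k _ => ZMod.val_lt (f k)

theorem bt_ofB {n j : ℕ} (f : ℕ → ZMod 2) (hj : j < n) : bt (ofB n f) j = f j := by
  rw [bt_eq_cast, ← ZMod.natCast_mod _ 2, ofB,
    digit_sum 2 (fun j => (f j).val) n (fun k _ => ZMod.val_lt (f k)) hj, ZMod.natCast_zmod_val]

/-- the parity of a number of twelve bits -/
def parB (x : ℕ) : ℕ := Nat.land (pc12 x) 1

theorem parB_lt (x : ℕ) : parB x < 2 := Nat.lt_succ_of_le Nat.and_le_right

theorem cast_parB {x : ℕ} (hx : x < 4096) : ((parB x : ℕ) : ZMod 2) = ∑ j ∈ range 12, bt x j := by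
  show ((pc12 x &&& 1 : ℕ) : ZMod 2) = _
  rw [Nat.and_one_is_mod, ZMod.natCast_mod, pc12_eq hx, cnt_eq_sum, Nat.cast_sum]
  exact Finset.sum_congr rfl fun j _ => cast_bit x j

/-- the partner of a basis index -/
def sw (j : ℕ) : ℕ := (j + 12) % 24

theorem sw_lt (j : ℕ) : sw j < 24 := Nat.mod_lt _ (by norm_num)

theorem sw_sw {j : ℕ} (h : j < 24) : sw (sw j) = j := by unfold sw; omega

/-- the basis vectors -/
def WC : ℕ := 0x2a5294a5294a5294a5294a5294a52961108421084210842108421084210862088421084210842108421084210862104421084210842108421084210862108221084210842108421084210862108411084210842108421084210862108420884210842108421084210862108421044210842108421084210862108421082210842108421084210862108421084110842108421084210862108421084208842108421084210862108421084210442108421084210882108421084210842108421084210842908421084210852148429085294a4214842108421085294a42948521086110a42108421084294a5214a429084210852108421084214a5290a521484210842908421084210a529485290a421084214842108521485214a5210a621084110a421085294a4210a4214a6210842088521085290a529084294842108421084290842948529484214a6210842108411485210a4214a5294862088421084210a429085210a5294a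
/-- the dual basis -/
def WD : ℕ := 0x82108421084210842108421084210842908421084210852148429085294a4214842108421085294a42948521086110a42108421084294a5214a429084210852108421084214a5290a521484210842908421084210a529485290a421084214842108521485214a5210a621084110a421085294a4210a4214a6210842088521085290a529084294842108421084290842948529484214a6210842108411485210a4214a5294862088421084210a429085210a5294a2a5294a5294a5294a5294a5294a529611084210842108421084210842108620884210842108421084210842108621044210842108421084210842108621082210842108421084210842108621084110842108421084210842108621084208842108421084210842108621084210442108421084210842108621084210822108421084210842108621084210841108421084210842108621084210842088421084210842108621084210842104421084210842108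

theorem ent_WC : ∀ j < 24, ∀ i < 24, ent WC j i ≤ 16 := by decide +kernel
theorem ent_WD : ∀ j < 24, ∀ i < 24, ent WD j i = ent WC (sw j) i := by decide +kernel
theorem isL_WC : allLt (fun j => isL (rowOf WC j)) 24 = true := by decide +kernel
theorem gram_WC : allLt2 (fun t => decide (dotC (rowOf WC (t / 24)) (rowOf WC (t % 24)) % 16 =
    if t % 24 = sw (t / 24) then 8 else 0)) 24 24 = true := by decide +kernel
theorem norm_WC : allLt (fun j => decide (dotC (rowOf WC j) (rowOf WC j) = 32 ∨
    dotC (rowOf WC j) (rowOf WC j) = 64)) 24 = true := by decide +kernel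

theorem vec_rowOf {c j : ℕ} (h : ∀ i < 24, ent c j i ≤ 16) : vec (rowOf c j) = rowv c j := by
  rw [← enc_rowv, vec_enc (bd_rowv h)]

/-- the basis vector number `j` -/
noncomputable def wv (j : ℕ) : leechLattice :=
  if h : j < 24 then lv (rowOf WC j) (allLt_iff.1 isL_WC j h) else 0

theorem wv_coe {j : ℕ} (h : j < 24) : (wv j : GolayPt → ℤ) = rowv WC j := by
  rw [wv, dif_pos h]; exact vec_rowOf (ent_WC j h)

theorem enc_wv {j : ℕ} (h : j < 24) : enc (wv j : GolayPt → ℤ) = rowOf WC j := by
  rw [wv_coe h, enc_rowv]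

theorem norm_wv {j : ℕ} (h : j < 24) :
    sqNorm (wv j : GolayPt → ℤ) = 32 ∨ sqNorm (wv j : GolayPt → ℤ) = 64 := by
  rw [wv_coe h, ← vec_rowOf (ent_WC j h), sqNorm_vec]
  exact of_decide_eq_true (allLt_iff.1 norm_WC j h)

theorem fm_wv {i j : ℕ} (hi : i < 24) (hj : j < 24) :
    fm (wv i) (wv j) = if j = sw i then 1 else 0 := by
  have h := of_decide_eq_true (allLt2_iff.1 gram_WC (24 * i + j) (by omega))
  rw [show (24 * i + j) / 24 = i by omega, show (24 * i + j) % 24 = j by omega, ← dot_vec,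
    vec_rowOf (ent_WC i hi), vec_rowOf (ent_WC j hj), ← wv_coe hi, ← wv_coe hj] at h
  have e : fm (wv i) (wv j) = 0 ↔ _ := fm_eq_zero_iff
  split_ifs at h ⊢
  · exact Golay.zmod2_ne_zero_iff.1 fun h0 => by have := e.1 h0; omega
  · exact e.2 (by omega)

/-- partial sums of basis vectors -/
noncomputable def lvF (n : ℕ) (f : ℕ → ZMod 2) : leechLattice := ∑ j ∈ range n, (f j).val • wv j

theorem fm_lvF {n i : ℕ} (hn : n ≤ 24) (hi : i < 24) (f : ℕ → ZMod 2) :
    fm (lvF n f) (wv i) = if sw i < n then f (sw i) else 0 := by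
  rw [lvF, map_sum, AddMonoidHom.finsetSum_apply,
    Finset.sum_congr rfl (g := fun j => if sw i = j then f j else 0) fun j hj => ?_]
  · simp
  · have hj := (mem_range.1 hj).trans_le hn
    rw [map_nsmul, AddMonoidHom.nsmul_apply, fm_comm, fm_wv hi hj, nsmul_eq_mul,
      ZMod.natCast_zmod_val]
    simp [eq_comm]

/-- a lattice vector with a given label -/
noncomputable def lvL (p : ℕ) : leechLattice := lvF 24 (bt p)

/-- the label of a lattice vector -/
noncomputable def lab (v : leechLattice) : ℕ := ofB 24 fun j => fm v (wv (sw j))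

theorem lab_lt (v : leechLattice) : lab v < 2 ^ 24 := ofB_lt _ _

theorem bt_lab (v : leechLattice) {j : ℕ} (hj : j < 24) : bt (lab v) j = fm v (wv (sw j)) :=
  bt_ofB _ hj

theorem lab_add (v w : leechLattice) : lab (v + w) = lab v ^^^ lab w :=
  bt_ext (lab_lt _) (Nat.xor_lt_two_pow (lab_lt _) (lab_lt _)) fun j hj => by
    rw [bt_xor, bt_lab _ hj, bt_lab _ hj, bt_lab _ hj, map_add, AddMonoidHom.add_apply]

theorem lab_zero : lab 0 = 0 := by
  have := lab_add 0 0
  rwa [add_zero, Nat.xor_self] at this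

theorem lab_lvL (p : ℕ) : lab (lvL p) = p % 2 ^ 24 :=
  bt_ext (lab_lt _) (Nat.mod_lt _ (by norm_num)) fun j hj => by
    rw [bt_lab _ hj, lvL, fm_lvF le_rfl (sw_lt j), sw_sw hj, if_pos hj, bt_mod, if_pos hj]

theorem fm_cong {v w : leechLattice} (h : Cong v w) (u : leechLattice) : fm v u = fm w u := by
  obtain ⟨z, hz⟩ := h
  rw [sub_eq_iff_eq_add.1 hz, two_nsmul]
  simp [z2_add_self]

theorem cong_iff_lab {v w : leechLattice} : Cong v w ↔ lab v = lab w := by
  refine ⟨fun h => by simp only [lab, fm_cong h], fun h => ?_⟩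
  let φ : (Fin 24 → ZMod 2) → Fin 24 → ZMod 2 := fun u j => fm (sec u) (wv (sw j))
  have e : ∀ v j, φ (rd v) j = bt (lab v) j := fun v j => by
    rw [bt_lab _ j.2]; exact fm_cong (cong_sec_rd v) _
  have hs : Function.Surjective φ := fun t => ⟨rd (lvL (ofB 24 fun j =>
      if h : j < 24 then t ⟨j, h⟩ else 0)), funext fun j => by
    rw [e, lab_lvL, bt_mod, if_pos j.2, bt_ofB _ j.2, dif_pos j.2]⟩
  exact rd_eq_iff.1 (Finite.injective_iff_surjective.2 hs (funext fun j => by rw [e, e, h]))

theorem cong_lvL_lab (v : leechLattice) : Cong (lvL (lab v)) v :=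
  cong_iff_lab.2 (by rw [lab_lvL, Nat.mod_eq_of_lt (lab_lt v)])

theorem lab_neg (v : leechLattice) : lab (-v) = lab v := cong_iff_lab.1 (cong_neg v)

theorem lab_sub (v w : leechLattice) : lab (v - w) = lab v ^^^ lab w := by
  rw [sub_eq_add_neg, lab_add, lab_neg]

theorem lvL_xor (p q : ℕ) : Cong (lvL (p ^^^ q)) (lvL p + lvL q) :=
  cong_iff_lab.2 (by rw [lab_add, lab_lvL, lab_lvL, lab_lvL, Nat.xor_mod_two_pow])

theorem lab_wv {j : ℕ} (hj : j < 24) : lab (wv j) = 2 ^ j :=
  bt_ext (lab_lt _) (Nat.pow_lt_pow_right one_lt_two hj) fun i hi => by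
    rw [bt_lab _ hi, fm_wv hj (sw_lt i), bt_pow]
    congr 1
    unfold sw
    simp only [eq_iff_iff]
    omega

noncomputable def MD : ℕ := matOf WD
noncomputable def KD : ℕ := kOf MD
def O12 : ℕ := 0x800400200100080040020010008004002001

/-- the label of a code -/
noncomputable def labC (X : ℕ) : ℕ := force (app MD KD X) fun Y =>
  Nat.add (Nat.mod (Nat.land Y O12) 8190)
    (Nat.shiftLeft (Nat.mod (Nat.land (Nat.shiftRight Y 156) O12) 8190) 12)

theorem labC_eq (X : ℕ) : labC X = (app MD KD X &&& O12) % 8190 +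
    (((app MD KD X >>> 156) &&& O12) % 8190) <<< 12 := by
  rw [labC, force_eq]
  generalize app MD KD X = Y
  generalize O12 = O
  rfl

theorem O12_eq : O12 = ∑ e ∈ range 24, (if e < 12 then 1 else 0) * (2 ^ 13) ^ e := by decide +kernel

theorem half_bits (y : ℕ → ℕ) (hy : ∀ e < 24, y e < 8192) :
    (pk y &&& O12) % 8190 = ofB 12 fun e => (y e : ZMod 2) := by
  have h1 := land_sum 13 y (fun e => if e < 12 then 1 else 0) 24 hy
    (fun k _ => by split_ifs <;> norm_num)
  rw [← O12_eq] at h1
  rw [show pk y = ∑ k ∈ range 24, y k * (2 ^ 13) ^ k from rfl, h1,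
    ← Nat.mod_eq_of_lt (lt_trans (ofB_lt 12 fun e => (y e : ZMod 2)) (by norm_num : _ < 8190)), ofB,
    show 24 = 12 + 12 from rfl, Finset.sum_range_add,
    Finset.sum_eq_zero (s := range 12) (f := fun x => (y (12 + x) &&& if 12 + x < 12 then 1 else 0) *
      (2 ^ 13) ^ (12 + x)) fun x _ => by simp, add_zero]
  refine Nat.ModEq.sum fun e he => ?_
  rw [if_pos (mem_range.1 he), Nat.and_one_is_mod, ZMod.val_natCast]
  exact Nat.ModEq.mul_left _ (Nat.ModEq.pow e (by decide))

theorem pk_shift (y : ℕ → ℕ) (hy : ∀ e < 24, y e < 8192) :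
    pk y >>> 156 = pk fun e => if e < 12 then y (12 + e) else 0 := by
  have h1 := sum_pow_lt 8192 y 12 fun k hk => hy k (by omega)
  rw [Nat.shiftRight_eq_div_pow, pk, pk, show 24 = 12 + 12 from rfl, Finset.sum_range_add,
    Finset.sum_range_add, show 2 ^ 156 = 8192 ^ 12 by norm_num,
    Finset.sum_congr (f := fun x => y (12 + x) * 8192 ^ (12 + x)) rfl
      (g := fun x => 8192 ^ 12 * (y (12 + x) * 8192 ^ x)) fun x _ => by rw [pow_add, mul_left_comm],
    ← Finset.mul_sum, Nat.add_mul_div_left _ _ (by positivity), Nat.div_eq_of_lt h1, zero_add,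
    Finset.sum_eq_zero (s := range 12) (f := fun x => (if 12 + x < 12 then y (12 + (12 + x)) else 0) *
      8192 ^ (12 + x)) fun x _ => by simp, add_zero]
  exact Finset.sum_congr rfl fun x hx => by rw [if_pos (mem_range.1 hx)]

theorem abs_dot_le {v w : leechLattice} (hv : sqNorm (v : GolayPt → ℤ) ≤ 64)
    (hw : sqNorm (w : GolayPt → ℤ) ≤ 64) :
    -64 ≤ dotInt (v : GolayPt → ℤ) w ∧ dotInt (v : GolayPt → ℤ) w ≤ 64 := by
  have h1 := sqNorm_nonneg ((v : GolayPt → ℤ) + (w : GolayPt → ℤ))
  have h2 := sqNorm_nonneg ((v : GolayPt → ℤ) - (w : GolayPt → ℤ))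
  rw [sqNorm_add] at h1
  rw [sqNorm_sub] at h2
  omega

theorem labC_enc {x : leechLattice} (hx : sqNorm (x : GolayPt → ℤ) ≤ 64) :
    labC (enc x) = lab x := by
  have hb : Bd (x : GolayPt → ℤ) := bd_of_sqNorm (by omega)
  have hd : ∀ j < 24, ∑ i ∈ range 24, ((ent WD j i : ℤ) - 8) * ((xs x i : ℤ) - 8) =
      8 * form (wv (sw j)) x := fun j hj => by
    rw [eight_mul_form, wv_coe (sw_lt j), dot_rowv _ _ hb]
    exact Finset.sum_congr rfl fun i hi => by rw [ent_WD j hj i (mem_range.1 hi)]
  have hr : ∀ j, -8 ≤ form (wv (sw j)) x ∧ form (wv (sw j)) x ≤ 8 := fun j => by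
    have := abs_dot_le (v := wv (sw j)) (by rcases norm_wv (sw_lt j) with e | e <;> omega) hx
    rw [← eight_mul_form] at this
    omega
  set y : ℕ → ℕ := fun j => (form (wv (sw j)) x + 8).toNat with hy
  have hy1 : ∀ e < 24, y e < 8192 := fun e _ => by have := hr e; simp only [hy]; omega
  have hy2 : ∀ e, (y e : ZMod 2) = fm x (wv (sw e)) := fun e => by
    rw [fm_comm, fm_apply, ← Int.cast_natCast]
    exact z2_cast_eq (by have := hr e; simp only [hy]; omega)
  have ha : app MD KD (enc x) = pk y := by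
    rw [KD, MD, matOf_eq]
    exact app_eq (fun j hj i hi => ent_WD j hj i hi ▸ ent_WC _ (sw_lt j) i hi)
      (fun i _ => xs_le hb i) fun j hj => by rw [hd j hj]; have := hr j; simp only [hy]; omega
  have h3 := half_bits (fun e => if e < 12 then y (12 + e) else 0) fun e _ => by
    split_ifs
    exacts [hy1 _ (by omega), by norm_num]
  have h4 : lab x = ofB 12 (fun e => (y e : ZMod 2)) +
      ofB 12 (fun e => ((if e < 12 then y (12 + e) else 0 : ℕ) : ZMod 2)) <<< 12 := by
    rw [Nat.shiftLeft_eq, lab, ofB, ofB, ofB, show 24 = 12 + 12 from rfl, Finset.sum_range_add,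
      Finset.sum_mul]
    refine congrArg₂ _ (Finset.sum_congr rfl fun e _ => by rw [hy2])
      (Finset.sum_congr rfl fun e he => by rw [if_pos (mem_range.1 he), hy2]; ring)
  rw [labC_eq, ha, pk_shift y hy1, half_bits y hy1, h3, h4]

theorem labC_lv {X : ℕ} (h : isL X = true) (hn : dotC X X ≤ 64) : labC X = lab (lv X h) := by
  rw [← labC_enc (x := lv X h) (by rwa [← sqNorm_vec] at hn), enc_lv]

/-- labels of short vectors -/
def ShL (l : ℕ) : Prop := ∃ v : leechLattice, sqNorm (v : GolayPt → ℤ) = 32 ∧ lab v = l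

theorem shL_of_code {X : ℕ} (h : isL X = true) (hn : dotC X X = 32) : ShL (labC X) :=
  ⟨lv X h, by rwa [← sqNorm_vec] at hn, (labC_lv h (by omega)).symm⟩

theorem ShL.lt {l : ℕ} (h : ShL l) : l < 2 ^ 24 := let ⟨v, _, e⟩ := h; e ▸ lab_lt v

/-- the labels of the vectors `(-3, 1^23)` -/
def lZ (e : ℕ) : ℕ := Nat.shiftLeft (fld 12 4095
  0x800c00a00900880840820810808804802801e3ab1dfb4bda9edeccb669b3ee3d4bc9fc75 e) 12

theorem lZ_chk : allLt (fun e => Nat.beq (labC (9 * ONES - 4 * 8192 ^ e)) (lZ e)) 24 = true := by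
  decide +kernel

theorem enc_lam (i : GolayPt) :
    enc (lam i : GolayPt → ℤ) = pk fun j => if j = E.enc i then 5 else 9 := by
  refine pk_congr fun k hk => ?_
  rw [xs, lam_apply]
  by_cases h : k = E.enc i
  · rw [if_pos h, if_pos (by rw [h, E.dec_enc])]; rfl
  · rw [if_neg h, if_neg (fun h' => h (by rw [← h', E.enc_dec k hk]))]; rfl

theorem pk_lam : ∀ k < 24, (pk fun j => if j = k then 5 else 9) = 9 * ONES - 4 * 8192 ^ k := by
  decide +kernel

theorem lab_lam (i : GolayPt) : lab (lam i) = lZ (E.enc i) := by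
  have h : labC (9 * ONES - 4 * 8192 ^ E.enc i) = lZ (E.enc i) :=
    Nat.eq_of_beq_eq_true (allLt_iff.1 lZ_chk _ (E.enc_lt i))
  have n : sqNorm (lam i : GolayPt → ℤ) ≤ 64 := (sqNorm_odd3 i).le.trans (by norm_num)
  rw [← labC_enc n, enc_lam, pk_lam _ (E.enc_lt i), h]

theorem lab_vB (i j : GolayPt) : lab (vB i j) = lZ (E.enc i) ^^^ lZ (E.enc j) := by
  rw [vB_eq, lab_sub, lab_lam, lab_lam, Nat.xor_comm]

theorem wv_11 : wv 11 = e8 none := Subtype.ext (by
  have : ∀ p : GolayPt, rowv WC 11 p = if p = none then 8 else 0 := by decide +kernel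
  rw [wv_coe (by norm_num), coe_e8]
  exact funext fun p => by rw [this, Pi.single_apply])

theorem cong_vO : Cong vO (wv 11) := ⟨lam none, Subtype.ext (funext fun p => by
  rw [wv_11, two_nsmul]
  show 2 * lift 1 p - Pi.single (M := fun _ => ℤ) none 8 p = (lam none).1 p + (lam none).1 p
  rw [lam_apply, lift_one, Pi.single_apply]
  split_ifs <;> norm_num)⟩

theorem lab_vO : lab vO = 2048 := by
  rw [cong_iff_lab.1 cong_vO, lab_wv (by norm_num)]; norm_num

theorem lab_vC (i j : GolayPt) : lab (vC i j) = lab (vB i j) ^^^ 2048 := by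
  rw [vC_eq, vB_eq, lab_sub, lab_sub, lab_sub, show lamC Om = vO from rfl, lab_vO, Nat.xor_assoc,
    Nat.xor_comm]

theorem ent_of_okMK {c M K : ℕ} (h : okMK c M K = true) : ∀ j < 24, ∀ i < 24, ent c j i ≤ 16 := by
  simp only [okMK, Bool.and_eq_true, allLt2_iff, force_eq, kk_eq] at h
  exact fun j hj i hi => Nat.le_of_ble_eq_true (h.1 (24 * j + i) (by omega))

theorem km_of_rep {k : Co0} {c : ℕ} (ha : ∀ j < 24, ∀ i < 24, ent c j i ≤ 16)
    (hc : Rep k (matOf c) (kOf (matOf c))) (p q : GolayPt) :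
    8 * km ℝ k p q = (ent c (E.enc p) (E.enc q) : ℝ) - 8 := by
  have h1 := hc (e8 q) (by rw [sqNorm_e8]; norm_num)
  rw [enc_e8, c8_eq (E.enc_lt q), matOf_eq, app_eq (y := fun j => ent c j (E.enc q)) ha
    (fun i _ => by split_ifs <;> norm_num) fun j _ => by
      rw [Finset.sum_eq_single_of_mem (E.enc q) (mem_range.2 (E.enc_lt q)) fun b _ hb => by
        simp [hb]]
      simp [mul_comm]] at h1
  have h2 := congrFun (vec_enc (x := (k • e8 q : leechLattice))
    (bd_of_sqNorm (by rw [sqNorm_smul, sqNorm_e8]; norm_num))) p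
  rw [← h1, vec, dg_pk (fun e he => (ha e he _ (E.enc_lt q)).trans_lt (by norm_num))
    (E.enc_lt p)] at h2
  rw [km, Matrix.of_apply, cv, ← h2]
  push_cast
  ring

end CL.MP
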