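import Mathlib
import Cfsg.Agent.SPOR.MP.Lab
import Cfsg.Agent.SPOR.CE

/-! Words in elements of the centraliser of the central involution, evaluated on tableaux. -/

set_option autoImplicit false

namespace CL.MP.HNA

open Cfsg CL.Leech CL.MT CL.Gr CL.MO CL.K CL.Pack CL.CE Finset Matrix
open CL.Golay (E)

variable (P : Pk ℝ)

/-- the element of `Q` with a given signed label -/
noncomputable def xe (p : ℕ) : GG P := (acts_of_ov (Cl.ov_of_pm (XL_pm (P := P) p))).choose

/-- `g` has the tableau `T` -/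
def Tq (g : GG P) (T : ℕ) : Prop := ∃ k h, El P k h T ∧ P.dat.Acts k h g.1

/-- the tableau of a product -/
noncomputable def cmpT (T T' : ℕ) : ℕ :=
  sumLt (fun j => Nat.shiftLeft (force (lane T' j) (apT T)) (Nat.mul 32 j)) 24

/-- the tableau of the identity -/
def idT : ℕ := ∑ j ∈ range 24, 2 ^ j * (2 ^ 32) ^ j

/-- the tableau of a word -/
noncomputable def evT (L : List ℕ) (i : ℕ) (w : List ℕ) : ℕ :=
  List.rec (motive := fun _ => ℕ) i (fun a _ ih => force ih (cmpT (L.getD a i))) w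

variable {P} {g g' b : GG P} {T T' p q : ℕ}

theorem xe_acts (p : ℕ) : P.dat.Acts 1 (XL P p) (xe P p).1 :=
  (acts_of_ov (Cl.ov_of_pm (XL_pm (P := P) p))).choose_spec

theorem xe_R (p : ℕ) : P.dat.R kR (lvL p) (xe P p) := ⟨_, XL_pm p, xe_acts p⟩

theorem xe_mul (p q : ℕ) : xe P p * xe P q = xe P (pmul p q) :=
  ((xe_acts p).mul1 (xe_acts q)).eq (XL_mul (P := P) p q ▸ xe_acts _)

theorem xe_neg (p : ℕ) : xe P p * zz P = xe P (p ^^^ 2 ^ 24) :=
  (xe_acts p).mul_z.eq (XL_neg (P := P) p ▸ xe_acts _)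

theorem xe_R' {v : leechLattice} (h : lab v = p % 2 ^ 24) : P.dat.R kR v (xe P p) :=
  (mt P).R_of_cong (xe_R p) (cong_iff_lab.2 (by rw [lab_lvL, h]))

theorem xe_inj (h : xe P p = xe P q) : p % 2 ^ 24 = q % 2 ^ 24 := by
  rw [← lab_lvL, ← lab_lvL]
  exact cong_iff_lab.1 ((mt P).cong_of (xe_R p) (h ▸ xe_R q))

theorem exists_xe {x : GG P} (hx : x ∈ QQ P) : ∃ p, x = xe P p := by
  obtain ⟨v, hv⟩ := (mt P).ex_v x hx
  rcases (mt P).cases_of (xe_R' (p := lab v) (Nat.mod_eq_of_lt (lab_lt v)).symm) hv with e | e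
  exacts [⟨_, e⟩, ⟨_, e.trans (xe_neg _)⟩]

theorem Tq.conj (t : Tq P g T) (p : ℕ) : g * xe P p * g⁻¹ = xe P (apT T p) :=
  let ⟨_, _, e, a⟩ := t
  conj_acts e.1 a (xe_acts p) (e.2 p ▸ xe_acts _)

theorem Tq.comm_z (t : Tq P g T) : Commute g (zz P) := let ⟨_, _, _, a⟩ := t; a.comm

theorem Tq.comm (t : Tq P g T) (h : apT T p = p) : Commute g (xe P p) := by
  have := t.conj p
  rw [h, mul_inv_eq_iff_eq_mul] at this
  exact this

theorem lane_sum {f : ℕ → ℕ} (hf : ∀ j < 24, f j < 2 ^ 25) {j : ℕ} (hj : j < 24) :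
    lane (∑ i ∈ range 24, f i * (2 ^ 32) ^ i) j = f j := by
  have := digit_sum (2 ^ 32) f 24 (fun k hk => (hf k hk).trans (by norm_num)) hj
  rw [lane, fld_eq, Nat.shiftRight_eq_div_pow, pow_mul, show 33554431 = 2 ^ 25 - 1 from rfl,
    Nat.and_two_pow_sub_one_eq_mod, ← Nat.mod_mod_of_dvd _ (by norm_num : 2 ^ 25 ∣ 2 ^ 32), this,
    Nat.mod_eq_of_lt (hf j hj)]

theorem lane_cmpT (T T' : ℕ) {j : ℕ} (hj : j < 24) : lane (cmpT T T') j = apT T (lane T' j) := by
  rw [cmpT, sumLt_eq, Finset.sum_congr rfl (g := fun i => apT T (lane T' i) * (2 ^ 32) ^ i)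
    fun i _ => by rw [force_eq, ← pow_mul]; exact Nat.shiftLeft_eq _ _]
  exact lane_sum (fun _ _ => apT_lt _ _) hj

theorem apT_pow : ∀ j < 24, ∀ T, apT T (2 ^ j) = lane T j := fun j hj T => by
  have : ∀ n ≤ 24, apN T (2 ^ j) n = if j < n then lane T j else 0 := fun n hn => by
    induction n with
    | zero =>
      rw [apN_zero, if_neg (by omega)]
      exact bt_ext' fun i => by
        rw [bt_and, bt_pow, bt_pow, bt_zero]
        split_ifs <;> first | omega | simp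
    | succ n ih =>
      rw [apN_succ, ih (by omega), bt_pow]
      rcases lt_trichotomy j n with h | h | h
      · rw [if_neg h.ne, if_pos rfl, if_pos h, if_pos (by omega)]
      · rw [if_pos h, if_neg one_ne_zero, if_neg (by omega), if_pos (by omega), pmul_eq_xor
          (by simp [cs, bt_zero]), Nat.zero_xor, h]
      · rw [if_neg h.ne', if_pos rfl, if_neg (by omega), if_neg (by omega)]
  rw [apT, this 24 le_rfl, if_pos hj]

theorem Tq.mul (t : Tq P g T) (t' : Tq P g' T') : Tq P (g * g') (cmpT T T') :=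
  let ⟨_, _, e, a⟩ := t
  let ⟨_, _, e', a'⟩ := t'
  ⟨_, _, e.mul e' fun j hj => by rw [lane_cmpT _ _ hj, apT_pow j hj], a.mul two_ne_zero a'⟩

theorem tq_one : Tq P 1 idT :=
  ⟨1, 1, el_of_gens P.dat.ov_one fun j hj => by
    rw [idT, lane_sum (fun j hj => Nat.pow_lt_pow_right one_lt_two (by omega)) hj, XL_pow hj]
    simp, P.dat.acts_one two_ne_zero⟩

theorem tq_xe (h : allLt (fun j => Nat.beq (pmul p (2 ^ j)) (pmul (lane T j) p)) 24 = true) :
    Tq P (xe P p) T :=
  have o := Cl.ov_of_pm (XL_pm (P := P) p)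
  ⟨1, _, el_of_gens o fun j hj => by
    rw [← XL_pow hj, XL_mul, Nat.eq_of_beq_eq_true (allLt_iff.1 h j hj), ← XL_mul, Matrix.mul_assoc,
      o.orth', Matrix.mul_one], xe_acts p⟩

theorem Tq.cases (t : Tq P g T) (t' : Tq P g' T) : g = g' ∨ g = g' * zz P := by
  have := (mt P).lx.self_cent (g'⁻¹ * g) fun y hy => by
    obtain ⟨p, rfl⟩ := exists_xe hy
    calc g'⁻¹ * g * xe P p = g'⁻¹ * (g * xe P p * g⁻¹) * g := by group
      _ = _ := by rw [t.conj, ← t'.conj]; group
  exact this.imp (fun e => (inv_mul_eq_one.1 e).symm) fun e => inv_mul_eq_iff_eq_mul.1 e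

theorem Tq.ne (t : Tq P g T) (t' : Tq P g' T')
    (h : allLt (fun j => Nat.beq (lane T j % 2 ^ 24) (lane T' j % 2 ^ 24)) 24 = false) : g ≠ g' :=
  fun e => by
    rw [allLt_iff.2 fun j hj => Nat.beq_eq ▸ (apT_pow j hj T ▸ apT_pow j hj T' ▸ xe_inj
      (P := P) (by rw [← t.conj, ← t'.conj, e]))] at h
    exact absurd h (by decide)

variable (P b) in
/-- `g` has the tableau `T` and commutes with `b` -/
def St (g : GG P) (T : ℕ) : Prop := Tq P g T ∧ Commute g b

theorem St.eq (hb : ¬ Commute (zz P) b) (t : St P b g T) (t' : St P b g' T) : g = g' :=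
  (t.1.cases t'.1).resolve_right fun e => hb (by
    rw [← inv_mul_eq_iff_eq_mul.2 e]; exact t'.2.inv_left.mul_left t.2)

theorem St.mul (t : St P b g T) (t' : St P b g' T') : St P b (g * g') (cmpT T T') :=
  ⟨t.1.mul t'.1, t.2.mul_left t'.2⟩

theorem st_one : St P b 1 idT := ⟨tq_one, Commute.one_left b⟩

theorem st_ev {l : List (GG P)} {L : List ℕ} (h : List.Forall₂ (St P b) l L) (w : List ℕ) :
    St P b (ev (fun a => l.getD a 1) w) (evT L idT w) := by
  have h1 : ∀ a, St P b (l.getD a 1) (L.getD a idT) := by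
    induction h with
    | nil => exact fun _ => st_one
    | cons h _ ih => exact fun a => by cases a; exacts [h, ih _]
  induction w with
  | nil => exact st_one
  | cons a w ih =>
    rw [ev_cons, show evT L idT (a :: w) = cmpT (L.getD a idT) (evT L idT w) from force_eq _ _]
    exact (h1 a).mul ih

/-- the value of the quadratic form `A` at the vector with code `X` -/
def quad (A : ℕ → ℕ → ℤ) (X : ℕ) : ℤ :=
  ∑ i ∈ range 24, ∑ j ∈ range 24, A i j * ((dg X i : ℤ) - 8) * ((dg X j : ℤ) - 8)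

theorem ipp_xe {A : ℕ → ℕ → ℤ} {τ : ℕ → ℤ} (t : Tb P (axs P b) A τ) {X : ℕ} (h : isL X = true)
    (hn : dotC X X = 32) : xe P (labC X) ∈ DD P ∧
      ipp P b (xe P (labC X)) = (quad A X - 64 * τ (labC X)) / 32768 := by
  have n : sqNorm (lv X h : GolayPt → ℤ) = 32 := by rwa [← sqNorm_vec] at hn
  have e := labC_lv h (by omega)
  have r : P.dat.R kR (lv X h) (xe P (labC X)) :=
    xe_R' (by rw [e, Nat.mod_eq_of_lt (lab_lt _)])
  refine ⟨mem_DD_of_R r n, ?_⟩
  obtain ⟨η, hη, e1⟩ := ex_tx_of_R r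
  have e2 : XL P (labC X) = -η • P.x (lv X h) :=
    (xe_acts (labC X)).eq_right two_ne_zero (e1 ▸ tx_acts P _ hη)
  have e3 := t.2 _ (shL_of_code h hn)
  have e4 : (quad A X : ℝ) = 4096 * trace ((axs P b).1.1 * pr ℝ (lv X h)) := by
    simp only [quad, trace, diag_apply, Matrix.mul_apply, Gr.pr, vecMulVec_apply, cv,
      Finset.mul_sum, ← mul_assoc, t.1]
    rw [E.sum_eq]
    push_cast
    refine Finset.sum_congr rfl fun i hi => ?_
    rw [E.sum_eq]
    refine Finset.sum_congr rfl fun j hj => ?_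
    simp only [lv, Leech.vec, E.enc_dec i (mem_range.1 hi), E.enc_dec j (mem_range.1 hj)]
    push_cast
    ring
  have e5 : bf (axs P b) (ax (lv X h) η) = trace ((axs P b).1.1 * pr ℝ (lv X h)) / 128 +
      η / 8 * bf (axs P b) (Xv ℝ (lv X h)) := by
    obtain ⟨r, e⟩ := ex_rp n
    rw [bf_comm, bf_ax e, bf_Xv_fc (P := P) _ n, ← x_rp P e, fc_rp]
    ring
  rw [e2, fc_smul] at e3
  rw [ipp, e1, axs_tx n hη, BB_apply, e5, bf_Xv_fc _ n, e4, ← e3]
  ring

end CL.MP.HNA
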