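import Mathlib
import Cfsg.Agent.SPOR.MP.HND
import Cfsg.Agent.SPOR.MP.HNE
import Cfsg.Agent.SPOR.Cent3B
import Cfsg.Agent.SPOR.MonThree
import Cfsg.Agent.SPOR.Griess.MTFin

/-! The Harada-Norton group inside the automorphism group of the Griess algebra. -/

set_option autoImplicit false
set_option exponentiation.threshold 800

namespace CL.MP.HNA

open Cfsg Cfsg.Spor CL.Leech CL.MT CL.Gr CL.MO CL.K CL.CE CL.MP.HNC Subgroup

/-- the tableaux of the two generators -/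
def G0 : ℕ := 0x5891f00027cd5c012505a7010c16bf00d3dc3201d9d432014b98af004b95080046e5500115ab40010ab05400a47c91007fb0a301bc156e0107c4b101342df501dd8a5900dd8704014c98b5013d411801b9adc9001495a100d47f2400619505
def G1 : ℕ := 0x115bec016317fa005f0ffa017842070000d087010cc01e0013efd001cebb33000cabb901a0d19700f699a3018ab01301577ff400c7dd6000932aff00331faf019fe25700216710000d7df9019d5bcd0022447f008ea297017e6248013f3131
def G0i : ℕ := 0x1aa4a50074f7d9010c21040055fe1c00b2cb2100588c0e01f26be0003b0dcb004985300156372200c003e001bad321014ca0c1008e38f800d1960100dde8c401cf897201ff670d01a004ba00ad96f401aedcfe002124c90090a00f00c279f3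
def G1i : ℕ := 0x1f30a3a00d6862000bd6f3801d71e3e01b34eae00ebae2000f29e1a00aed67d0033ae4800b9c9c40038c7d7003bd19f0169401700c027120014b50600b93b22000b735900cb725a00f8f63300ff1e20014840ff00cfa9e400ae703900d31c97
def Tx : ℕ := 0x1c80a9e01ccd23900092def0148f20501838a3900898239008f56d90101cce20158bee700678b08002b0a1b006717ea0100dce0012fed0d005fb007012f400800708f6a007274250075e0a7007262f700ea35dc01d735300067d30800a4f529
def TX : ℕ := 0xc80a9e01ccd23900092def0148f20501838a3900898239008f56d90101cce20158bee700678b08002b0a1b006717ea0100dce0012fed0d005fb007002f400800708f6a017274250175e0a7007262f701ea35dc00d735300067d30801a4f529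
def Ty : ℕ := 0x13ae82901eb2d7001de2c3e00d6ad4a00c955fe002a7c8900d6ad1c01945f6e015e2e28015e292901fff43e012593880119305601f6d2200105e101003b826601de4af801acd28900d400a800cdf91c007c4c4b01be5157013e46df00b0e824
def TY : ℕ := 0x99f7c0100a7fa015c2019002145b5000e20c10098e590015a1e9e008966a2000fabff009172b20190e3920124e844004f57b2004b87ae0154fc4300dafb3e019deece016fe33f00586f6e00b1048300751923006df8d200a11f6e01c540d3
def Tz : ℕ := 0x1fec67e01cb8a3900092def0148f20501955239018f8a3901895ed90101cce20158bee700678b08010b8a19006717ea0100dce0003f3d0d004e2805004a98880171df6a016378c501756c47004ee6f700992d5e008f39b00067d30801dc61a9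
def Tg : ℕ := 0x13c46d50180eaa500112d7401af1ae100392d7400993ef100b19af10199d281000080000191fee100074d7400313d74003125740037217401358b0601614136015e30a401bc6be300adeb83019546f1016bed3800f56bc701d806c70129c115
def Tv : ℕ := 0x6b27b600a0199700cb18a500c10ca70041bf730094309401a89b8500990cc7000080000049ff7301daad9500eb37b60049377300900b87010b3c210142805201a19a37000000400031aa0301aa1b95001a00ae0000000401a218c701a926e5
def Tw : ℕ := 0xbf0a0e0109297f00c019d10022fd0f01bec7af01f8f1f001007e3d013e747b0027557400497f7300f770f100144f6a00b6cfaf01921ff7001ff50100269c7600a6c76700f738c8011bf6030057b619002b2b1900d1e49c01a298c700ffeed1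
def Tl : ℕ := 0xc7fbfa01d3557001c3432600be448d00ceb6290079181900bcbc8d01d1ccef010d9c00015be41001f39b260029fc900112bc99004703b700151fe401685f9e010887370104ac3e00960be8010a201501bdc2fc000f39a800fee035004459d6
def Tc : ℕ := 0x18000000040000000200000001000000008000000040000000200000001000000008000000040000000200000001000000008000000040000000200010001000000008001000040010000200000001001000008010000040000000201000001
def TK : ℕ := 0x8206b80040067e0020067d001001f70008067d0006036800010483000080000000429f00002713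
def I0 : ℕ := 0x8000000040000000200000001000000008000000040000000200000001000000008000000040000000200000001000000008000000040000000200000001000000008000000040000000200000001000000008000000040000000200000001
/-- codes of lattice vectors -/
def Xc : ℕ := 0x4002001000800600200100080040020010008004002001000800600200100080040020010008
def Xk : ℕ := 0x4002001000800400200100080040020014006005002801000a0030020014008004002001000a
def X1 : ℕ := 0x50028010008003002001000a0020018010008005002801000c004002001000a0040020010008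

theorem idT_eq : idT = I0 := by decide +kernel

def L1 : List ℕ := [G0, G0i, G1, G1i]
def L2 : List ℕ := [Tx, TX, Ty, TY, Tz, I0, I0, Tg, Tv, Tw, Tl]

theorem k0 : evT [G0, G1] I0 [0,0,0,0,0,0,0] = G0i ∧ evT [G0, G1] I0 [1,1,1,1,1,1,1,1,1,1,1,1,1] = G1i := by
  decide +kernel

def W1 : List (List ℕ) := [[1,1,3,3,3,1,2,2,1,3,1,2,1,2,0,0], [1,1,3,0,3,0,2,0,3,3,0,2,2,2,0,0],
  [1,3,0,2,2,2,0,0,2,2,0,3,0,0,0,3], [2,1,1,1,2,1,3,3,1,1,3,3,3,1,2,0],
  [3,3,1,3,3,0,2,2,0,0,3,3,1,1,1,3], [], [], [2,1,1,1,2,1,3,3,0,2,1,3,3,3],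
  [0,0,3,0,3,0,3,0,3,1,1,3,0,0,3,3,0,3], [0,3,0,3,3,1,3,1,3,1,2,2,2,2,0,3], [2,1,2,2,0,2,2,0,0,3,0]]

theorem k1 : W1.map (evT L1 I0) = L2 := by decide +kernel

/-- relations -/
def R2 : List (List ℕ × List ℕ) := [([0,1], []), ([2,3], []), ([4,4], []), ([4,7], [7,4]),
  ([4,8], [8,4]), ([4,9], [9,4]), ([4,10], [10,4]), ([0,0,7], [7,0,0]), ([0,0,8], [8,0,0]),
  ([0,0,9], [9,0,0]), ([0,0,10], [10,0,0]), ([4,0,0], [0,0,4]), ([7,7,7], []), ([8,8], []),
  ([9,9,9], []), ([8,7], [7,8]), ([9,7], [7,9])] ++ RH.map fun r => (r, [])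

theorem k2 : R2.all (fun e => Nat.beq (evT L2 I0 e.1) (evT L2 I0 e.2)) = true := by decide +kernel

/-- inequalities -/
def N2 : List (List ℕ × List ℕ) := [([4], []), ([4], [0,0]), ([4,2], [2,4]), ([7], []),
  ([7,10], [10,7]), ([8,9], [9,8])]

theorem k3 : N2.all (fun e => !allLt (fun j => Nat.beq (lane (evT L2 I0 e.1) j % 2 ^ 24)
    (lane (evT L2 I0 e.2) j % 2 ^ 24)) 24) = true := by decide +kernel

theorem k4 : labC Xc = 1497088 ∧ labC Xk = 5687299 ∧ labC X1 = 5112683 ∧ isL Xc = true ∧ isL Xk = true ∧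
    isL X1 = true ∧ dotC Xc Xc = 32 ∧ dotC Xk Xk = 32 ∧ dotC X1 X1 = 64 := by decide +kernel

theorem k5 : (∀ T ∈ L2, apT T 1497088 = 1497088) ∧ (∀ T ∈ [Ty, Tg, Tv, Tw, Tl], apT T 5687299 = 5687299 ∧
    apT T (apT TX 5687299) = apT TX 5687299) ∧ apT (evT L2 I0 [1,2,0]) 5687299 = 5687299 ∧ apT Tg 5112683 = 5112683 ∧
    evT L2 I0 [0,0] = Tc ∧ pmul (pmul 5687299 (1497088 ^^^ 2 ^ 24)) 5687299 = 1497088 := by decide +kernel

theorem k6 : allLt (fun j => Nat.beq (pmul 1497088 (2 ^ j)) (pmul (lane Tc j) 1497088)) 24 = true := by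
  decide +kernel

theorem k7 : allLt2 (fun n => force (apT TK n) fun p => Nat.beq (apT Tg p) p &&
    Nat.beq (p % 2 ^ 24 / 8192 % 16 + 16 * (p % 2 ^ 24 / 262144)) n) 32 32 = true := by
  decide +kernel

variable {P : Pk ℝ}

theorem central3 {g : GG P} (t : Tq P g Tg) (o : orderOf g = 3)
    [((zpowers g).subgroupOf (centralizer (zpowers g : Set (GG P)))).Normal] :
    ∃ ψ : centralizer (zpowers g : Set (GG P)) ⧸ (zpowers g).subgroupOf _ →* Fi24,
      CL.FiQ.Ps ψ := by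
  have := (mt P).normal_Q0
  have hM := (mt P).isOfMonsterType
  obtain ⟨-, -, e1, -, -, l1, -, -, n1⟩ := k4
  have r : P.dat.R kR (lv X1 l1) (xe P 5112683) :=
    xe_R' (by rw [← labC_lv l1 n1.le, e1]; norm_num)
  have n : sqNorm (lv X1 l1 : GolayPt → ℤ) = 64 := by rwa [← sqNorm_vec] at n1
  have hsQ : ∃ h : xe P 5112683 ∈ centralizer ({zz P} : Set (GG P)),
      (⟨_, h⟩ : centralizer ({zz P} : Set (GG P))) ∈ MT.Q0 (zz P) (QQ P) :=
    ⟨(mt P).le_cent ((mt P).R_mem r), (mt P).R_mem r⟩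
  have hs := (mt P).conj_of_64 r n
  have hs1 := ((mt P).ne_of_norm r n.le (by rw [n]; norm_num)).2
  have hY : zpowers g ≤ centralizer {zz P, xe P 5112683} :=
    zpowers_le.2 (mem_centralizer_iff.2 fun d hd => by
      rcases hd with rfl | rfl
      exacts [t.comm_z.eq.symm, (t.comm k5.2.2.2.1).eq.symm])
  have hY3 : Nat.card (zpowers g) = 3 := by rw [Nat.card_zpowers, o]
  have : ((zpowers g).subgroupOf (normalizer (zpowers g : Set (GG P)))).Normal :=
    normal_in_normalizer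
  obtain ⟨Q1, R, A, b, σ, h, hF, -, hb, e, -, hA, hσ, hc⟩ := setup_three hM hsQ hs hs1 hY hY3
  rcases hσ with e' | e'
  · obtain ⟨-, ψ, -, p, -⟩ := CL.F24P.mon3 hM hsQ hs hs1 hY hY3
      (hc.2 (by rw [e', Golay.Cent_3A_eq.2]; norm_num))
    exact ⟨ψ, p⟩
  obtain rfl : σ = C3B.s0 := Subtype.ext e'
  have c := h.card_inf_cent (n := 3) (by decide) (hb ▸ pow_orderOf_eq_one b) hA C3B.tab.1
  rw [← e, ← hF, hM.1.2.1, subgroupOf_map_subtype, inf_eq_left.2 (mt P).le_cent] at c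
  have k : ∀ n < 1024, apT Tg (apT TK n) = apT TK n ∧ apT TK n % 2 ^ 24 / 8192 % 16 +
      16 * (apT TK n % 2 ^ 24 / 262144) = n := fun n hn => by
    simpa only [force_eq, Bool.and_eq_true, Nat.beq_eq] using allLt2_iff.1 k7 n hn
  have := Nat.card_le_card_of_injective (fun n : Fin 1024 => (⟨xe P (apT TK n),
      (mt P).R_mem (xe_R _), CL.F24P.mem_cent_zpowers.2 (by
        rw [(t.comm (k n n.2).1).symm.eq, mul_inv_cancel_right])⟩ :
      ↥(QQ P ⊓ centralizer (zpowers g : Set (GG P))))) fun n m e => Fin.ext (by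
    rw [← (k n n.2).2, ← (k m m.2).2, xe_inj (P := P) (Subtype.mk.inj e)])
  rw [c] at this
  simp at this

theorem exists_HN_GG {b g0 g1 : GG P} (hb : b ∈ DD P) (t0 : St P b g0 G0) (t1 : St P b g1 G1)
    (ha : xe P 1497088 ∈ DD P) (hk : xe P 5687299 ∈ DD P) (ia : ipp P b (xe P 1497088) = 3 / 128)
    (ik : ipp P b (xe P 5687299) = 1 / 32) : ∃ a ∈ DD P, orderOf (a * b) = 5 ∧
      ∃ η : HN →* GG P, Function.Injective η ∧ η.range ≤ centralizer {a, b} := by
  have oa : orderOf (xe P 1497088 * b) = 5 := by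
    have ia' : BB (axs P (xe P 1497088)) (axs P b) = 3 / 128 := (BB_comm _ _).trans ia
    rcases sys.sakuma ha hb with h | h | h | h | h | h
    · rw [h.2, BB_axs_axs hb] at ia'; norm_num at ia'
    all_goals first | exact h.1 | (rw [ia'] at h; norm_num at h)
  have ok : orderOf (b * xe P 5687299) = 4 := by
    have ik' : BB (axs P b) (axs P (xe P 5687299)) = 1 / 32 := ik
    rcases sys.sakuma hb hk with h | h | h | h | h | h
    · rw [← h.2, BB_axs_axs hb] at ik'; norm_num at ik'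
    all_goals first | exact h.1 | (rw [ik'] at h; norm_num at h)
  have na : ¬ Commute (xe P 1497088) b := fun h => by
    have := orderOf_dvd_of_pow_eq_one (show (xe P 1497088 * b) ^ 2 = 1 by
      rw [h.mul_pow, pow_two, pow_two, sq_of_mem_DD ha, sq_of_mem_DD hb, one_mul])
    rw [oa] at this
    exact absurd this (by decide)
  have f0 : List.Forall₂ (St P b) [g0, g1] [G0, G1] := .cons t0 (.cons t1 .nil)
  have f1 : List.Forall₂ (St P b) [g0, _, g1, _] L1 :=
    .cons t0 (.cons (k0.1 ▸ idT_eq ▸ st_ev f0 _) (.cons t1 (.cons (k0.2 ▸ idT_eq ▸ st_ev f0 _) .nil)))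
  obtain ⟨l, f2⟩ : ∃ l, List.Forall₂ (St P b) l L2 := ⟨W1.map (ev _), by
    rw [← k1, List.forall₂_map_left_iff, List.forall₂_map_right_iff, List.forall₂_same]
    exact fun w _ => idT_eq ▸ st_ev f1 w⟩
  have s : ∀ w, St P b (ev (fun a => l.getD a 1) w) (evT L2 I0 w) := fun w => idT_eq ▸ st_ev f2 w
  have c2 := (s [0,0]).1.cases (k5.2.2.2.2.1 ▸ tq_xe k6)
  have nz : ¬ Commute (zz P) b := fun h => na (by
    rcases c2 with e | e
    · exact e ▸ (s [0,0]).2
    · rw [← mul_inv_eq_iff_eq_mul.2 e]; exact (s [0,0]).2.mul_left h.inv_left)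
  have c3 := c2.resolve_left fun e => na (e ▸ (s [0,0]).2)
  rw [xe_neg] at c3
  have r : ∀ e ∈ R2, ev (fun a => l.getD a 1) e.1 = ev (fun a => l.getD a 1) e.2 := fun e he =>
    (s e.1).eq nz (Nat.eq_of_beq_eq_true (List.all_eq_true.1 k2 e he) ▸ s e.2)
  have n : ∀ e ∈ N2, ev (fun a => l.getD a 1) e.1 ≠ ev (fun a => l.getD a 1) e.2 := fun e he =>
    (s e.1).1.ne (s e.2).1 (by simpa using List.all_eq_true.1 k3 e he)
  have sx := s [1,2,0]
  obtain _ | ⟨sx0, f2⟩ := f2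
  obtain _ | ⟨sX, f2⟩ := f2
  obtain _ | ⟨sy, f2⟩ := f2
  obtain _ | ⟨-, f2⟩ := f2
  obtain _ | ⟨sz, f2⟩ := f2
  obtain _ | ⟨s5, f2⟩ := f2
  obtain _ | ⟨s6, f2⟩ := f2
  obtain _ | ⟨sg, f2⟩ := f2
  obtain _ | ⟨sv, f2⟩ := f2
  obtain _ | ⟨sw, f2⟩ := f2
  obtain _ | ⟨sl, f2⟩ := f2
  cases f2
  rename_i x X y Y ζ u5 u6 g v w l
  clear s c2
  rw [R2, List.forall_mem_append] at r
  obtain ⟨r, r'⟩ := r
  simp only [N2, List.forall_mem_cons, ev, List.map, List.getD_cons_zero, List.getD_cons_succ,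
    List.prod_cons, List.prod_nil, mul_one] at r n sx c3
  obtain ⟨r0, r1, r2, r3, r4, r5, r6, r7, r8, r9, r10, r11, r12, r13, r14, r15, r16, -⟩ := r
  obtain rfl := eq_inv_of_mul_eq_one_right r0
  obtain rfl := eq_inv_of_mul_eq_one_right r1
  obtain rfl : u5 = 1 := s5.eq nz (idT_eq ▸ st_one)
  obtain rfl : u6 = 1 := s6.eq nz (idT_eq ▸ st_one)
  have og : orderOf g = 3 := orderOf_eq_prime (hp := ⟨Nat.prime_three⟩)
    (by rw [← r12]; simp [pow_succ, mul_assoc]) n.2.2.2.1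
  have : ((zpowers g).subgroupOf (centralizer (zpowers g : Set (GG P)))).Normal :=
    normal_of_le_center fun x hx => mem_center_iff.2 fun y => Subtype.ext (y.2 x hx).symm
  obtain ⟨ψ, p⟩ := central3 sg.1 og
  have e2 : x⁻¹ * xe P 5687299 * x = xe P (apT TX 5687299) := by simpa using sX.1.conj 5687299
  obtain ⟨q1, q2, q3, -, -, q4⟩ := k5
  simp only [L2, List.forall_mem_cons] at q1 q2
  refine ⟨_, ha, oa, exists_HN (x := x) (y := y) (ζ := ζ) (k := xe P 5687299) (g := g) (v := v)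
    (w := w) (l := l) p r2 (fun u hu => ?_) (sq_of_mem_DD hb) (sq_of_mem_DD hk)
    (by rw [c3, xe_mul, xe_mul, q4]) oa (comm_of_sq (sq_of_mem_DD hb)
      (by simpa [inv_eq_of_mul_eq_one_left (sq_of_mem_DD hk)] using
        sq_of_mem_DD (conj_mem_DD hb (xe P 5687299)))
      (by rw [← pow_orderOf_eq_one (b * xe P 5687299), ok]; simp [pow_succ, mul_assoc]))
    ?_ ?_ (mul_assoc x⁻¹ y x ▸ sx.1.comm q3) ?_ (r11.trans (mul_assoc x x ζ).symm) n.1 n.2.1 n.2.2.1
    og n.2.2.2.2.1 r13 (by rw [← r14]; simp [pow_succ, mul_assoc]) n.2.2.2.2.2.1 r15 r16⟩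
  · rw [← (r' _ (List.mem_map_of_mem hu)).trans (ev_nil _)]
    refine ev_congr fun a ha => ?_
    have : a < 5 := (by decide : ∀ r ∈ RH, ∀ a ∈ r, a < 5) u hu a ha
    interval_cases a <;> rfl
  · simp only [List.forall_mem_cons]
    exact ⟨⟨sx0.1.comm q1.1, sx0.2⟩, ⟨sy.1.comm q1.2.2.1, sy.2⟩, ⟨sz.1.comm q1.2.2.2.2.1, sz.2⟩,
      ⟨sg.1.comm q1.2.2.2.2.2.2.2.1, sg.2⟩, ⟨sv.1.comm q1.2.2.2.2.2.2.2.2.1, sv.2⟩,
      ⟨sw.1.comm q1.2.2.2.2.2.2.2.2.2.1, sw.2⟩, ⟨sl.1.comm q1.2.2.2.2.2.2.2.2.2.2.1, sl.2⟩, by simp⟩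
  · simp only [List.forall_mem_cons, e2]
    exact ⟨⟨sy.1.comm q2.1.1, sy.1.comm q2.1.2⟩, ⟨sg.1.comm q2.2.1.1, sg.1.comm q2.2.1.2⟩,
      ⟨sv.1.comm q2.2.2.1.1, sv.1.comm q2.2.2.1.2⟩, ⟨sw.1.comm q2.2.2.2.1.1, sw.1.comm q2.2.2.2.1.2⟩,
      ⟨sl.1.comm q2.2.2.2.2.1.1, sl.1.comm q2.2.2.2.2.1.2⟩, by simp⟩
  · simp only [List.forall_mem_cons]
    exact ⟨⟨r3, (mul_assoc x x g).trans r7⟩, ⟨r4, (mul_assoc x x v).trans r8⟩,
      ⟨r5, (mul_assoc x x w).trans r9⟩, ⟨r6, (mul_assoc x x l).trans r10⟩, by simp⟩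

end CL.MP.HNA
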