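import Mathlib
import Cfsg.Agent.SPOR.MP.HNF
import Cfsg.Agent.SPOR.MP.Eval

/-! The axis number ten of the evaluated table. -/

set_option autoImplicit false

namespace CL.MP.HNA

open Cfsg CL.Leech CL.MT CL.Gr CL.MO CL.K

theorem st_of_stb {P : Pk ℝ} {b : GG P} {T : ℕ} (h : Stb P b T) : ∃ g, St P b g T :=
  let ⟨k, m, c, a, e, f⟩ := h
  ⟨c, ⟨k, m, e, a⟩, mul_inv_eq_iff_eq_mul.1 f⟩

theorem exists_ten (P : Pk ℝ) : ∃ b ∈ DD P, ∃ A τ, Tb P (axs P b) A τ ∧ (∃ g, St P b g G0) ∧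
    (∃ g, St P b g G1) ∧ quad A Xc = 384 ∧ quad A Xk = 1024 ∧ τ 1497088 = -6 ∧ τ 5687299 = 0 := by
  obtain ⟨T, -, ⟨-, -, -, -, -, -, -, -, -, -, t, -⟩, -⟩ := eval_main P
  exact ⟨_, t.mem, _, _, t.tb, st_of_stb t.s0, st_of_stb t.s1, by decide +kernel⟩

end CL.MP.HNA
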