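import Mathlib
import Cfsg.Agent.SPOR.MO.Main
import Cfsg.Agent.SPOR.MP.RowTh
import Cfsg.Agent.SPOR.Y5.BCent
import Cfsg.Agent.SPOR.Y5.Main
import Cfsg.Agent.SPOR.Co1.A0
import Cfsg.Agent.S2083
import Cfsg.Agent.SPOR.MonAut

/-! The Thompson group and the Fischer group `Fi23` inside the centralizer of an axial involution. -/

set_option autoImplicit false
set_option maxRecDepth 100000

namespace CL.MP.RowB

open Cfsg CL.Leech CL.MT CL.MO CL.K CL.Pack CL.CE CL.MSS CL.LX Subgroup
open CL.Golay (E Code D0 O0)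

/-- conjugating matrix for the octad -/
def kA : ℕ := 0x421084208842184421084210822108410886110842108421084210842108431886110842108421084210842108421084210c42108621084210842184421044210842108421086218843108221084210821108421084310842108421084210c4210862108421084208c4210842108421084118c4210c42108421084208842084421084210862108421044210842108421086208841108421084210842108410844210c4210842108421884208442108421082210842108421044210862108421084218c221084210823108421084110842108421084210842108431844210c421084210842108421084308c4210c42108621084210823108421084310842108621084210821108421084110842108421084210442108621084210842084421044210842108421082218841108411882110842108421084210842108421044210842108421082208843108430882110842108421084210842108421084218842184421084210862108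
/-- the conjugate of the element of order 3 -/
def sA : ℕ := 0x229485190842108418ca41106421083210a4214a319463210852948518c632106420ca318ca32108328c8328c6428cc5290842108428c642106431083210a420c6318ca52108529483194a5210a420ca528ca3210851948318c6419485288842188428ca4210a42108429483290c42108418c64210a4210c418c83290861108418ca4210642108429485190861108429464210a42108428c8318884218841946421064210841948529084210c419464210662108418c85190842108618c64210a420885210a420c6318c632108318c8518ca52106421463194a3210851948328ca32106420c6528c63210852948528ca428c852908421084194a6208a42108629485190842108418ca4310642108419483190842108428c6620864210852106420ca318c6521085194852946419485290842104419464210622108428c45290842108428c642106411084294832908421086294a4210642088429483290442108418c64210a42104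
/-- conjugating matrix for the dodecad -/
def kB : ℕ := 0x42108430842210842108421084210842188421084310842108421086208842108421084208c4110842088421084218842108431084210842108221884210842108421844110842088421082210c42108421084208841108421084110822108421084210842104431082210c42108421084218843108421084210842108421082210c621084210c4110862108421084210842104411084210842108421082210c2210842104421084108c2210842108421084210842108421084210822104221084210c4210841084621084210842108421086210c4210842108420884310842108420884210843108421084210862188411086210842108421084210c4310842108421084218c431084208842108411082210842108421084210c41108421084308c621084210842108421084210842108420844310842088421086210c4210842108421884110842108421084210842108221046210842104420884210843108421084210822088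
/-- the conjugate of the element of order 3 -/
def sB : ℕ := 0x42908328ca5210c431084210641908520c64210841946528c6519483214a419083194a5210842104221064290841908528ca52188421084208a42908320ca42108418ca51946528c83214a3214642108418c632946518c8320c632146421084194a5194a31948320ca320c642108428c65294a318c85214a5214a42108418c6528ca328c8320ca41908328c63210822108421064290c41904518c65210842108431064190822908318c652108420884210a4290842908529465110842108421066290862908318c652108421884210a4290842908328ca5210441108421064190842988518ca3210842108421064298842888518ca32108421084210642888429083194632188421084208641908429043294a32108421084310a429085214642108428ca518c6518c8520ca429085194a52108221084210a4190c520c642108418ca318ca318c832146419083194a521084210c621064290841908318ca31108421084210a61908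

theorem rep_sgn {c : Code} {m : ℕ} (hc : c.1 = E.setOf m) (h : (force (Co1T.sgnC m) fun c => okA c &&
    allLt (fun i => Nat.beq (ap c (c8 i)) (cond (m.testBit i) (Nat.sub (Nat.mul 16 ONES) (c8 i)) (c8 i))) 24) = true) :
    RepF (sgn c) (ap (Co1T.sgnC m)) := by
  rw [force_eq, Bool.and_eq_true, allLt_iff] at h
  have h1 := rep_aut h.1
  have h4 : ∀ i, sqNorm (e8 i : GolayPt → ℤ) ≤ 80 := fun i => by rw [sqNorm_e8]; norm_num
  rwa [show sgn c = aut (Co1T.sgnC m) from co_ext_e8 fun i => ?_]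
  have h3 := Nat.eq_of_beq_eq_true (h.2 _ (E.enc_lt i))
  rw [Co1T.sgn_e8, hc]
  by_cases a : i ∈ E.setOf m
  · rw [if_pos a, ← neg1_smul, RepF.neg.smul_eq_iff h1 (h4 _) (h4 _), enc_e8, h3, E.mem_setOf.1 a]; rfl
  · rw [if_neg a, ← one_smul Co0 (e8 i), smul_smul, mul_one, RepF.one.smul_eq_iff h1 (h4 _) (h4 _), enc_e8, h3,
      Bool.eq_false_iff.2 fun b => a (E.mem_setOf.2 b)]; rfl

theorem exists_inv {c : Code} (hc : c.1 = E.setOf O0 ∨ c.1 = E.setOf D0) :
    ∃ k : Co0, k * sgn c * k⁻¹ * permHom C3B.s0 * (k * sgn c * k⁻¹)⁻¹ = (permHom C3B.s0)⁻¹ := by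
  have key : ∀ k s : Co0, k * s = permHom C3B.s0 * k → s * sgn c * s = sgn c →
      k * sgn c * k⁻¹ * permHom C3B.s0 * (k * sgn c * k⁻¹)⁻¹ = (permHom C3B.s0)⁻¹ := fun k s h1 h2 => by
    rw [← mul_inv_eq_iff_eq_mul.2 h1]
    calc _ = k * s⁻¹ * (s * sgn c * s) * (sgn c)⁻¹ * k⁻¹ := by group
      _ = _ := by rw [h2]; group
  have r : ∀ {c}, okA c = true → RepF (aut c) (ap c) := rep_aut
  rcases hc with h | h
  · have a := r (c := kA) (by decide +kernel)
    have b := r (c := sA) (by decide +kernel)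
    have e := rep_sgn h (by decide +kernel)
    exact ⟨_, key _ _ (((a.mul b).eq_iff (C3B.rs.mul a)).2 (by decide +kernel))
      ((((b.mul e).mul b).eq_iff e).2 (by decide +kernel))⟩
  · have a := r (c := kB) (by decide +kernel)
    have b := r (c := sB) (by decide +kernel)
    have e := rep_sgn h (by decide +kernel)
    exact ⟨_, key _ _ (((a.mul b).eq_iff (C3B.rs.mul a)).2 (by decide +kernel))
      ((((b.mul e).mul b).eq_iff e).2 (by decide +kernel))⟩

theorem exists_r : ∃ r : leechLattice, sqNorm r.1 = 32 ∧ r.1 none = 2 := by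
  have h : isL 0x500200100080040020014008004002801000800400200100080040020014008005002801400a = true := by decide +kernel
  exact ⟨lvv _, (sqNorm_lvv h).trans (by decide +kernel), (congrFun (coe_lvv h) _).trans (by decide +kernel)⟩

theorem order_cd : orderOf (ThG.g 2 * ThG.g 3) = 8 ∧ orderOf (ThG.g 2) = 2 ∧ orderOf (ThG.g 3) = 2 := by
  have r := ThG.presG0.rel
  have i : ∀ a, a < 5 → ThG.g a * ThG.g a = 1 := fun a ha =>
    mul_eq_one_iff_eq_inv.2 ((congrArg _ (by interval_cases a <;> rfl)).trans (ThG.presG0.inv a))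
  have i9 : ThG.g 10 = (ThG.g 9)⁻¹ := ThG.presG0.inv 9
  have i5 : ThG.g 6 = (ThG.g 5)⁻¹ := ThG.presG0.inv 5
  have cb : ∀ x : Spor.Th, x * x = 1 → x * (x * x) = 1 → x = 1 := fun x h1 h2 => by simpa [h1] using h2
  have h0 : ThG.g 0 ≠ 1 := fun a => ThG.faithful.1 (by
    have b := cb _ (i 1 (by decide)) (by simpa [ev, a] using r [0,1,0,1,0,1] (by decide))
    have c := cb _ (i 2 (by decide)) (by simpa [ev, b] using r [1,2,1,2,1,2] (by decide))
    have e : ThG.g 4 = 1 := by simpa [ev, a, b, c, i9] using r [10,1,2,0,1,9,1,0,2,1,4] (by decide)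
    have d := cb _ (i 3 (by decide)) (by simpa [ev, e] using r [3,4,3,4,3,4] (by decide))
    have s2 : ThG.g 5 * ThG.g 5 = 1 := by simpa [ev, d] using r [5,3,5,3] (by decide)
    have s : ThG.g 5 = 1 := by
      simpa [ev, ← mul_assoc, s2] using r [5,5,5,5,5,5,5] (by decide)
    have u : ThG.g 10 = 1 := cb _ (by
      rw [i9, ← mul_inv_rev, inv_eq_one]; simpa [ev, a, c] using r [9,9,2,0] (by decide))
      (by simpa [ev, a, c, i5, s] using r [0,2,6,10,6,10,6,10] (by decide))
    rw [ev_singleton, inv_eq_one.1 (i9.symm.trans u)]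
    exact one_mem _)
  have h1 : (ThG.g 2 * ThG.g 3) ^ 4 = ThG.g 0 := by
    have := r [0,3,2,3,2,3,2,3,2] (by decide)
    rw [ev_cons, mul_eq_one_iff_eq_inv] at this
    rw [this]
    simp [ev, pow_succ, mul_assoc, inv_eq_of_mul_eq_one_right (i 2 (by decide)),
      inv_eq_of_mul_eq_one_right (i 3 (by decide))]
  have o : ∀ a < 5, (ThG.g a = 1 → ThG.g 0 = 1) → orderOf (ThG.g a) = 2 := fun a ha h =>
    orderOf_eq_prime ((pow_two _).trans (i a ha)) fun e => h0 (h e)
  refine ⟨orderOf_eq_prime_pow (p := 2) (n := 2) (h1 ▸ h0) (by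
    rw [show 2 ^ (2 + 1) = 4 + 4 from rfl, pow_add, h1, i 0 (by decide)]), o 2 (by decide) fun e => ?_,
    o 3 (by decide) fun e => ?_⟩ <;> rw [← h1, e]
  · simp [pow_succ, i 3]
  · simp [pow_succ, i 2]

variable {G : Type*} [Group G] [Finite G] {z : G} {Q : Subgroup G} {R : leechLattice → G → Prop}
  {A : Co0 → G → Prop} {D : Set G}

theorem exists_D_sgn (h : AX z Q R A D) : ∃ x ∈ D, ∃ ε ∈ Sgn, ε ∉ center Co0 ∧ A ε x := by
  obtain ⟨s, hs⟩ := h.ex_x (e8 none)
  obtain ⟨g, rfl⟩ := isConj_iff.1 (h.conj_of_64 hs (sqNorm_e8 _))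
  have hne := (h.ne_of_norm hs (by rw [sqNorm_e8]) (by rw [sqNorm_e8]; norm_num)).2
  obtain ⟨z', hz', e⟩ := h.lx.symm_of_card h.eight_lt (h.R_mem hs)
  replace e : g * z' * g⁻¹ = z := e
  obtain ⟨v, hv, h64⟩ := h.norm_of_conj hz' (isConj_iff.2 ⟨g, e⟩).symm fun a => hne (a ▸ e)
  obtain ⟨k, hk⟩ := exists_smul_cong (sqNorm_e8 none) h64
  have h' := h.toMT.twist k
  replace hv : R (k • e8 none) z' := h.R_of_cong hv hk.symm
  obtain ⟨r, r1, r2⟩ := exists_r
  obtain ⟨x, hx⟩ := h'.ex_x r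
  have hd : dotInt r.1 (e8 none).1 = 16 := by rw [coe_e8, dot_single_right, r2]; rfl
  have hc : g * x * g⁻¹ * z = z * (g * x * g⁻¹) := by
    rw [← e, conj_mul, conj_mul, (h'.comm_iff hx hv).2 (hd ▸ dvd_rfl)]
  have hD := h.conj (h.of_R hx (by rw [sqNorm_smul, r1])) g
  obtain ⟨ε, hε⟩ := h.ex_g _ hc
  refine ⟨_, hD, ε, h.lifts_e8 hs ▸ ⟨_, ⟨x, h.R_mem hx, rfl⟩, hε⟩, fun m => ?_, hε⟩
  obtain ⟨u, u1, u2⟩ := h.R_of_mem hD ((h.A_ker hε).2 m)
  refine h.not_conj_of_32 (h.R_z u1) u2 ((h'.conj_of_64 (v := r - e8 none) (h'.R_of_cong (h'.R_mul hx hv)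
    ⟨e8 none, by abel⟩) ?_).trans (isConj_iff.2 ⟨g, by rw [← e, conj_mul]⟩))
  rw [AddSubgroup.coe_sub, sqNorm_sub, r1, sqNorm_e8, hd]; rfl

theorem exists_D_inv (h : AX z Q R A D) {b : G} (h3 : b ^ 3 = 1) (hb : A (permHom C3B.s0) b) :
    ∃ t ∈ D, t * b * t⁻¹ = b⁻¹ := by
  obtain ⟨x, hx, ε, h1, h2, hA⟩ := exists_D_sgn h
  obtain ⟨l, c, hc, e⟩ := exists_std (Sgn_sq h1) h2
  obtain ⟨k, hk⟩ := exists_inv hc
  obtain ⟨l', hl⟩ := h.ex_c l
  obtain ⟨k', hk'⟩ := h.ex_c k
  have h4 : A (sgn c) (l' * x * l'⁻¹) := by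
    have := h.A_mul (h.A_mul hl hA) (h.A_inv hl)
    rcases e with e | e <;> rw [e] at this
    · exact this
    · simpa [← mul_assoc, Sgn_sq neg1_mem_Sgn] using h.A_center this neg1_mem_center
  have h5 := h.A_mul (h.A_mul hk' h4) (h.A_inv hk')
  replace hx := h.conj (h.conj hx l') k'
  have σ3 := C3B.σ_pow
  generalize k' * (l' * x * l'⁻¹) * k'⁻¹ = t at h5 hx
  generalize permHom C3B.s0 = σ at *
  have h6 := h.A_mul (h.A_mul (h.A_mul h5 hb) (h.A_inv h5)) (h.A_inv hb)
  rw [hk] at h6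
  have h7 := h.toMT.A_pow h6 4
  rw [show (σ⁻¹ * σ⁻¹) ^ 4 = (σ ^ 3)⁻¹ ^ 3 * σ by group, σ3, inv_one, one_pow, one_mul] at h7
  obtain ⟨q, -, e⟩ := exists_conj_of_two h.lx.isPGroup (n := 3) (by decide) (h.lx.norm _ (h.A_comm h7))
    (h.toMT.mem_of_A hb h7) h3 (by
      rw [← pow_mul, mul_comm, pow_mul]
      refine h.lx.pow_four ((h.A_ker (h.toMT.A_pow h6 3)).2 ?_)
      rw [show (σ⁻¹ * σ⁻¹) ^ 3 = (σ ^ 3)⁻¹ ^ 2 by group, σ3]; simp)
  have ti : t⁻¹ = t := inv_eq_of_mul_eq_one_right (h.sq hx)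
  have h8 : t * (t * b * t⁻¹ * b⁻¹) * t⁻¹ = (t * b * t⁻¹ * b⁻¹)⁻¹ := by
    calc _ = (t * t) * b * t⁻¹ * b⁻¹ * t⁻¹ := by group
      _ = _ := by rw [h.sq hx, one_mul, mul_inv_rev, mul_inv_rev, mul_inv_rev, inv_inv, inv_inv, ti]; group
  refine ⟨_, h.conj hx q, ?_⟩
  generalize t * b * t⁻¹ * b⁻¹ = y at e h8
  rw [← e]
  calc _ = q * (t * y * t⁻¹) ^ 4 * q⁻¹ := by rw [conj_pow]; group
    _ = _ := by rw [h8]; group

theorem exists_D_Th (h : AX z Q R A D) (h6 : ∀ x ∈ D, ∀ y ∈ D, orderOf (x * y) ≤ 6) :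
    ∃ t ∈ D, ∃ η : Spor.Th →* G, Function.Injective η ∧ η.range ≤ centralizer {t} := by
  obtain ⟨s, hs⟩ := h.ex_x (e8 none)
  obtain ⟨c, hc⟩ := h.ex_c (permHom C3B.s0)
  have hb := h.toMT.A_pow hc 4
  rw [pow_succ, C3B.σ_pow, one_mul] at hb
  have h3 : (c ^ 4) ^ 3 = 1 := by
    rw [← pow_mul, mul_comm, pow_mul]
    exact h.lx.pow_four ((h.A_ker (h.toMT.A_pow hc 3)).2 (C3B.σ_pow ▸ one_mem _))
  generalize c ^ 4 = b at hb h3
  obtain ⟨t, ht, hi⟩ := exists_D_inv h h3 hb
  have := normal_zpowers_cent b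
  obtain ⟨y, -, P, -, -, -, hn, h1, ⟨e, -⟩, -⟩ := h.toMT.odd_main
    ((congrArg _ h.toMT.isOfMonsterType.1.2.1).trans (LX_map_subgroupOf h.lx.toES)) (n := 3) (by decide) h3
    C3B.σ_pow hb (w := 4) (by norm_num) C3B.tab.1 C3B.cdata.2 C3B.cdata.1 (h.R_mem hs)
    ((h.toMT.comm_iff_fix (by decide) h3 hb hs).2 (mem_St.1 (St_e8 none ▸ permHom_mem_NN _))).symm
    (h.conj_of_64 hs (sqNorm_e8 _)) (h.ne_of_norm hs (by rw [sqNorm_e8]) (by rw [sqNorm_e8]; norm_num)).2
  obtain ⟨f⟩ := isoTh_of_type ⟨y, _, hn, h1, ⟨e⟩⟩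
  have hZ : (QuotientGroup.mk' ((zpowers b).subgroupOf (centralizer (zpowers b : Set G)))).ker ≤ center _ :=
    (QuotientGroup.ker_mk' _).trans_le fun x hx => mem_center_iff.2 fun y => Subtype.ext (y.2 x hx).symm
  obtain ⟨η, hη⟩ := CL.Schur.exists_lift_of_trivial_of_perfect Cfsg.Agent.S2057.result perfect_Th
    f.symm.toMonoidHom ⟨QuotientGroup.mk'_surjective _, hZ⟩
  replace hη : ∀ x, (η x : _ ⧸ _) = f.symm x := DFunLike.congr_fun hη
  have i1 : Function.Injective ((Subgroup.subtype _).comp η) := (subtype_injective _).comp fun x y e =>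
    f.symm.injective ((hη x).symm.trans ((congrArg _ e).trans (hη y)))
  let κ : Spor.Th →* centralizer (zpowers b : Set G) := ((MulAut.conj t).toMonoidHom.comp
    ((Subgroup.subtype _).comp η)).codRestrict _ fun x => by
      refine (centralizer_zpowers b).ge (mem_centralizer_singleton_iff.2 ?_)
      show t * η x * t⁻¹ * b = b * (t * η x * t⁻¹)
      have e : t * b⁻¹ * t⁻¹ = b := by rw [← conj_inv, hi, inv_inv]
      have e2 : b⁻¹ * η x = η x * b⁻¹ := (η x).2 _ (inv_mem (mem_zpowers b))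
      generalize (η x : G) = u at e2
      rw [← e, conj_mul, conj_mul, e2]
  let θ := f.toMonoidHom.comp ((QuotientGroup.mk' _).comp κ)
  have hθ : ∀ x, (η (θ x) : G) = t * η x * t⁻¹ := fun x => congrArg Subtype.val (DFunLike.congr_fun
    (CL.Schur.lift_unique_of_perfect perfect_Th hZ (f := η.comp θ) (g := κ) (by ext x; simp [θ, hη])) x)
  have i2 : Function.Injective θ := fun x y e => i1 ((MulAut.conj t).injective
    ((hθ x).symm.trans ((congrArg (fun a => (η a : G)) e).trans (hθ y))))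
  obtain ⟨k, hk⟩ : MulEquiv.ofBijective θ (Finite.injective_iff_bijective.1 i2) ∈ Inn Spor.Th :=
    (QuotientGroup.eq_one_iff _).1 ((Nat.card_eq_one_iff_unique.1 Cfsg.Agent.S2083.result).1.elim _ _)
  replace hθ : ∀ x, (Subgroup.subtype _).comp η (k * x * k⁻¹) = t * (Subgroup.subtype _).comp η x * t⁻¹ :=
    fun x => (congrArg (fun a => (η a : G)) (DFunLike.congr_fun hk x)).trans (hθ x)
  generalize (Subgroup.subtype _).comp η = φ at i1 hθ
  have ha : ∀ x, Commute (φ x) ((φ k)⁻¹ * t) := fun x => by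
    have := hθ x
    rw [map_mul, map_mul, map_inv] at this
    calc _ = (φ k)⁻¹ * (φ k * φ x * (φ k)⁻¹) * t := by group
      _ = _ := by rw [this]; group
  obtain ⟨a, rfl⟩ : ∃ a, φ k * a = t := ⟨(φ k)⁻¹ * t, by group⟩
  simp only [inv_mul_cancel_left] at ha
  have h2 : φ (k * k) * (a * a) = 1 := by rw [map_mul, ← (ha k).symm.mul_mul_mul_comm, h.sq ht]
  obtain ⟨s1, s2, cl⟩ := CL.ThU.props_of_iso (G := Spor.Th) ⟨MulEquiv.refl _⟩
  have h4 : k * k = 1 := by
    refine mem_bot.1 ((inferInstance : (center Spor.Th).Normal).eq_bot_or_eq_top.resolve_right (fun e => ?_) ▸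
      mem_center_iff.2 fun x => i1 ?_)
    · have := orderOf_dvd_of_pow_eq_one (x := ThG.g 2 * ThG.g 3) (n := 2) (by
        rw [Commute.mul_pow (mem_center_iff.1 (e.ge (mem_top _)) _), orderOf_dvd_iff_pow_eq_one.1 order_cd.2.1.dvd,
          orderOf_dvd_iff_pow_eq_one.1 order_cd.2.2.dvd, one_mul])
      simp [order_cd.1] at this
    · rw [map_mul, map_mul φ (k * k), eq_inv_of_mul_eq_one_left h2]
      exact ((ha x).mul_right (ha x)).inv_right
  by_cases h5 : k = 1
  · exact ⟨_, ht, φ, i1, fun _ ⟨x, e⟩ => e ▸ mem_centralizer_singleton_iff.2 (by simpa [h5] using (ha x).eq)⟩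
  have h7 := orderOf_eq_prime ((pow_two k).trans h4) h5
  obtain ⟨m, hm⟩ := isConj_iff.1 (cl _ _ h7 order_cd.2.1)
  obtain ⟨n, hn⟩ := isConj_iff.1 (cl _ _ h7 order_cd.2.2)
  have h8 : ∀ m, φ m * (φ k * a) * (φ m)⁻¹ = φ (m * k * m⁻¹) * a := fun m => by
    rw [map_mul, map_mul, map_inv, mul_assoc, mul_assoc, ← (ha m).inv_left.eq]; group
  have h9 := h6 _ (h.conj ht (φ m)) _ (h.conj ht (φ n))
  rw [h4, map_one, one_mul] at h2
  rw [h8, h8, hm, hn, (ha _).symm.mul_mul_mul_comm, h2, mul_one, ← map_mul, orderOf_injective φ i1,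
    order_cd.1] at h9
  omega

variable (P : Gr.Pk ℝ)

theorem sub_BBm {t : GG P} (ht : t ∈ DD P) {K : Type*} [Group K] [IsSimpleGroup K] (hK : 2 < Nat.card K)
    {η : K →* GG P} (hη : Function.Injective η) (h : η.range ≤ centralizer {t}) :
    ∃ K' : Subgroup (BBm P), Nonempty (K ≃* K') := by
  obtain ⟨c, rfl⟩ := isConj_iff.1 ht
  let κ : K →* centralizer {MO.t0 P} := ((MulAut.conj c⁻¹).toMonoidHom.comp η).codRestrict _ fun x => by
    have := mem_centralizer_singleton_iff.1 (h ⟨x, rfl⟩)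
    refine mem_centralizer_singleton_iff.2 ((MulAut.conj c).injective ?_)
    simpa [mul_assoc] using this
  have i : Function.Injective κ := fun x y e => hη ((MulAut.conj c⁻¹).injective (congrArg Subtype.val e))
  refine ⟨_, ⟨MonoidHom.ofInjective (f := (QuotientGroup.mk' _).comp κ) ((MonoidHom.ker_eq_bot_iff _).1
    ((Normal.eq_bot_or_eq_top inferInstance).resolve_right fun e => hK.not_ge ?_))⟩⟩
  refine (Nat.card_le_card_of_injective (fun x => (⟨κ x, ((QuotientGroup.eq_one_iff
    (N := (zpowers (MO.t0 P)).subgroupOf _) (κ x)).1 (e.ge (mem_top x)) :)⟩ :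
    zpowers (MO.t0 P))) fun x y e => i (Subtype.ext (congrArg Subtype.val e :))).trans_eq ?_
  rw [Nat.card_zpowers, orderOf_eq_prime ((pow_two _).trans (sq_of_mem_DD t0_mem)) (ne_one_of_mem_DD t0_mem)]

theorem B_Th : ∃ K : Subgroup (BBm P), Spor.IsoTh K ∧ IsTh K := by
  obtain ⟨t, ht, η, h1, h2⟩ := exists_D_Th (ax_GG P) fun d hd e he => (Row.sys.order_le hd he).2
  have := ThG.isSimpleGroup
  obtain ⟨K, ⟨e⟩⟩ := sub_BBm P ht (by rw [ThG.card]; decide) h1 h2
  exact ⟨K, ⟨e.symm⟩, e.symm.isSimpleGroup, (Nat.card_congr e.symm.toEquiv).trans ThG.card⟩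

open CL.Y5 CL.TT CL.TTU CL.FiA CL.FiQ CL.Y5.Dt in
theorem B_Fi23 : ∃ K : Subgroup (BBm P), Spor.IsoFi23 K ∧ IsFi23 K := by
  obtain ⟨R, A, τ, L, p, g, H⟩ := Y5.exists_base (MO.mt P)
  obtain ⟨d, Y, -⟩ := H.exists_YS
  replace H := H.toBase0
  obtain ⟨ψ, hψ⟩ := Y.exists_psi
  have := Fi23.isSimpleGroup
  have hi : Function.Injective ψ := by
    rw [← MonoidHom.ker_eq_bot_iff]
    refine (Normal.eq_bot_or_eq_top inferInstance).resolve_right fun e => H.xh_not_mem Y ?_
    rw [← hψ 3 (by norm_num), ← hψ 4 (by norm_num), ← map_mul, MonoidHom.mem_ker.1 (e.ge (mem_top _))]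
    exact one_mem _
  have hr : ψ.range ≤ centralizer {Y5.t0 d} := by
    rw [BM.range_of hψ, gen_le_iff]
    exact fun w _ => Y.HB_le (ev_mem fun a _ => xh_mem d a)
  have iv : Iv L p (Y5.t0 d) [168, 336] := ⟨H.l_pair Y (by norm_num), Y.t0_sq, by decide, by decide, by decide⟩
  have hl : Fr Fi24.D [p 0, p 1, p 2, p 145] := by
    simpa [e_four] using (fr_four (real_S H.rp)).mono (FiC.fx_subset _ _)
  have h2 : Fr Fi24.D [p 0, p 1] := hl.sublist (by simp)
  obtain ⟨q, q1, q2, q3⟩ := H.hQ _ (subset_closure (mul_mem_tp H.is24 H.gp hl).1)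
  have s : p 0 * p 1 * (p 0 * p 1) = 1 := by simpa using h2.prod_sq H.gp.fs
  have m := H.tr.pow q3 3
  rw [pow_succ (p 0 * p 1), pow_two, s, one_mul] at m
  obtain ⟨c, -, -, -, hc⟩ := H.exists_cj (x := q ^ 3) (by simpa using m) iv.m h2 (H.iv_fr iv)
    ((Commute.refl q).mul_pow 3 ▸ H.tr.cube_of_mem ((H.tr.ker (H.tr.mul q3 q3)).1 s)) Y.t0_sq rfl (by simp) (by simp)
  obtain ⟨v, hv, h32⟩ := (MO.mt P).norm_of_not_conj (pow_mem q1 3) (by
    rw [← H.iv_ord iv rfl, ← hc]
    exact ((MulAut.conj c).orderOf_eq _).symm) fun k => by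
      obtain ⟨c', hc'⟩ := isConj_iff.1 (k.trans (isConj_iff.2 ⟨c, hc⟩))
      refine not_dvd17 (mt_conj H.mt c') (P := ψ.range) (hc' ▸ hr) ?_
      rw [← Nat.card_congr (MonoidHom.ofInjective hi).toEquiv, Fi23.card]
      norm_num
  obtain ⟨K, ⟨e⟩⟩ := sub_BBm P (IsConj.trans (mem_DD_of_R hv h32) (isConj_iff.2 ⟨c, hc⟩))
    (by rw [Fi23.card]; decide) hi hr
  exact ⟨K, ⟨e.symm⟩, e.symm.isSimpleGroup, (Nat.card_congr e.symm.toEquiv).trans Fi23.card⟩

end CL.MP.RowB
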