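import Cfsg.Agent.SPOR.Y5.LatB

/-!
The stabiliser of two short vectors with short difference acts irreducibly on the classes modulo two
which are orthogonal to both, taken modulo the two vectors.
-/

set_option autoImplicit false
set_option maxRecDepth 100000

namespace CL.MP

open Cfsg Cfsg.Spor CL.Leech CL.MT CL.K CL.Y5 MulAction
open CL.Golay (E Code cw)

theorem exists_fixed {M Γ : Type*} [AddCommGroup M] [Group Γ] [DistribMulAction Γ M]
    {W0 W : AddSubgroup M} (h2 : ∀ y, 2 • y ∈ W0) {s : Set Γ} (hs : s.Finite)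
    (h1 : ∀ g ∈ s, g * g = 1) (hc : ∀ g ∈ s, ∀ g' ∈ s, g * g' = g' * g)
    (h0 : ∀ g ∈ s, ∀ y ∈ W0, g • y ∈ W0) (hW : ∀ g ∈ s, ∀ y ∈ W, g • y ∈ W) (h : ¬ W ≤ W0) :
    ∃ x ∈ W, x ∉ W0 ∧ ∀ g ∈ s, g • x - x ∈ W0 := by
  induction s, hs using Set.Finite.induction_on with
  | empty => simpa [SetLike.not_le_iff_exists] using h
  | @insert g s _ _ ih =>
    simp only [Set.forall_mem_insert] at h1 hc h0 hW ⊢
    obtain ⟨x, a, b, c⟩ := ih h1.2 (fun g hg => (hc.2 g hg).2) h0.2 hW.2
    by_cases e : g • x - x ∈ W0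
    · exact ⟨x, a, b, e, c⟩
    refine ⟨_, sub_mem (hW.1 x a) a, e, ?_, fun g' hg' => ?_⟩
    · convert h2 (x - g • x) using 1
      rw [smul_sub, ← mul_smul, h1.1, one_smul]; abel
    · convert sub_mem (h0.1 _ (c g' hg')) (c g' hg') using 1
      rw [smul_sub, smul_sub, ← mul_smul, ← mul_smul, hc.1.2 g' hg']; abel

/-- the classes of `0, u, v, u + v` -/
def W0 (u v : leechLattice) : AddSubgroup leechLattice where
  carrier := {y | ∃ α β : ℤ, Cong y (α • u + β • v)}
  zero_mem' := ⟨0, 0, by simpa using Cong.refl 0⟩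
  add_mem' := fun ⟨α, β, h⟩ ⟨α', β', h'⟩ => ⟨α + α', β + β', by
    convert h.add h' using 1; module⟩
  neg_mem' := fun ⟨α, β, h⟩ => ⟨α, β, (cong_neg _).trans h⟩

theorem two_mem_W0 (u v y : leechLattice) : 2 • y ∈ W0 u v := ⟨0, 0, y, by simp⟩

theorem smul_mem_W0 {u v y : leechLattice} (k : Co0) : y ∈ W0 u v → k • y ∈ W0 (k • u) (k • v) :=
  fun ⟨α, β, h⟩ => ⟨α, β, by simpa [smul_comm k] using h.smul k⟩

theorem W0_le {u v : leechLattice} {W : AddSubgroup leechLattice} (h2 : ∀ y, 2 • y ∈ W) (hu : u ∈ W)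
    (hv : v ∈ W) : W0 u v ≤ W := fun y ⟨α, β, w, h⟩ => by
  rw [eq_add_of_sub_eq h]
  exact add_mem (h2 w) (add_mem (zsmul_mem hu α) (zsmul_mem hv β))

/-- a short vector -/
def rA : leechLattice := v44 none (some 0) 4 4 rfl rfl

/-- a short vector -/
def rB : leechLattice := v44 none (some 1) 4 4 rfl rfl

/-- a short vector -/
def rC : leechLattice := v44 (some 0) (some 1) 4 4 rfl rfl

theorem cong_zero_of {y : leechLattice} (h4 : ∀ i, y.1 i % 4 = 0)
    (h8 : ∀ C ∈ Code, (∑ i ∈ C, y.1 i) % 8 = 0) (h : (16 : ℤ) ∣ dotInt y.1 (odd3 none)) :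
    Cong y 0 := by
  rw [cong_iff_coe, ZeroMemClass.coe_zero, sub_zero]
  refine exists_half_of_dot fun _ hw => le_of_gens (dvdDot 16 y.1) h (fun t => ?_) (fun i => ?_) hw
  · have := h8 _ ((support_mem_supports_iff _).2 (qr_mem_code t))
    have e : dotInt y.1 (lift (qrWord t)) = ∑ i ∈ support₂ (qrWord t), y.1 i := by
      simp only [dotInt, lift, support₂, Finset.sum_filter]
      exact Finset.sum_congr rfl fun i _ => by split_ifs <;> simp_all
    show (16 : ℤ) ∣ dotInt _ _
    rw [dot_zsmul_right, e]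
    omega
  · have := h4 i
    have := h4 none
    show (16 : ℤ) ∣ dotInt _ _
    rw [dot_add_right, dot_single_right, dot_single_right]
    omega

theorem sum_symmDiff {y : GolayPt → ℤ} (h4 : ∀ i, y i % 4 = 0) {C D : Finset GolayPt}
    (hC : (∑ i ∈ symmDiff C D, y i) % 8 = 0) (hD : (∑ i ∈ D, y i) % 8 = 0) : (∑ i ∈ C, y i) % 8 = 0 := by
  have h1 := Finset.sum_sdiff (f := y) (Finset.inter_subset_left (s₁ := C) (s₂ := D))
  have h2 := Finset.sum_sdiff (f := y) (Finset.inter_subset_right (s₁ := C) (s₂ := D))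
  have h3 : (4 : ℤ) ∣ ∑ i ∈ C ∩ D, y i := Finset.dvd_sum fun i _ => Int.dvd_of_emod_eq_zero (h4 i)
  rw [Finset.sdiff_inter_self_left] at h1
  rw [Finset.sdiff_inter_self_right] at h2
  rw [symmDiff_def, Finset.sup_eq_union, Finset.sum_union disjoint_sdiff_sdiff] at hC
  omega

theorem fix0 {x : leechLattice} (h4 : ∀ i, x.1 i % 4 = 0) (h8 : ∀ C ∈ Code, none ∉ C → some 0 ∉ C →
    some 1 ∉ C → (∑ i ∈ C, x.1 i) % 8 = 0) : x ∈ W0 rA rB ∨ x + e8 none ∈ W0 rA rB := by
  obtain ⟨B, hB, b1, b2, b3⟩ : ∃ B ∈ Code, none ∉ B ∧ some 0 ∈ B ∧ some 1 ∉ B :=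
    ⟨_, Golay.setOf_cw_mem (k := 5) (by norm_num), by decide +kernel⟩
  obtain ⟨C, hC, c1, c2, c3⟩ : ∃ B ∈ Code, none ∉ B ∧ some 0 ∉ B ∧ some 1 ∈ B :=
    ⟨_, Golay.setOf_cw_mem (k := 10) (by norm_num), by decide +kernel⟩
  have d4 : ∀ S : Finset GolayPt, (4 : ℤ) ∣ ∑ i ∈ S, x.1 i := fun S =>
    Finset.dvd_sum fun i _ => Int.dvd_of_emod_eq_zero (h4 i)
  obtain ⟨α, hα⟩ := d4 B
  obtain ⟨β, hβ⟩ := d4 C
  have hs : (∑ i, x.1 i) % 8 = 0 := by
    obtain ⟨m, -, h1, -, h2⟩ := (mem_iff' x.1).1 x.2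
    have := h1 none
    have := h4 none
    omega
  have key : ∀ γ : ℤ, (16 : ℤ) ∣ dotInt (x + γ • e8 none - (α • rA + β • rB)).1 (odd3 none) →
      x + γ • e8 none ∈ W0 rA rB := fun γ h => by
    have e : ∀ i, (x + γ • e8 none - (α • rA + β • rB)).1 i = x.1 i + (if i = none then 8 * γ - 4 * α -
        4 * β else 0) - (if i = some 0 then 4 * α else 0) - if i = some 1 then 4 * β else 0 := fun i => by
      simp only [rA, rB, AddSubgroup.coe_sub, AddSubgroup.coe_add, AddSubgroup.coe_zsmul, coe_v44, coe_e8,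
        Pi.sub_apply, Pi.add_apply, Pi.smul_apply, Pi.single_apply, smul_eq_mul]
      split_ifs <;> ring
    generalize hy : x + γ • e8 none - (α • rA + β • rB) = y at h e
    have g4 : ∀ i, y.1 i % 4 = 0 := fun i => by
      have := h4 i
      rw [e]; split_ifs <;> omega
    have es : ∀ S : Finset GolayPt, ∑ i ∈ S, y.1 i = ∑ i ∈ S, x.1 i + (if none ∈ S then 8 * γ - 4 * α -
        4 * β else 0) - (if some 0 ∈ S then 4 * α else 0) - if some 1 ∈ S then 4 * β else 0 := fun S => by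
      simp only [e, Finset.sum_sub_distrib, Finset.sum_add_distrib, Finset.sum_ite_eq']
    have g3 : ∀ S ∈ Code, none ∉ S → some 0 ∉ S → (∑ i ∈ S, y.1 i) % 8 = 0 := fun S hS s1 s2 => by
      by_cases s3 : some 1 ∈ S
      · refine sum_symmDiff g4 (D := C) ?_ (by rw [es]; simp [*])
        have := h8 _ (Golay.symmDiff_mem_code hS hC)
        rw [es]
        simp_all [Finset.mem_symmDiff]
      · rw [es]
        simpa [s1, s2, s3] using h8 S hS s1 s2 s3
    have g2 : ∀ S ∈ Code, none ∉ S → (∑ i ∈ S, y.1 i) % 8 = 0 := fun S hS s1 => by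
      by_cases s2 : some 0 ∈ S
      · exact sum_symmDiff g4 (g3 _ (Golay.symmDiff_mem_code hS hB) (by simp [Finset.mem_symmDiff, *])
          (by simp [Finset.mem_symmDiff, *])) (by rw [es]; simp [*])
      · exact g3 S hS s1 s2
    refine ⟨α, β, (cong_zero_of g4 (fun S hS => ?_) h).imp fun w hw => by rw [hy, ← hw, sub_zero]⟩
    by_cases s1 : none ∈ S
    · refine sum_symmDiff g4 (g2 _ (Golay.symmDiff_mem_code hS Golay.univ_mem_code)
        (by simp [Finset.mem_symmDiff, *])) ?_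
      simp only [es, Finset.mem_univ, if_true]
      omega
    · exact g2 S hS s1
  have h1 := eight_dvd_dot (x - (α • rA + β • rB)).2 (odd3_mem none)
  by_cases h : (16 : ℤ) ∣ dotInt (x - (α • rA + β • rB)).1 (odd3 none)
  · exact Or.inl (by simpa using key 0 (by simpa using h))
  · refine Or.inr (one_smul ℤ (e8 none) ▸ key 1 ?_)
    rw [add_sub_right_comm, AddSubgroup.coe_add, dot_add_left, one_smul, coe_e8, dot_single_left, odd3,
      if_pos rfl]
    omega

theorem half_of {x : leechLattice} {C : Code} (h1 : none ∉ C.1) (h2 : some 0 ∉ C.1) (h3 : some 1 ∉ C.1)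
    (h : sgn C • x - x ∈ W0 rA rB) : ∃ T ∈ Code, (∀ i ∈ C.1, x.1 i % 2 = 0 ∧ (i ∈ T ↔ x.1 i % 4 = 2)) ∧
      (∀ i ∈ T, i ∉ C.1 → i ∈ ({none, some 0, some 1} : Finset GolayPt)) ∧
      (T = ∅ → (∑ i ∈ C.1, x.1 i) % 8 = 0) := by
  obtain ⟨α, β, u, h⟩ := h
  have e : ∀ i, u.1 i = -(if i ∈ C.1 then x.1 i else 0) - (if i = none then 2 * α + 2 * β else 0) -
      (if i = some 0 then 2 * α else 0) - if i = some 1 then 2 * β else 0 := fun i => by
    have := congrArg (fun v : leechLattice => v.1 i) h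
    simp only [rA, rB, AddSubgroup.coe_sub, AddSubgroup.coe_add, AddSubgroup.coe_zsmul, coe_v44,
      AddSubgroup.coe_nsmul, Pi.sub_apply, Pi.add_apply, Pi.smul_apply, Pi.single_apply, smul_eq_mul,
      sgn_apply, nsmul_eq_mul, Nat.cast_ofNat] at this
    split_ifs at this ⊢ <;> omega
  obtain ⟨m, -, m1, m2, m3⟩ := (mem_iff' u.1).1 u.2
  have e0 := e none
  have ea := e (some 0)
  have eb := e (some 1)
  simp [h1, h2, h3] at e0 ea eb
  obtain rfl : m = 0 := by have := m1 none; omega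
  refine ⟨_, (support_mem_supports_iff _).2 m2, fun i hi => ?_, fun i hi hi' => ?_, fun h0 => ?_⟩
  · have := e i
    have := m1 i
    rw [if_pos hi, if_neg (ne_of_mem_of_not_mem hi h1), if_neg (ne_of_mem_of_not_mem hi h2),
      if_neg (ne_of_mem_of_not_mem hi h3)] at *
    rw [mem_support_red]
    omega
  · by_contra hn
    simp only [Finset.mem_insert, Finset.mem_singleton, not_or] at hn
    rw [mem_support_red, e] at hi
    simp [hi', hn] at hi
  · have a1 := (mem_support_red (fun i => u.1 i / 2) (some 0)).not.1 (h0 ▸ Finset.notMem_empty _)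
    have a2 := (mem_support_red (fun i => u.1 i / 2) (some 1)).not.1 (h0 ▸ Finset.notMem_empty _)
    simp only [e, Finset.sum_sub_distrib, Finset.sum_neg_distrib, Finset.sum_ite_eq', Finset.mem_univ,
      if_true, Finset.sum_ite_mem, Finset.univ_inter] at m3
    omega

theorem code_cases {S : Finset GolayPt} (hS : S ∈ Code) : S = ∅ ∨ S = Finset.univ ∨
    ∃ C : Code, none ∉ C.1 ∧ some 0 ∉ C.1 ∧ some 1 ∉ C.1 ∧ 0 < (S ∩ C.1).card ∧ (S ∩ C.1).card ≤ 4 := by
  obtain ⟨k, hk, rfl⟩ := Golay.mem_code_iff.1 hS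
  have h : allLt2 (fun k => force (cw k) fun S => Nat.beq S 0 || Nat.beq S 16777215 ||
      [20, 3944, 136, 68, 432, 2576, 1412, 3128, 76, 392, 532, 176].any fun j =>
        force (pc24 (Nat.land S (cw j))) fun n => Nat.blt 0 n && Nat.ble n 4) 64 64 = true := by
    decide +kernel
  simp only [allLt2_iff, force_eq, Bool.or_eq_true, Nat.beq_eq, List.any_eq_true, Bool.and_eq_true,
    Nat.blt_eq, Nat.ble_eq, Nat.land_eq] at h
  rcases h k hk with (e | e) | ⟨j, hj, e⟩
  · exact Or.inl (e ▸ E.setOf_zero)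
  · exact Or.inr (Or.inl (e ▸ E.setOf_full))
  · have : j < 4096 ∧ none ∉ E.setOf (cw j) ∧ some 0 ∉ E.setOf (cw j) ∧ some 1 ∉ E.setOf (cw j) := by
      clear e; revert j; decide +kernel
    exact Or.inr (Or.inr ⟨⟨_, Golay.setOf_cw_mem this.1⟩, this.2.1, this.2.2.1, this.2.2.2, by
      rwa [← E.setOf_and, Golay.card_setOf]⟩)

theorem fix1 {x : leechLattice} (h : ∀ C : Code, none ∉ C.1 → some 0 ∉ C.1 → some 1 ∉ C.1 →
    sgn C • x - x ∈ W0 rA rB) : x ∈ W0 rA rB ∨ x + e8 none ∈ W0 rA rB := by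
  have key : ∀ x : leechLattice, (∀ C : Code, none ∉ C.1 → some 0 ∉ C.1 → some 1 ∉ C.1 →
      sgn C • x - x ∈ W0 rA rB) → (∀ i, x.1 i % 4 = 0) → x ∈ W0 rA rB ∨ x + e8 none ∈ W0 rA rB :=
    fun x h h4 => fix0 h4 fun C hC h1 h2 h3 => by
      obtain ⟨T, hT, a, b, c⟩ := half_of h1 h2 h3 (h ⟨C, hC⟩ h1 h2 h3)
      have := Finset.card_le_card (show T ⊆ {none, some 0, some 1} from fun i hi => b i hi fun m => by
        have := (a i m).2.1 hi
        have := h4 i
        omega)
      have := Golay.card_of_mem_code hT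
      have := Finset.card_le_three (a := (none : GolayPt)) (b := some 0) (c := some 1)
      exact c (Finset.card_eq_zero.1 (by omega))
  obtain ⟨m, -, m1, m2, -⟩ := (mem_iff' x.1).1 x.2
  obtain rfl : m = 0 := by
    obtain ⟨C, c1, c2, c3, c4⟩ : ∃ C : Code, none ∉ C.1 ∧ some 0 ∉ C.1 ∧ some 1 ∉ C.1 ∧ some 2 ∈ C.1 :=
      ⟨⟨_, Golay.setOf_cw_mem (k := 20) (by norm_num)⟩, by decide +kernel⟩
    obtain ⟨T, -, a, -⟩ := half_of c1 c2 c3 (h C c1 c2 c3)
    rw [← m1 (some 2), (a _ c4).1]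
  rcases code_cases ((support_mem_supports_iff _).2 m2) with e | e | ⟨C, c1, c2, c3, c4, c5⟩
  · refine key x h fun i => ?_
    have := (mem_support_red (fun i => x.1 i / 2) i).not.1 (e ▸ Finset.notMem_empty _)
    have := m1 i
    omega
  · obtain ⟨o, ho⟩ : ∃ o : leechLattice, o.1 = odd3 none := ⟨⟨_, odd3_mem none⟩, rfl⟩
    have := key (x + 2 • o) (fun C c1 c2 c3 => by
      convert add_mem (h C c1 c2 c3) (two_mem_W0 _ _ (sgn C • o - o)) using 1
      rw [smul_add, smul_comm, smul_sub]; abel) fun i => by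
        have := (mem_support_red (fun i => x.1 i / 2) i).1 (e ▸ Finset.mem_univ _)
        have := m1 i
        simp only [AddSubgroup.coe_add, AddSubgroup.coe_nsmul, Pi.add_apply, Pi.smul_apply, ho, odd3]
        split_ifs <;> simp <;> omega
    rwa [add_right_comm, add_mem_cancel_right (two_mem_W0 _ _ _),
      add_mem_cancel_right (two_mem_W0 _ _ _)] at this
  · obtain ⟨T, hT, a, b, -⟩ := half_of c1 c2 c3 (h C c1 c2 c3)
    have h1 := Finset.card_le_card (show support₂ (red fun i => x.1 i / 2) ∩ C.1 ⊆ T from fun i hi => by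
      rw [Finset.mem_inter, mem_support_red] at hi
      have := m1 i
      exact (a i hi.2).2.2 (by omega))
    have h2 := Finset.card_le_card (show T ⊆ support₂ (red fun i => x.1 i / 2) ∩ C.1 ∪
        {none, some 0, some 1} from fun i hi => by
      rw [Finset.mem_union, Finset.mem_inter, mem_support_red]
      by_cases m : i ∈ C.1
      · have := (a i m).2.1 hi
        exact Or.inl ⟨by omega, m⟩
      · exact Or.inr (b i hi m))
    have := Finset.card_union_le (support₂ (red fun i => x.1 i / 2) ∩ C.1) {none, some 0, some 1}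
    have := Golay.card_of_mem_code hT
    have := Finset.card_le_three (a := (none : GolayPt)) (b := some 0) (c := some 1)
    omega

/-- an automorphism which fixes the two vectors -/
def gM : ℕ := 0x72108421484190842108420c83294a419463290a521465294a5290a421084194a3190a3214a318c65290a421084294a3190a32146529463190642108428c65190a52146518c65290642108418c63290a320c6328c6329064210832108420484190842108420c83294a428c6319063214a528ca3290a42108418c65190a5214a329463190a4210852108420c8409084210842148518c6428c63290a320ca519465190a421084294631906520ca329465290642108418ca51906320c6529465290a42108418ca329065214a528c65190642108418ca3190a520ca5194a3290642108418c631906321463194a5190642108419465190a320ca528ca519064210841946529063214a51946329064210852108420c8429084210842048518c6428ca5290a3214a3294a529064210852108420c8429084210842148538c652108420c8429084210842148118c652108420c8429084210842148519c652108420c8429084210842148518ce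

/-- a short vector -/
noncomputable def rD : leechLattice :=
  lv 0x50020010008004002001400800400180100080040020010008004002000c008003001801400a (by decide +kernel)

theorem exists_g : ∃ g : Co0, g • rA = rA ∧ g • rB = rB ∧ sqNorm (g • rC - rC).1 = 32 ∧
    dotInt rA.1 (g • rC - rC).1 = 0 ∧ dotInt rB.1 (g • rC - rC).1 = 0 := by
  have h := rep_aut (c := gM) (by decide +kernel)
  have e : ∀ {x y : leechLattice}, sqNorm x.1 = 32 → sqNorm y.1 = 32 → ap gM (enc x.1) = enc y.1 →
      aut gM • x = y := fun a b c => by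
    simpa using (h.smul_eq_iff RepF.one (by omega) (by omega)).2 c
  refine ⟨aut gM, e (by decide +kernel) (by decide +kernel) (by decide +kernel),
    e (by decide +kernel) (by decide +kernel) (by decide +kernel), ?_⟩
  rw [e (y := rD) (by decide +kernel) (by decide +kernel) (by decide +kernel)]
  decide +kernel

/-- an invariant subgroup with a short vector orthogonal to both contains all orthogonal classes -/
theorem span2' {u v w : leechLattice} (hu : sqNorm u.1 = 32) (hv : sqNorm v.1 = 32)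
    (huv : dotInt u.1 v.1 = 16) {W : AddSubgroup leechLattice} (h0 : W0 u v ≤ W)
    (hW : ∀ k : Co0, k • u = u → k • v = v → ∀ y ∈ W, k • y ∈ W) (hw : w ∈ W) (w0 : sqNorm w.1 = 32)
    (w1 : dotInt u.1 w.1 = 0) (w2 : dotInt v.1 w.1 = 0) {y : leechLattice}
    (y1 : (16 : ℤ) ∣ dotInt u.1 y.1) (y2 : (16 : ℤ) ∣ dotInt v.1 y.1) : y ∈ W := by
  obtain ⟨g, rfl, rfl, e⟩ := norm3 hu w0 hv w1 huv w2
  have h1 : g • leechU' ∈ W := by rcases e with e | e <;> simpa [e]
  obtain ⟨y, rfl⟩ := MulAction.surjective g y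
  rw [dot_smul] at y1 y2
  refine span2 (W := W.comap (DistribSMul.toAddMonoidHom _ g)) (fun y => h0 (smul_mem_W0 g (two_mem_W0 _ _ y)))
    (h0 ⟨1, 0, by simpa using Cong.refl _⟩) (h0 ⟨0, 1, by simpa using Cong.refl _⟩)
    (fun x x0 x1 x2 => ?_) y1 y2
  obtain ⟨k, k1, k2, k3⟩ := norm3 sqNorm_U x0 (sqNorm_nb 1) x1 dot_U_V x2
  have := hW (g * k * g⁻¹) (by simp [mul_smul, k1]) (by simp [mul_smul, k2]) _ h1
  rcases k3 with e | e <;> simpa [mul_smul, e] using this

/-- irreducibility -/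
theorem irr2 {u v : leechLattice} (hu : sqNorm u.1 = 32) (hv : sqNorm v.1 = 32)
    (huv : dotInt u.1 v.1 = 16) {W : AddSubgroup leechLattice} (h0 : W0 u v ≤ W)
    (hW : ∀ k : Co0, k • u = u → k • v = v → ∀ y ∈ W, k • y ∈ W) (h : ¬ W ≤ W0 u v)
    {y : leechLattice} (y1 : (16 : ℤ) ∣ dotInt u.1 y.1) (y2 : (16 : ℤ) ∣ dotInt v.1 y.1) : y ∈ W := by
  have := finite_Co0
  obtain ⟨l, rfl, rfl⟩ := pair_trans (v := rA) (w := rB) (by decide +kernel) (by decide +kernel) hu hv
    (huv ▸ by decide +kernel)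
  let W' := W.comap (DistribSMul.toAddMonoidHom _ l)
  have h0' : W0 rA rB ≤ W' := fun y hy => h0 (smul_mem_W0 l hy)
  have hW' : ∀ k : Co0, k • rA = rA → k • rB = rB → ∀ y ∈ W', k • y ∈ W' := fun k k1 k2 y hy => by
    simpa [mul_smul, W'] using hW (l * k * l⁻¹) (by simp [mul_smul, k1]) (by simp [mul_smul, k2]) _ hy
  obtain ⟨x, x1, x2, x3⟩ := exists_fixed (W := W') (two_mem_W0 rA rB)
    (Set.toFinite {k | k ∈ Sgn ∧ k • rA = rA ∧ k • rB = rB}) (fun k m => Sgn_sq m.1)
    (fun k m k' m' => by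
      rw [← inv_eq_of_mul_eq_one_right (Sgn_sq (mul_mem m.1 m'.1)), mul_inv_rev,
        inv_eq_of_mul_eq_one_right (Sgn_sq m.1), inv_eq_of_mul_eq_one_right (Sgn_sq m'.1)])
    (fun k m y hy => by simpa [m.2] using smul_mem_W0 k hy) (fun k m => hW' k m.2.1 m.2.2)
    fun e => h fun y hy => by simpa using smul_mem_W0 l (e (x := l⁻¹ • y) (by simpa [W'] using hy))
  have h1 : e8 none ∈ W' := (add_mem_cancel_left x1).1 (h0' ((fix1 fun C c1 c2 c3 => x3 _
    ⟨sgn_mem C, ?_, ?_⟩).resolve_left x2))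
  · have h2 : rC ∈ W' := (add_mem_cancel_right h1).1 (h0' ⟨1, 1, 0, Subtype.ext (funext (by decide +kernel))⟩)
    obtain ⟨g, g1, g2, g3, g4, g5⟩ := exists_g
    exact span2' hu hv huv h0 hW (w := l • (g • rC - rC)) (sub_mem (hW' g g1 g2 _ h2) h2)
      (by rwa [sqNorm_smul]) (by rwa [dot_smul]) (by rwa [dot_smul]) y1 y2
  all_goals
    refine Subtype.ext (funext fun i => ?_)
    rw [sgn_apply]
    split_ifs with m
    · simp [rA, rB, coe_v44, ne_of_mem_of_not_mem m c1, ne_of_mem_of_not_mem m c2,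
        ne_of_mem_of_not_mem m c3]
    · rfl

end CL.MP
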