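import Mathlib
import Cfsg.Agent.SPOR.F24P.Mon3
import Cfsg.Agent.FGS.SchurCover

/-! Elements of odd prime order in `C(z, s)` for a group of Monster type; the normaliser `3·Fi24`. -/

set_option autoImplicit false

namespace CL.MP

open Cfsg CL CL.Leech CL.LX CL.MSS CL.MT Subgroup

variable {G : Type*} [Group G]

/-- elements of odd order lift through a 2-group kernel -/
theorem exists_lift_prime {C M : Type*} [Group C] [Group M] (ρ : C →* M) (h1 : Function.Surjective ρ)
    (h2 : IsPGroup 2 ρ.ker) {p : ℕ} (hp : p.Prime) (hp2 : Odd p) {σ : M} (hσ : orderOf σ = p) :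
    ∃ b, orderOf b = p ∧ ρ b = σ := by
  have : Fact p.Prime := ⟨hp⟩
  obtain ⟨c, rfl⟩ := h1 σ
  have h3 : c ^ p ∈ ρ.ker := by rw [MonoidHom.mem_ker, map_pow, ← hσ, pow_orderOf_eq_one]
  obtain ⟨k, hk⟩ := h2 ⟨_, h3⟩
  have hk' : (c ^ p) ^ 2 ^ k = 1 := congrArg Subtype.val hk
  have hco : Nat.Coprime (2 ^ k) p := Nat.Coprime.pow_left k ((Nat.coprime_two_left).2 hp2)
  obtain ⟨m, -, hm⟩ := Nat.exists_mul_mod_eq_one_of_coprime hco hp.one_lt
  have e : ρ (c ^ (2 ^ k * m)) = ρ c := by
    rw [map_pow, ← pow_mod_orderOf, hσ, hm, pow_one]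
  refine ⟨c ^ (2 ^ k * m), orderOf_eq_prime ?_ fun e' => ?_, e⟩
  · rw [← pow_mul, show 2 ^ k * m * p = p * 2 ^ k * m by ring, pow_mul, pow_mul, hk', one_pow]
  · rw [e', map_one] at e
    rw [← e, orderOf_one] at hσ
    exact hp.one_lt.ne hσ

theorem zpowers_subgroupOf {L : Subgroup G} (b : L) :
    (zpowers (b : G)).subgroupOf L = zpowers b := by
  ext x
  exact ⟨fun ⟨i, hi⟩ => ⟨i, Subtype.ext hi⟩, fun ⟨i, hi⟩ => ⟨i, congrArg Subtype.val hi⟩⟩

theorem zpowers_le_cent (b : G) : zpowers b ≤ centralizer ((zpowers b : Subgroup G) : Set G) := by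
  rw [centralizer_zpowers, zpowers_le]; exact mem_centralizer_singleton_iff.2 rfl

theorem normal_zpowers_cent (b : G) :
    ((zpowers b).subgroupOf (centralizer ((zpowers b : Subgroup G) : Set G))).Normal :=
  ⟨fun x hx c => by
    have := c.2 x hx
    show (c : G) * x * (c : G)⁻¹ ∈ zpowers b
    rw [← this, mul_inv_cancel_right]; exact hx⟩

/-- the data needed to apply the statements about `C(z, s)` -/
theorem exists_pair [Finite G] (hM : IsGroupOfMonsterType G) :
    ∃ (z : G) (Q : Subgroup (centralizer ({z} : Set G))) (_ : Q.Normal) (s : G), IsOfMonsterType z Q ∧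
      (∃ hsc : s ∈ centralizer ({z} : Set G), (⟨s, hsc⟩ : centralizer ({z} : Set G)) ∈ Q) ∧
      IsConj z s ∧ s ≠ z ∧ ∃ ρ : centralizer ({z, s} : Set G) →* M24, Function.Surjective ρ ∧
        IsPGroup 2 ρ.ker := by
  obtain ⟨z, Q, _, h⟩ := hM
  obtain ⟨g, hg, hne⟩ := h.1.2.2.2.2
  have hc : IsConj z (g * z * g⁻¹) := isConj_iff.2 ⟨g, rfl⟩
  obtain ⟨Q1, R, A, h', -, hs'⟩ := setup h hg hc hne
  obtain ⟨ρ, h1, h2, -⟩ := h'.exists_rho hs'
  exact ⟨z, Q, inferInstance, _, h, hg, hc, hne, ρ, h1, h2⟩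

/-- a subgroup of a perfect centraliser has no complement in the normaliser -/
theorem not_isComplement {X N : Subgroup G} (hX : X ≠ ⊥) (hXC : X ≤ centralizer (X : Set G))
    (hC : centralizer (X : Set G) ≤ N) (hp : Group.IsPerfect (centralizer (X : Set G)))
    (L : Subgroup N) : ¬ (X.subgroupOf N).IsComplement' L := by
  intro hL
  set C := centralizer (X : Set G) with hCdef
  have key : ∀ c : C, ∃ x ∈ X, ∃ l ∈ L, (c : G) = x * l := by
    intro c
    obtain ⟨⟨x, l⟩, e⟩ := hL.2 ⟨c, hC c.2⟩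
    exact ⟨x.1.1, x.2, l.1, l.2, (congrArg Subtype.val e).symm⟩
  have hle : commutator C ≤ (L.map N.subtype).subgroupOf C := by
    rw [commutator_def, commutator_le]
    intro a _ b _
    obtain ⟨x, hx, l, hl, e⟩ := key a
    obtain ⟨y, hy, m, hm, e'⟩ := key b
    have hlC : (l : G) ∈ C := by
      have := mul_mem (inv_mem (hXC hx)) a.2
      rwa [e, inv_mul_cancel_left] at this
    have hmC : (m : G) ∈ C := by
      have := mul_mem (inv_mem (hXC hy)) b.2
      rwa [e', inv_mul_cancel_left] at this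
    have c1 : Commute x (l : G) := hlC x hx
    have c2 : Commute x (m : G) := hmC x hx
    have c3 : Commute y (l : G) := hlC y hy
    have c4 : Commute y (m : G) := hmC y hy
    have c5 : Commute x y := hXC hy x hx
    refine ⟨l * m * l⁻¹ * m⁻¹, mul_mem (mul_mem (mul_mem hl hm) (inv_mem hl)) (inv_mem hm), ?_⟩
    show (l : G) * m * (l : G)⁻¹ * (m : G)⁻¹ = (a : G) * b * (a : G)⁻¹ * (b : G)⁻¹
    rw [e, e']
    have d1 : x * l * (y * m) * (x * l)⁻¹ = y * (l * m * (l : G)⁻¹) := by
      calc x * l * (y * m) * (x * l)⁻¹ = x * (l * (y * m) * (l : G)⁻¹) * x⁻¹ := by group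
        _ = l * (y * m) * (l : G)⁻¹ := by
          rw [((c1.mul_right (c5.mul_right c2)).mul_right c1.inv_right).eq, mul_inv_cancel_right]
        _ = _ := by rw [← mul_assoc (l : G) y, ← c3.eq]; group
    rw [d1]
    have d2 : Commute y (l * m * (l : G)⁻¹ * (m : G)⁻¹) :=
      ((c3.mul_right c4).mul_right c3.inv_right).mul_right c4.inv_right
    calc (l : G) * m * (l : G)⁻¹ * (m : G)⁻¹ = y * (l * m * (l : G)⁻¹ * (m : G)⁻¹) * y⁻¹ := by
          rw [d2.eq, mul_inv_cancel_right]
      _ = _ := by group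
  rw [hp.commutator_eq_top] at hle
  apply hX
  rw [eq_bot_iff]
  intro x hx
  obtain ⟨l, hl, e⟩ : x ∈ L.map N.subtype := hle (mem_top (⟨x, hXC hx⟩ : C))
  have h1 : l ∈ X.subgroupOf N ⊓ L := ⟨(show (l : G) ∈ X from (show (l : G) = x from e) ▸ hx), hl⟩
  rw [hL.disjoint.eq_bot, mem_bot] at h1
  rw [← e, h1]; exact one_mem _

theorem row_three [Finite G] (hM : IsGroupOfMonsterType G) :
    ∃ (X N : Subgroup G), Nat.card ↥X = 3 ∧ N = Subgroup.normalizer (X : Set G) ∧
      (∃ _ : (X.subgroupOf N).Normal, Nonempty (↥N ⧸ X.subgroupOf N ≃* Cfsg.Spor.Fi24)) ∧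
      ∀ L : Subgroup ↥N, ¬ (X.subgroupOf N).IsComplement' L := by
  obtain ⟨z, Q, _, s, h, hsQ, hs, hne, ρ, h1, h2⟩ := exists_pair hM
  obtain ⟨b, hb, e⟩ := exists_lift_prime ρ h1 h2 Nat.prime_three (by decide)
    (σ := ⟨_, Golay.mem_3A⟩) (by rw [← Subgroup.orderOf_coe]; exact Golay.orderOf_3A)
  have hc := (central_iff_dvd ρ h1 h2 hb).2 (by rw [e, Golay.Cent_3A_eq.2]; norm_num)
  rw [← zpowers_subgroupOf] at hc
  have h3 : Nat.card (zpowers (b : G)) = 3 := by rw [Nat.card_zpowers, Subgroup.orderOf_coe, hb]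
  have := normal_zpowers_cent (b : G)
  have hn : ((zpowers (b : G)).subgroupOf (normalizer ((zpowers (b : G) : Subgroup G) : Set G))).Normal :=
    normal_in_normalizer
  obtain ⟨hq, ψ, θ, -⟩ := CL.F24P.mon3 h hsQ hs hne (zpowers_le.2 b.2) h3 hc
  refine ⟨_, _, h3, rfl, ⟨hn, ⟨θ⟩⟩, not_isComplement (fun e => ?_) (zpowers_le_cent _)
    (centralizer_le_normalizer _) hq.1⟩
  rw [e, card_bot] at h3
  omega

/-- a central extension of a perfect group with trivial multiplier splits -/
theorem exists_sub_of_trivial [Finite G] (b : G) {K : Type*} [Group K]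
    (hK : HasCyclicSchurMultiplier K 1) (hp : Group.IsPerfect K)
    [((zpowers b).subgroupOf (centralizer ((zpowers b : Subgroup G) : Set G))).Normal]
    (e : centralizer ((zpowers b : Subgroup G) : Set G) ⧸
      (zpowers b).subgroupOf (centralizer ((zpowers b : Subgroup G) : Set G)) ≃* K) :
    Nat.card (centralizer ({b} : Set G)) = orderOf b * Nat.card K ∧
    ∃ H : Subgroup G, H ≤ centralizer ({b} : Set G) ∧ Nonempty (H ≃* K) := by
  constructor
  · rw [← centralizer_zpowers, card_eq_card_quotient_mul_card_subgroup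
      ((zpowers b).subgroupOf (centralizer ((zpowers b : Subgroup G) : Set G))),
      Nat.card_congr e.toEquiv, Nat.card_congr (subgroupOfEquivOfLe (zpowers_le_cent b)).toEquiv,
      Nat.card_zpowers, mul_comm]
  obtain ⟨η, hη⟩ := CL.Schur.exists_lift_of_trivial_of_perfect hK hp (MonoidHom.id K)
    (ξ := e.toMonoidHom.comp (QuotientGroup.mk' _))
    ⟨e.surjective.comp (QuotientGroup.mk'_surjective _), fun x hx => by
      have h1 : x ∈ (zpowers b).subgroupOf (centralizer ((zpowers b : Subgroup G) : Set G)) := by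
        simpa using hx
      exact mem_center_iff.2 fun c => Subtype.ext (c.2 x h1).symm⟩
  have hi : Function.Injective η := fun x y h => by
    have := congrArg (e.toMonoidHom.comp (QuotientGroup.mk' _)) h
    rwa [← MonoidHom.comp_apply, ← MonoidHom.comp_apply _ η, hη] at this
  have hi' : Function.Injective ((Subgroup.subtype _).comp η) := (subtype_injective _).comp hi
  refine ⟨((Subgroup.subtype _).comp η).range, ?_, ⟨(MonoidHom.ofInjective hi').symm⟩⟩
  rintro _ ⟨x, rfl⟩
  rw [← centralizer_zpowers]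
  exact (η x).2

end CL.MP
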