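import Mathlib
import Cfsg.Agent.SPOR.MP.Row3
import Cfsg.Agent.S5417
import Cfsg.Agent.S2049
import Cfsg.Agent.S1695

/-! The centraliser `7 × He` in a group of Monster type. -/

set_option autoImplicit false

namespace CL.MP

open Cfsg CL CL.Leech CL.LX CL.MSS CL.MT Subgroup

variable {G : Type*} [Group G]

theorem isPerfect_of_simple_card {K : Type*} [Group K] [IsSimpleGroup K] (h : 6 ∣ Nat.card K) :
    Group.IsPerfect K := by
  rcases (inferInstance : (commutator K).Normal).eq_bot_or_eq_top with e | e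
  · exfalso
    have hc : IsMulCommutative K := ⟨⟨fun a b => commutatorElement_eq_one_iff_mul_comm.1 (by
      rw [← mem_bot, ← e]; exact commutator_mem_commutator (mem_top _) (mem_top _))⟩⟩
    have hp : (Nat.card K).Prime := Group.is_simple_iff_prime_card.1 inferInstance
    have := (Nat.prime_dvd_prime_iff_eq Nat.prime_two hp).1 ((by norm_num : 2 ∣ 6).trans h)
    rw [← this] at h
    omega
  · exact ⟨e⟩

/-- a Sylow `p`-subgroup of `C(z, s)` for `p` dividing `|M24|` exactly once -/
theorem exists_sylow_gen [Finite G] {L : Subgroup G} (ρ : L →* M24) (h1 : Function.Surjective ρ)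
    (h2 : IsPGroup 2 ρ.ker) {p : ℕ} (hp : p.Prime) (hp2 : Odd p)
    (hM24 : (244823040 : ℕ).factorization p = 1) :
    ∃ b ∈ L, orderOf b = p ∧ Nat.card (zpowers b) = p ^ (Nat.card L).factorization p := by
  have : Fact p.Prime := ⟨hp⟩
  obtain ⟨a, ha⟩ := card_eq_of_ker ρ h1 h2
  have h3 : (Nat.card L).factorization p = 1 := by
    rw [ha, Golay.card_M24, Nat.factorization_mul (by positivity) (by norm_num), Finsupp.add_apply,
      hM24, Nat.factorization_eq_zero_of_not_dvd (fun e => by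
        have := (Nat.prime_dvd_prime_iff_eq hp Nat.prime_two).1 (hp.dvd_of_dvd_pow e)
        rw [this] at hp2; exact absurd hp2 (by decide)), zero_add]
  obtain ⟨b, hb⟩ := exists_prime_orderOf_dvd_card' (G := L) p
    (Nat.dvd_of_factorization_pos (by rw [h3]; exact one_ne_zero))
  have hb' : orderOf (b : G) = p := by rw [Subgroup.orderOf_coe, hb]
  exact ⟨b, b.2, hb', by rw [h3, pow_one, Nat.card_zpowers, hb']⟩

theorem row_He [Finite G] (hM : IsGroupOfMonsterType G) :
    ∃ x : G, orderOf x = 7 ∧ Nat.card (centralizer ({x} : Set G)) = 7 * 4030387200 ∧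
      ∃ K : Subgroup G, K ≤ centralizer ({x} : Set G) ∧ Spor.IsoHe K ∧ IsHe K := by
  obtain ⟨z, Q, _, s, h, hsQ, hs, hne, ρ, h1, h2⟩ := exists_pair hM
  obtain ⟨b, hb, h7, hc⟩ := exists_sylow_gen ρ h1 h2 (p := 7) (by norm_num) (by decide)
    (by decide +kernel)
  have := normal_zpowers_cent b
  obtain ⟨e⟩ := Cfsg.Agent.S5417.result z Q h s hsQ hs hne _ (zpowers_le.2 hb) hc
  obtain ⟨k1, k2⟩ := Cfsg.Agent.S1695.result
  obtain ⟨c1, K, c2, ⟨e'⟩⟩ := exists_sub_of_trivial b Cfsg.Agent.S2049.result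
    (isPerfect_of_simple_card (by rw [k2]; norm_num)) e
  exact ⟨b, h7, by rw [c1, h7, k2], K, c2, ⟨e'⟩, e'.isSimpleGroup,
    (Nat.card_congr e'.toEquiv).trans k2⟩

end CL.MP
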