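/-
The kernel theorem for the subgroup generated by a `Y553` system.
-/
import Cfsg.Agent.SPOR.MP.Asm
import Cfsg.Agent.SPOR.MP.Tab

set_option autoImplicit false
set_option maxRecDepth 100000

namespace CL.MP
open Cfsg Subgroup CL.CE CL.Y5 CL.BM CL.MO CL.Gr
open CL.Net (ltrs)

variable {P : Pk ℝ} {d : ℕ → GG P}

theorem ND.gtop (N : ND P d) : gen d (ltrs 14) = ⊤ :=
  let ⟨_, M⟩ := exists_morse P (N.mem 10 (by norm_num)); gen_top N M

theorem ND.cen (N : ND P d) : centralizer {d 10} ≤ gen d wB :=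
  N.wB_eq.ge.trans (gen_le_iff.2 fun w hw => by
    rw [ev_ex (List.all_eq_true.1 (by decide +kernel : wB.all (ltAll 15) = true) w hw)]
    exact ev_mem_gen hw)

theorem ND.ker (N : ND P d) {Y : Type*} [Group Y] {y : ℕ → Y} (h : Pres y id R553)
    (π : gen y (ltrs 14) →* GG P) (hπ : ∀ i hi, i < 14 → π ⟨y i, hi⟩ = d i) (k : Y)
    (hk : k ∈ gen y (ltrs 14)) (e : π ⟨k, hk⟩ = 1) : k ∈ zpowers (ev y f3w) := by
  obtain ⟨_, M⟩ := exists_morse P (N.mem 10 (by norm_num))
  have c : ∀ i < 14, (inGen y (ltrs 14) i : Y) = y i := fun i hi => by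
    change subst y (ltrs 14) i = _
    rw [subst, (by decide : ∀ i < 14, (ltrs 14).getD i [] = [i]) i hi, ev_singleton]
  have h' : Pres (inGen y (ltrs 14)) id R553 :=
    Pres.inGen (h.subst (ivl := List.range 14) (by decide +kernel)).toId
  have top : gen (inGen y (ltrs 14)) (ltrs 14) = ⊤ := by
    refine map_injective (gen y (ltrs 14)).subtype_injective ?_
    rw [map_gen, ← MonoidHom.range_eq_map, range_subtype]
    unfold gen
    congr 1
    ext u
    refine exists_congr fun w => and_congr_right fun hw => ?_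
    obtain ⟨a, ha, rfl⟩ := mem_ltrs.1 hw
    rw [ev_singleton, ev_singleton, coe_subtype, c a ha]
  obtain ⟨n, hn⟩ := ker_le N M h' π (fun i hi => (congrArg π (Subtype.ext (c i hi))).trans
    (hπ i (mem_gen_ltrs y hi) hi)) top e
  refine ⟨n, ?_⟩
  have := congrArg Subtype.val hn
  rwa [coe_zpow, coe_ev_inGen, eq_of_leq (v := substW _ _) (w := f3w) (by decide +kernel)] at this

end CL.MP
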