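import Cfsg.Agent.SPOR.MP.Rho

/-!
Central extensions of a group generated by a `Y553` system with trivial `f3`.
-/

set_option autoImplicit false
set_option maxRecDepth 100000

namespace CL.MP

open Cfsg Cfsg.Spor Subgroup CL.CE CL.K CL.Net CL.Fi CL.Y5 CL.Y5.Dt CL.BM

variable {G Γ : Type*} [Group G] [Group Γ] {σ : Γ →* G} {d : ℕ → G}

theorem ex_braid_lift (hσ : Schur.IsCentralExt σ) {u : Γ} {b : G} (hu : u * u = 1) (hb : b * b = 1)
    (h : (σ u * b) ^ 3 = 1) : ∃ v, σ v = b ∧ v * v = 1 ∧ (u * v) ^ 3 = 1 := by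
  obtain ⟨r, hr⟩ := hσ.1 (σ u * b)
  have su : σ u * σ u = 1 := by rw [← map_mul, hu, map_one]
  have iu := inv_eq_of_mul_eq_one_right hu
  have h1 := FiS.commute_of_ker hσ.2 (z := u * r * u * r) (by
    simp only [map_mul, hr, ← mul_assoc, su, one_mul]
    rw [mul_assoc b, su, mul_one, hb])
  have h2 := FiS.commute_of_ker hσ.2 (z := r ^ 3) (by rw [map_pow, hr, h])
  have h3 : u * r * u⁻¹ = u * r * u * r * r⁻¹ := by rw [iu, mul_inv_cancel_right]
  have h4 : (u * r * u * r) ^ 3 = r ^ 3 * r ^ 3 := by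
    have : (u * r * u⁻¹) ^ 3 = _ := congrArg (· ^ 3) h3
    rw [conj_pow, ← (h2 u).eq, mul_inv_cancel_right, (h1 _).mul_pow, inv_pow] at this
    exact mul_inv_eq_iff_eq_mul.1 this.symm
  refine ⟨r * u * r⁻¹, ?_, by rw [conj_mul, hu, mul_one, mul_inv_cancel], ?_⟩
  · rw [map_mul, map_mul, map_inv, hr, mul_inv_eq_iff_eq_mul]
    have : σ u * b * σ u * (b * σ u * b) = 1 := by simpa [pow_succ, mul_assoc] using h
    rw [eq_inv_of_mul_eq_one_left this]
    simp only [mul_inv_rev, inv_eq_of_mul_eq_one_right su, inv_eq_of_mul_eq_one_right hb]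
  · rw [show u * (r * u * r⁻¹) = u * r * u * r * (r⁻¹ * r⁻¹) by group, (h1 _).mul_pow, h4]
    group

/-- the parent of a node -/
def par (i : ℕ) : ℕ := [0, 0, 1, 2, 3, 4, 0, 6, 7, 8, 9, 0, 11, 12].getD i 0

/-- the nodes lift to a central extension -/
theorem exists_lift553 (hσ : Schur.IsCentralExt σ) (h : Pres d id R553) (f3 : ev d f3w = 1) :
    ∃ y, Pres y id R553 ∧ ∀ i < 14, σ (y i) = d i := by
  have : Finite Fi23 := Nat.finite_of_card_ne_zero (by rw [Fi23.card]; norm_num)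
  let w2 : List (List ℕ) := [[13], [12], [11], [0], [1], [2], [3], [6], [7], [4]]
  have h2 : Pres (subst d w2) id R432 :=
    ((R553r_of h).subst (ivl := List.range 10) (by decide +kernel)).toId
  have hc : Pres d id C553 := h.mono (by decide +kernel)
  obtain ⟨φ, hφ⟩ := Y5.exists_hom23 h2
  obtain ⟨η, hη⟩ := Schur.exists_lift_of_trivial_of_perfect
    (SchurC.hasSchurMultiplier_of (SchurC.lower_trivial _) FiS.upper23) perfect23 φ hσ
  have e2 : ∀ a < 10, σ (η (Fi23.g0 a)) = subst d w2 a := fun a ha => by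
    have := hφ [a] (by simp [ltAll, ha])
    rw [ev_singleton, ev_singleton, tw, if_pos ha, ← ev_substW,
      eq_of_leq (v := substW w2 zw) (w := f3w) (by decide +kernel), f3, one_mul] at this
    exact (DFunLike.congr_fun hη _).trans this
  have P := pres23.map η
  have cm : ∀ i < 14, ∀ j < 14, lab i j = 2 → ∀ u v, σ u = d i → σ v = d j → Commute u v := by
    have t : ∀ g a b, (∀ u v, σ u = a → σ v = b → Commute u v) →
        ∀ u v, σ u = g * a * g⁻¹ → σ v = g * b * g⁻¹ → Commute u v := fun g a b k u v e e' => by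
      obtain ⟨g, rfl⟩ := hσ.1 g
      have := (k ((MulAut.conj g).symm u) ((MulAut.conj g).symm v) (by simp [e, mul_assoc])
        (by simp [e', mul_assoc])).map (MulAut.conj g)
      rwa [MulEquiv.apply_symm_apply, MulEquiv.apply_symm_apply] at this
    refine pairs hc (T := fun a b => ∀ u v, σ u = a → σ v = b → Commute u v) t (by_contra fun n => ?_)
    refine pairs hc (T := fun a b => ¬ ∀ u v, σ u = a → σ v = b → Commute u v)
      (fun g a b k k' => k (by simpa [mul_assoc] using t g⁻¹ _ _ k')) n 13 (by norm_num) 0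
      (by norm_num) rfl fun u v e e' => ?_
    obtain ⟨a, -, a1, rfl⟩ := FiS.exists_ker hσ.2
      (((e2 0 (by norm_num)).trans (ev_singleton _ _)).trans e.symm)
    obtain ⟨b, -, b1, rfl⟩ := FiS.exists_ker hσ.2
      (((e2 3 (by norm_num)).trans (ev_singleton _ _)).trans e'.symm)
    exact (a1 _).mul_left ((b1 _).symm.mul_right (commute_of P (by decide +kernel)))
  have key : ∀ n ≤ 13, ∃ y : ℕ → Γ, (∀ i, y i * y i = 1) ∧
      ∀ i ≤ n, σ (y i) = d i ∧ (0 < i → (y (par i) * y i) ^ 3 = 1) := fun n => by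
    induction n with
    | zero => exact fun _ => ⟨fun _ => η (Fi23.g0 3), fun _ => sq_of P 3, fun i hi =>
        ⟨Nat.le_zero.1 hi ▸ (e2 3 (by norm_num)).trans (ev_singleton _ _), by omega⟩⟩
    | succ n ih =>
      intro hn
      obtain ⟨y, y1, y2⟩ := ih (by omega)
      have p : ∀ i ≤ 13, 0 < i → par i < i ∧ lab (par i) i = 3 := by decide
      have p1 := p _ hn n.succ_pos
      obtain ⟨v, v1, v2, v3⟩ := ex_braid_lift hσ (y1 (par (n + 1))) (sq_of h (n + 1)) (by
        rw [(y2 _ (by omega)).1, ← p1.2]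
        exact rel_lab hc (by omega) (by omega))
      refine ⟨Function.update y (n + 1) v, fun i => ?_, fun i hi => ?_⟩
      · rw [Function.update_apply]
        split_ifs
        exacts [v2, y1 i]
      · by_cases e : i = n + 1
        · rw [e, Function.update_self, Function.update_of_ne p1.1.ne]
          exact ⟨v1, fun _ => v3⟩
        · rw [Function.update_of_ne e]
          refine ⟨(y2 i (by omega)).1, fun h0 => ?_⟩
          rw [Function.update_of_ne (by have := (p i (by omega) h0).1; omega)]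
          exact (y2 i (by omega)).2 h0
  obtain ⟨y, y1, y2⟩ := key 13 le_rfl
  have y3 : ∀ i < 14, σ (y i) = d i := fun i hi => (y2 i (by omega)).1
  refine ⟨y, spider_lift hσ.2 ⟨fun a => eq_inv_of_mul_eq_one_left (y1 a), fun r hr => ?_⟩
    ⟨fun a => by rw [← map_inv, id, ← eq_inv_of_mul_eq_one_left (y1 a)], fun r hr => ?_⟩, y3⟩
  · obtain ⟨j, hj, rfl | ⟨h0, rfl⟩ | ⟨i, hi, e, rfl⟩⟩ := (by decide +kernel : ∀ r ∈ C553, ∃ j < 14,
      r = [j, j] ∨ (0 < j ∧ r = wpow [par j, j] 3) ∨ ∃ i < 14, lab i j = 2 ∧ r = wpow [i, j] 2) r hr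
    · simpa [ev_cons, ev_nil] using y1 j
    · rw [ev_wpow, ev_cons, ev_singleton]
      exact (y2 j (by omega)).2 h0
    · rw [ev_wpow, ev_cons, ev_singleton, (cm i hi j hj e _ _ (y3 i hi) (y3 j hj)).mul_pow,
        pow_two, pow_two, y1, y1, one_mul]
  · rw [← h.rel r hr]
    exact ev_congr fun a ha => y3 a ((by decide +kernel : ∀ r ∈ R553, ∀ a ∈ r, a < 14) r hr a ha)

/-- if `Y553` is `G × 2` then the multiplier of `G` is trivial -/
theorem ker_eq_bot553 (hσ : IsStemExtension σ) (h : Pres d id R553) (f3 : ev d f3w = 1)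
    (top : gen d (ltrs 14) = ⊤)
    (H : ∀ x : ℕ → Γ × Multiplicative (ZMod 2), Pres x id R553 → (∀ i < 14, σ (x i).1 = d i) →
      ∀ c ∈ gen x (ltrs 14), σ c.1 = 1 → c ∈ zpowers (ev x f3w)) : σ.ker = ⊥ := by
  obtain ⟨y, y1, y2⟩ := exists_lift553 (Schur.isCentralExt_of_stem hσ) h f3
  have P0 : Pres (fun _ => Multiplicative.ofAdd (1 : ZMod 2)) id R553 :=
    ⟨fun _ => by decide, by decide +kernel⟩
  have P := y1.prod P0
  set x := fun a => (y a, Multiplicative.ofAdd (1 : ZMod 2))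
  have k : ∀ a : Γ, ∃ c, (∀ w, Commute c w) ∧ ∃ w ∈ gen x (ltrs 14), a = c * w.1 := fun a => by
    have : gen d (ltrs 14) ≤ (gen x (ltrs 14)).map (σ.comp (MonoidHom.fst _ _)) :=
      gen_le_iff.2 fun w hw => by
        obtain ⟨a, ha, rfl⟩ := mem_ltrs.1 hw
        exact ⟨x a, mem_gen_ltrs x ha, (y2 a ha).trans (ev_singleton _ _).symm⟩
    obtain ⟨w, w1, w2⟩ := this (top ▸ mem_top (σ a))
    obtain ⟨c, -, c1, c2⟩ := FiS.exists_ker hσ.2.1 (x := w.1) w2
    exact ⟨c, c1, w, w1, c2⟩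
  have le : commutator Γ ≤ (gen x (ltrs 14)).comap (MonoidHom.inl _ _) :=
    commutator_le.2 fun a _ b _ => by
      obtain ⟨c, c1, v, v1, rfl⟩ := k a
      obtain ⟨e, e1, w, w1, rfl⟩ := k b
      have := mul_mem (mul_mem (mul_mem v1 w1) (inv_mem v1)) (inv_mem w1)
      rw [mem_comap]
      convert this using 1
      refine Prod.ext ?_ ?_
      · show c * v.1 * (e * w.1) * (c * v.1)⁻¹ * (e * w.1)⁻¹ = v.1 * w.1 * v.1⁻¹ * w.1⁻¹
        rw [(c1 _).eq, (e1 _).eq]
        calc _ = v.1 * (c * (w.1 * e) * c⁻¹) * v.1⁻¹ * e⁻¹ * w.1⁻¹ := by group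
          _ = v.1 * w.1 * (e * v.1⁻¹ * e⁻¹) * w.1⁻¹ := by rw [(c1 _).eq]; group
          _ = _ := by rw [(e1 _).eq]; group
      · show (1 : Multiplicative (ZMod 2)) = v.2 * w.2 * v.2⁻¹ * w.2⁻¹
        simp
  refine eq_bot_iff.2 fun c hc => ?_
  obtain ⟨n, hn⟩ := mem_zpowers_iff.1 (H x P y2 _ (le (hσ.2.2 hc)) hc)
  have s := (f3_spec P).1
  have e : (ev x f3w).2 ≠ 1 := by
    rw [show (ev x f3w).2 = ev (fun _ => Multiplicative.ofAdd (1 : ZMod 2)) f3w from
      map_ev (MonoidHom.snd _ _) x f3w]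
    decide +kernel
  rcases Int.even_or_odd' n with ⟨m, rfl | rfl⟩
  · rw [zpow_mul, zpow_two, s, one_zpow] at hn
    exact (congrArg Prod.fst hn).symm
  · rw [zpow_add_one, zpow_mul, zpow_two, s, one_zpow, one_mul] at hn
    exact absurd (congrArg Prod.snd hn) e

end CL.MP
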