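import Cfsg.Agent.SPOR.MP.P5Lat
import Cfsg.Agent.SPOR.MP.P5G

/-! The normaliser `2^{5+10+20}.(S3 × L5(2))` in a group of Monster type. -/

set_option autoImplicit false
set_option maxRecDepth 100000

namespace CL.MP

open Cfsg CL.Leech CL.MT CL.StdCo CL.K CL.LX CL.MSS Subgroup Function MulAction
open CL.Golay (trHom tri Tr0)
open scoped Pointwise

variable {G : Type*} [Group G] {z : G} {Q : Subgroup G} {R : leechLattice → G → Prop}
  {A : Co0 → G → Prop}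

/-- coordinates on the elementary abelian group of order `2^5` -/
structure Pent (h : MT z Q R A) (φ : (Fin 5 → ZMod 2) → G) : Prop where
  add : ∀ u v, φ (u + v) = φ u * φ v
  e : φ (Pi.single 0 1) = z
  ovr : ∀ i, R (bs i) (φ (Pi.single i 1))

theorem exists_pent (h : MT z Q R A) : ∃ φ, Pent h φ := by
  have : ∀ i, ∃ x, R (bs i) x ∧ (i = 0 → x = z) := fun i => by
    by_cases e : i = 0
    · exact ⟨z, by simpa [e, bs_zero] using h.R_z h.R_zero, fun _ => rfl⟩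
    · exact let ⟨x, a⟩ := h.ex_x (bs i); ⟨x, a, fun b => absurd b e⟩
  choose γ h1 h2 using this
  obtain ⟨φ, a, b⟩ := exists_add γ (fun i j => (h.comm_iff (h1 i) (h1 j)).2 (dvd_dot_four (bs_four i) (bs_four j)))
    fun i => (h.sq_iff (h1 i)).2 (by rw [bs_norm]; split_ifs <;> norm_num)
  exact ⟨φ, a, (b 0).trans (h2 0 rfl), fun i => b i ▸ h1 i⟩

variable {h : MT z Q R A} {φ : (Fin 5 → ZMod 2) → G}

theorem Pent.ov (K : Pent h φ) (u : Fin 5 → ZMod 2) :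
    ∃ v, R v (φ u) ∧ Co1T.κ v = ∑ i, u i • Co1T.κ (bs i) ∧ ∀ p, (4 : ℤ) ∣ v.1 p :=
  ind2 (P := fun u => ∃ v, R v (φ u) ∧ Co1T.κ v = ∑ i, u i • Co1T.κ (bs i) ∧ ∀ p, (4 : ℤ) ∣ v.1 p)
    ⟨0, add_zero' K.add ▸ h.R_zero, by simp, by simp⟩
    (fun _ _ ⟨v, a, b, c⟩ ⟨w, d, e, f⟩ => ⟨v + w, K.add _ _ ▸ h.R_mul a d, by
      simp only [map_add, b, e, Pi.add_apply, add_smul, Finset.sum_add_distrib], fun p => dvd_add (c p) (f p)⟩)
    u fun i _ => ⟨_, K.ovr i, by simp [Pi.single_apply], bs_four i⟩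

theorem Pent.z_mem (K : Pent h φ) : z ∈ img K.add := ⟨_, K.e⟩

theorem Pent.le (K : Pent h φ) : img K.add ≤ Q := by
  rintro _ ⟨u, rfl⟩
  exact let ⟨_, a, _⟩ := K.ov u; h.R_mem a

theorem Pent.inj (K : Pent h φ) : Injective φ := fun u v e => by
  have h1 : φ (u + v) = 1 := by rw [K.add, e, add_sq K.add]
  rw [← neg_eq_of_add_eq_zero_left (add_self2 v), eq_neg_iff_add_eq_zero]
  generalize u + v = w at h1
  obtain ⟨x, a, b, -⟩ := K.ov w
  have h2 := bs_ind w (by rw [← b, Co1T.κ_eq_iff.2 (h.cong_of (h1 ▸ a) h.R_zero), map_zero])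
  have h3 : w = Pi.single 0 (w 0) := funext fun i => by
    by_cases e : i = 0
    · rw [e, Pi.single_eq_same]
    · rw [h2 i e, Pi.single_eq_of_ne e]
  rcases zmod2_cases (w 0) with e | e <;> rw [e] at h3
  · rw [h3, Pi.single_zero]
  · exact absurd (by rw [← K.e, ← h3, h1]) h.lx.z_ne

theorem Pent.le_cj [Finite G] (K : Pent h φ) {g} (hs : R (e8 none) (g * z * g⁻¹)) : img K.add ≤ g •ᶜ Q := by
  rintro _ ⟨u, rfl⟩
  exact let ⟨_, a, _, b⟩ := K.ov u; four_mem_cj h hs b a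

theorem Pent.lift [Finite G] (K : Pent h φ) {k} (hk : ∀ i, Cong (k • bs i) (bs i)) :
    ∃ c ∈ centralizer (img K.add : Set G), A k c := by
  obtain ⟨c, hc⟩ := h.ex_c k
  obtain ⟨y, hy, e⟩ := exists_adjust (c := c) h.lx.toES K.le K.z_mem (by
    rintro _ ⟨u, rfl⟩
    have : ∃ v, R v (φ u) ∧ Cong (k • v) v := ind2 (P := fun u => ∃ v, R v (φ u) ∧ Cong (k • v) v)
      ⟨0, add_zero' K.add ▸ h.R_zero, by rw [smul_zero]; exact Cong.refl _⟩
      (fun _ _ ⟨v, a, b⟩ ⟨w, c, d⟩ => ⟨v + w, K.add _ _ ▸ h.R_mul a c, smul_add k v w ▸ b.add d⟩) u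
      fun i _ => ⟨_, K.ovr i, hk i⟩
    obtain ⟨v, a, b⟩ := this
    exact h.cases_of a (h.R_of_cong (h.R_conj hc a) b))
  exact ⟨_, e, by simpa using h.A_mul (h.A_one (inv_mem hy)) hc⟩

theorem Pent.es [Finite G] (K : Pent h φ) (i : Fin 5) : ∃ P, ES P (φ (Pi.single i 1)) ∧ img K.add ≤ P := by
  have hs := bs_one ▸ K.ovr 1
  obtain ⟨g, e⟩ := isConj_iff.1 (h.conj_of_64 hs (sqNorm_e8 _))
  have hP := e ▸ h.lx.toES.conj g
  have hE := K.le_cj (e ▸ hs)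
  refine Fin.cases ⟨Q, K.e ▸ h.lx.toES, K.le⟩ (fun i => Fin.cases ⟨_, hP, hE⟩ (fun j => ?_) i) i
  obtain ⟨k, hk⟩ := exists_swap j
  have hn := h.ne_of_norm (K.ovr j.succ.succ) (by rw [bs_norm]; split_ifs <;> norm_num)
    (by rw [bs_norm, if_neg (Fin.succ_ne_zero _)]; norm_num)
  obtain ⟨c, hc, e⟩ := h.exists_conj_eq (K.ovr 1) (K.ovr j.succ.succ) (by simpa using hk 1) hn.1 hn.2
  refine ⟨_, e ▸ hP.conj c, ?_⟩
  rw [← cj_eq_of_mem_normalizer (mem_norm_img K.add (n := c) fun i => by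
    rcases h.cases_of (K.ovr _) (h.R_of_cong (h.R_conj hc (K.ovr i)) (hk i)) with e | e <;> rw [e]
    exacts [⟨_, rfl⟩, mul_mem ⟨_, rfl⟩ K.z_mem])]
  exact map_mono hE

theorem Pent.mem_E [Finite G] (K : Pent h φ) {c}
    (hc : ∀ q ∈ Q ⊓ centralizer (img K.add : Set G), c * q = q * c) : c ∈ img K.add := by
  obtain ⟨k, hk⟩ := h.ex_g c (hc z ⟨h.lx.z_mem, fun x hx => h.lx.z_comm x (K.le hx)⟩)
  by_contra e
  obtain ⟨q, a, b, d⟩ := h.lx.exists_centralizes_not_comm K.le K.z_mem ((h.A_ker hk).2 (center_of fun u hu =>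
    let ⟨f, hf⟩ := h.ex_x u
    cong_of_comm h hk hf (hc f ⟨h.R_mem hf, fun _ ⟨w, e⟩ =>
      let ⟨_, a, _, b⟩ := K.ov w; e ▸ (h.comm_iff a hf).2 (dvd_dot_four b hu)⟩))) e
  exact d (hc q ⟨a, b⟩)

theorem Pent.exists_pi [Finite G] (K : Pent h φ) :
    ∃ π : centralizer (img K.add : Set G) →* Equiv.Perm (Fin 3), Surjective π ∧ Nat.card π.ker = 2 ^ 35 ∧
      ∀ c : centralizer (img K.add : Set G), c.1 ∈ Q → π c = 1 := by
  have hs := bs_one ▸ K.ovr 1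
  obtain ⟨g, e⟩ := isConj_iff.1 (h.conj_of_64 hs (sqNorm_e8 _))
  have hm : g * z * g⁻¹ ∈ img K.add := ⟨_, e.symm⟩
  rw [← e] at hs
  have hP := h.lx.toES.conj g
  have hE := K.le_cj hs
  have hl := h.lifts_e8 hs
  have hne := (e8_ne h hs).2
  have h13 := (h.pair_main' hs hne (K := permHom.range) (by rw [St_e8]; exact frame_NN)).2
  have hcP : Nat.card (g •ᶜ Q) = 2 ^ 25 := (card_map_of_injective (MulAut.conj g).injective).trans h.card
  have c1 := h.lx.card_centralizer K.le K.z_mem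
  have c2 := hP.card_centralizer hE hm
  rw [card_img K.add K.inj] at c1 c2
  generalize g * z * g⁻¹ = s at *
  generalize g •ᶜ Q = P at *
  set C := centralizer (img K.add : Set G)
  have hz : ∀ c ∈ C, c * z = z * c := fun c hc => (hc z K.z_mem).symm
  have hN : P ⊓ C ≤ normalizer ((Q ⊓ C : Subgroup G) : Set G) := fun c hc =>
    inf_normalizer_le_normalizer_inf ⟨h.lx.mem_normalizer (hz c hc.2), le_normalizer hc.2⟩
  obtain ⟨pp, hpp⟩ := exists_permPart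
  have hker : ∀ k : NN, pp k = 1 ↔ (k : Co0) ∈ Sgn := fun k => ⟨fun e i => by simpa [e] using hpp k i,
    fun e => Subtype.ext (Equiv.ext fun i => pm_e8_unique (hpp k i) (e i))⟩
  have hmo : ∀ σ d m, pp ⟨mono σ d, m⟩ = σ := fun σ d m =>
    Subtype.ext (Equiv.ext fun i => pm_e8_unique (hpp _ i) (mono_e8_pm σ d i))
  have hS : center Co0 ≤ Sgn := fun k hk => by
    rcases MT.mem_center_iff.1 hk with rfl | rfl
    exacts [one_mem _, neg1_mem_Sgn]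
  have ex : ∀ c ∈ C, ∃ σ : ↥(M24 ⊓ stabilizer (Equiv.Perm GolayPt) (tri Tr0)),
      (c ∈ C ∧ ∃ k : NN, A k c ∧ (pp k).1 = σ.1) ∧ (trHom σ).1 = 1 := fun c hc => by
    obtain ⟨k, hk⟩ := h.ex_g c (hz c hc)
    have a := fun i => cong_of_comm h hk (K.ovr i) (hc _ ⟨_, rfl⟩).symm
    have b : k ∈ NN := St_e8 none ▸ (bs_one ▸ a 1 : k ∈ St (e8 none))
    obtain ⟨σ, d, rfl⟩ := exists_mono_of_mem_NN b
    obtain ⟨m, e⟩ := gam_of_cong fun j => a _
    exact ⟨_, ⟨hc, ⟨_, b⟩, hk, congrArg _ (hmo _ _ _)⟩, e⟩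
  obtain ⟨θ, -, h2, h3⟩ := exists_hom_of_rel C (P ⊓ C ⊔ Q ⊓ C)
    (fun c (σ : ↥(M24 ⊓ stabilizer (Equiv.Perm GolayPt) (tri Tr0))) => c ∈ C ∧ ∃ k : NN, A k c ∧ (pp k).1 = σ.1)
    (fun c hc => (ex c hc).imp fun _ => And.left)
    (fun ⟨a, k, b, c⟩ ⟨d, l, e, f⟩ => ⟨mul_mem a d, k * l, h.A_mul b e, by rw [map_mul, coe_mul, c, f]; rfl⟩)
    (fun ⟨a, k, b, c⟩ => ⟨inv_mem a, k⁻¹, h.A_inv b, by rw [map_inv, coe_inv, c]; rfl⟩)
    (by
      rintro c σ ⟨hc, k, hk, e⟩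
      refine Iff.trans ⟨fun m => ?_, fun m => ?_⟩ ((hker k).symm.trans
        ⟨fun a => Subtype.ext (e.symm.trans (congrArg _ a)), fun a => Subtype.ext (e.trans (congrArg _ a))⟩)
      · obtain ⟨p, hp, q, hq, rfl⟩ := (mem_sup_of_le_normalizer hN).1 m
        obtain ⟨l, hl'⟩ := h.ex_g p (hz p hp.2)
        have a := h.A_mul (h.A_inv hl') hk
        rw [inv_mul_cancel_left] at a
        simpa using mul_mem (hl.le ⟨p, hp.1, hl'⟩) (hS ((h.A_ker a).1 hq.1))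
      · obtain ⟨p, hp, hk'⟩ := hl.ge m
        have hq := (h.A_ker (h.A_mul (h.A_inv hk') hk)).2 (by simp)
        have hp' : p ∈ C := fun x hx => (mul_inv_eq_iff_eq_mul.1 ((hP.conj_cases (hE hx) hp).resolve_right
          fun a => by
            have b : p * x * p⁻¹ = c * ((p⁻¹ * c)⁻¹ * x * (p⁻¹ * c)⁻¹⁻¹) * c⁻¹ := by group
            rcases h.lx.conj_cases (K.le hx) (inv_mem hq) with d | d <;> rw [d, a] at b
            · exact hP.z_ne (by simpa [← hc x hx] using b)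
            · exact hne (by simpa [← hc _ (mul_mem hx K.z_mem)] using b))).symm
        exact mul_inv_cancel_left p c ▸ mul_mem (mem_sup_left ⟨hp, hp'⟩)
          (mem_sup_right ⟨hq, C.mul_mem (inv_mem hp') hc⟩))
  have hr : θ.range = ((MonoidHom.fst _ _).comp trHom).ker := ext fun σ => ⟨by
    rintro ⟨c, rfl⟩
    obtain ⟨τ, a, b⟩ := ex c c.2
    exact h2 c τ a ▸ b, fun m =>
    let ⟨c, a, b⟩ := K.lift (cong_of_gam m)
    ⟨⟨c, a⟩, h2 _ _ ⟨a, ⟨_, permHom_mem_NN _⟩, b, congrArg _ (hmo _ _ _)⟩⟩⟩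
  have hsurj : Surjective ((MonoidHom.snd _ _).comp (trHom.comp θ)) := fun l => by
    obtain ⟨σ, e⟩ := Golay.trHom_spec.1 (1, l)
    obtain ⟨c, rfl⟩ := hr.ge (congrArg Prod.fst e)
    exact ⟨c, congrArg Prod.snd e⟩
  refine ⟨_, hsurj, ?_, fun c hc => by
    rw [MonoidHom.comp_apply, MonoidHom.comp_apply, show θ c = 1 from h3.ge (mem_sup_right ⟨hc, c.2⟩)]; simp⟩
  have c3 := card_sup_mul_card_inf_of_le_normalizer hN
  have c4 := Orb.card_range_mul_ker ((MonoidHom.snd _ _).comp (trHom.comp θ))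
  have c5 := Orb.card_range_mul_ker ((MonoidHom.fst _ _).comp trHom)
  have c6 := Orb.card_range_mul_ker θ
  rw [show P ⊓ C ⊓ (Q ⊓ C) = Q ⊓ P from le_antisymm (fun x a => ⟨a.2.1, a.1.1⟩) fun x a =>
    have : x ∈ C := fun y b => MT.inf_comm h.lx.toES hP hne ⟨K.le b, hE b⟩ a
    ⟨⟨a.2, this⟩, a.1, this⟩, h13] at c3
  rw [MonoidHom.range_eq_top.2 hsurj, card_top, Nat.card_perm] at c4
  rw [MonoidHom.range_eq_top.2 (Prod.fst_surjective.comp Golay.trHom_spec.1), card_top, Golay.card_GL32,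
    Golay.card_stab_trio (Golay.tri_mem Golay.isTri_Tr0), ← hr] at c5
  rw [h3, Nat.card_congr (subgroupOfEquivOfLe (sup_le inf_le_right inf_le_right)).toEquiv,
    show Nat.card θ.range = 384 by omega] at c6
  rw [h.card] at c1
  rw [hcP] at c2
  simp only [Fintype.card_fin, Nat.card_eq_fintype_card (α := Fin 3), Nat.factorial] at c1 c2 c4
  rw [show Nat.card ↥(P ⊓ C) = 2 ^ 21 by omega, show Nat.card ↥(Q ⊓ C) = 2 ^ 21 by omega] at c3
  omega

theorem row_five [Finite G] (h : MT z Q R A) : ∃ (E N : Subgroup G) (O : Subgroup N),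
    IsElementaryAbelian 2 E ∧ Nat.card E = 2 ^ 5 ∧ N = normalizer (E : Set G) ∧ O = pCore 2 N ∧
    Nat.card O = 2 ^ 35 ∧ (center O).map O.subtype = E.subgroupOf N ∧ ∃ _ : O.Normal,
    Nonempty (N ⧸ O ≃* Equiv.Perm (Fin 3) × Matrix.SpecialLinearGroup (Fin 5) (ZMod 2)) := by
  obtain ⟨φ, K⟩ := exists_pent h
  obtain ⟨ρ, h1, h2⟩ := exists_actSL K.add K.inj K.es
  obtain ⟨π, h3, h4, h5⟩ := K.exists_pi
  have hle := centralizer_le_normalizer (img K.add : Set G)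
  obtain ⟨θ, h6, h7⟩ := exists_prod hle ρ h1 h2 π h3 (IsPGroup.of_card h4)
  have h8 : Nat.card θ.ker = 2 ^ 35 := by
    rw [h7, Nat.card_congr (subgroupOfEquivOfLe ((map_subtype_le _).trans hle)).toEquiv,
      card_map_of_injective (subtype_injective _), h4]
  have h9 : ∀ q (m : q ∈ Q ⊓ centralizer (img K.add : Set G)), (⟨q, hle m.2⟩ : normalizer _) ∈ θ.ker :=
    fun q m => h7.ge ⟨⟨q, m.2⟩, h5 _ m.1, rfl⟩
  have : Fact (Nat.Prime 2) := ⟨Nat.prime_two⟩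
  refine ⟨_, _, θ.ker, img_elab K.add, card_img K.add K.inj, rfl, le_antisymm (le_pCore (IsPGroup.of_card h8)) ?_,
    h8, ext fun n => mem_center_map_iff.trans ⟨fun a => K.mem_E fun q m => congrArg Subtype.val (a.2 _ (h9 q m)),
      fun a => ⟨h9 n ⟨K.le a, fun _ m => congrArg Subtype.val ((img_elab K.add).1.1.1 ⟨_, m⟩ ⟨_, a⟩)⟩,
        fun y m => Subtype.ext (map_subtype_le _ (h7.le m) _ a)⟩⟩, inferInstance,
    ⟨QuotientGroup.quotientKerEquivOfSurjective θ h6⟩⟩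
  rw [← Subgroup.map_eq_bot_iff, eq_bot_iff, ← pCore_prod_eq_bot pCore_perm3 pCore_SL5]
  exact map_pCore_le h6

end CL.MP
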