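import Cfsg.Agent.SPOR.MP.P10D

/-! The normaliser `2^{10+16}.Ω10+(2)` in a group of Monster type. -/

set_option autoImplicit false
set_option maxRecDepth 100000

namespace CL.MP

open Cfsg CL.Leech CL.MT CL.StdCo CL.E8C CL.K CL.LX CL.MSS Subgroup QuadraticMap CL.Orth CL.OrthE
open CL.Golay (O0 O0_mem mem_Fix)
open scoped commutatorElement

variable {G : Type*} [Group G] {z : G} {Q : Subgroup G} {R : leechLattice → G → Prop}
  {A : Co0 → G → Prop} {h : MT z Q R A} {p y : G} {φ : V10 → G}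

theorem Ark.exists_rho (K : Ark h y φ) (Y : YD h p y) :
    ∃ ρ : normalizer (img K.add : Set G) →* O q10, ∀ n v, n.1 * φ v * n.1⁻¹ = φ ((ρ n).1 v) := by
  obtain ⟨ρ, hρ⟩ := exists_act K.add (K.inj Y)
  refine ⟨ρ.codRestrict _ fun n v => ?_, hρ⟩
  have e : IsConj z (φ (ρ n v)) ↔ IsConj z (φ v) := hρ n v ▸
    ⟨fun a => a.trans (isConj_iff.2 ⟨n.1, rfl⟩).symm, fun a => a.trans (isConj_iff.2 ⟨n.1, rfl⟩)⟩
  by_cases e0 : v = 0
  · rw [e0, map_zero]
  rw [K.fus Y, K.fus Y, and_iff_right e0, and_iff_right ((ρ n).map_ne_zero_iff.2 e0)] at e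
  exact (by decide : ∀ a b : ZMod 2, (a = 0 ↔ b = 0) → a = b) _ _ e

theorem Ark.q_val (K : Ark h y φ) (Y : YD h p y) {v b} (hv : v ∈ L) (hb : R v (φ b)) :
    q10 b = (sqNorm v.1 / 32 : ℤ) := by
  have e := K.zero_of Y (h.R_mem hb)
  obtain ⟨w, a1, a2, a3⟩ := K.ovr b e
  rw [q10_eq, e, mul_zero, zero_add, ← a2, κ_of_cong a1 hv (h.cong_of a3 hb), Q_κ hv]

theorem Ark.polar_val (K : Ark h y φ) (Y : YD h p y) {v w a b} (hv : v ∈ L) (hw : w ∈ L) (ha : R v (φ a))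
    (hb : R w (φ b)) : polar q10 a b = (dotInt v.1 w.1 / 16 : ℤ) := by
  obtain ⟨i, hi⟩ := dvd_sq hv
  obtain ⟨j, hj⟩ := dvd_sq hw
  obtain ⟨k, hk⟩ := dvd_dot hv hw
  rw [polar, K.q_val Y hv ha, K.q_val Y hw hb, K.q_val Y (add_mem hv hw) (K.add _ _ ▸ h.R_mul ha hb),
    AddSubgroup.coe_add, sqNorm_add, hi, hj, hk, show (32 * i + 32 * j + 2 * (16 * k)) / 32 = i + j + k by omega]
  simp
  ring

theorem Ark.not_refl (K : Ark h y φ) (Y : YD h p y) :
    ∃ a, q10 a = 1 ∧ ∀ n : G, ¬ ∀ v, n * φ v * n⁻¹ = φ ((refl q10 a).1 v) := by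
  let w := v44 (some 14) (some 17) 4 (-4) rfl rfl
  have hw : w ∈ L := mem_L.2 (by decide +kernel)
  obtain ⟨x, hx⟩ := h.ex_x w
  obtain ⟨a, rfl⟩ := K.W_le ⟨w, hw, hx⟩
  have ha : q10 a = 1 := (K.q_val Y hw hx).trans (by decide +kernel)
  refine ⟨a, ha, fun n hn => ?_⟩
  obtain ⟨k, hk⟩ := h.ex_g n (mul_inv_eq_iff_eq_mul.1 (by
    rw [← K.e, hn, refl_of_polar_eq_zero (by rw [polar_comm, polar_e10, K.zero_of Y (h.R_mem hx)])]))
  have key : ∀ v ∈ L, (dotInt w.1 v.1 = 0 → Cong (k • v) v) ∧ (dotInt w.1 v.1 = 16 → Cong (k • v) (v + w)) :=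
    fun v hv => by
      obtain ⟨f, hf⟩ := h.ex_x v
      obtain ⟨b, rfl⟩ := K.W_le ⟨v, hv, hf⟩
      have h1 := h.R_conj hk hf
      rw [hn, refl_apply, K.polar_val Y hw hv hx hf, ha] at h1
      refine ⟨fun e => h.cong_of h1 (by simpa [e] using hf), fun e => h.cong_of h1 ?_⟩
      rw [e, sub_eq_add_neg, neg_eq_of_add_eq_zero_left (add_self2 _), K.add]
      simpa using h.R_mul hf hx
  obtain ⟨σ, c, rfl⟩ := exists_mono_of ((key _ e8_L).1 (by decide +kernel))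
  have hs : Golay.E.setOf Golay.H5 ⊆ Golay.E.setOf O0 := by decide +kernel
  have h0 : ∀ i ∈ Golay.E.setOf Golay.H5, w.1 i = 0 := by decide +kernel
  have h1 := (fix_pairs (S := Golay.E.setOf Golay.H5) (by decide +kernel) fun i hi j hj _ =>
    (key _ (f44_L (hs hi) (hs hj))).1 (by rw [dot_f44, h0 i hi, h0 j hj]; rfl)).1
  have h2 := (mem_Fix.1 (Golay.Fix_O0_eq.ge (mem_Fix.2 ⟨σ.2, h1⟩))).2 (some 14) (by decide +kernel)
  have h3 := (mono_f44 (i' := some 17) (j' := none) (by decide) (by decide)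
    (((key _ (f44_L (i := some 14) (j := none) (by decide +kernel) (by decide +kernel))).2
      (by decide +kernel)).trans ⟨w, Subtype.ext (funext (by decide +kernel))⟩)).1
  rw [h2] at h3
  rcases h3 with e | e <;> exact absurd e.1 (by decide)

theorem special_of {N : Type*} [Group N] [Finite N] (hp : IsPGroup 2 N)
    (hsq : ∀ x : N, x * x ∈ center N) (hc : center N ≤ commutator N) : IsSpecial 2 N := by
  have : Fact (Nat.Prime 2) := ⟨Nat.prime_two⟩
  have h1 : commutator N ≤ center N := by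
    rw [_root_.commutator_def, commutator_le]
    intro a _ b _
    rw [show ⁅a, b⁆ = a * a * (a⁻¹ * b * (a⁻¹ * b)) * (b⁻¹ * b⁻¹) by rw [commutatorElement_def]; group]
    exact mul_mem (mul_mem (hsq _) (hsq _)) (hsq _)
  exact ⟨hp, le_antisymm (CL.PG.frattini_le_of_commutator_le_of_pow_mem (p := 2) h1 fun g => pow_two g ▸ hsq g)
    (hc.trans (CL.PG.commutator_le_frattini hp)), le_antisymm h1 hc⟩

theorem row_ten [Finite G] (h : MT z Q R A) : ∃ (E N : Subgroup G) (O : Subgroup N),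
    IsElementaryAbelian 2 E ∧ Nat.card E = 2 ^ 10 ∧ N = normalizer (E : Set G) ∧ O = pCore 2 N ∧
    IsSpecial 2 O ∧ Nat.card O = 2 ^ 26 ∧ (center O).map O.subtype = E.subgroupOf N ∧
    O = centralizer (E.subgroupOf N : Set N) ∧
    ∃ _ : O.Normal, Nonempty (N ⧸ O ≃* Omega (ZMod 2) (quadFormPlus 5 (ZMod 2))) := by
  obtain ⟨p, y, Y⟩ := exists_y h
  obtain ⟨φ, K⟩ := Y.exists_ark
  obtain ⟨ρ, hρ⟩ := K.exists_rho Y
  have hq := QPlus_nondeg 5 (ZMod 2)
  have h5 : 5 ≤ Module.finrank (ZMod 2) V10 := by simp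
  have uniq : ∀ {n g}, (∀ v, n.1 * φ v * n.1⁻¹ = φ (g.1 v)) → ρ n = g := fun e =>
    O_ext fun v => K.inj Y ((hρ _ v).symm.trans (e v))
  have h1 : OrthE.E q10 ≤ ρ.range := by
    obtain ⟨n, hn, e⟩ := K.exists_move Y
    refine E_le_of_pair hq (q10_single _) (q10_single _) (polar_e10 f10) (fun u hu => ?_)
      ⟨_, ⟨⟨n, hn⟩, rfl⟩, K.inj Y (by rw [← hρ, K.e, K.f, e])⟩
    obtain ⟨m, hm, e⟩ := K.eich u (polar_e10 u ▸ hu)
    exact ⟨⟨m, K.C0_mem Y (one_mem _) (h.A_one hm)⟩, uniq e⟩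
  have h2 : ρ.range = OrthE.E q10 := by
    obtain ⟨a, ha, e⟩ := K.not_refl Y
    refine le_antisymm (fun g hg => (E_or hq h5 ha g).resolve_right fun m => ?_) h1
    obtain ⟨n, hn⟩ := (mul_mem_cancel_left hg).1 (h1 m)
    exact e n (hn ▸ hρ n)
  have hk : ∀ {n}, n ∈ ρ.ker ↔ n.1 ∈ centralizer (img K.add : Set G) := fun {n} =>
    ⟨fun e => by
      rintro _ ⟨v, rfl⟩
      exact (mul_inv_eq_iff_eq_mul.1 (by rw [hρ, show ρ n = 1 from e]; rfl)).symm,
    fun e => uniq fun v => mul_inv_eq_of_eq_mul (e _ ⟨v, rfl⟩).symm⟩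
  obtain ⟨hc, hs⟩ := K.decomp Y
  have hle := centralizer_le_normalizer (img K.add : Set G)
  have h3 : Nat.card ρ.ker = 2 ^ 26 := by
    rw [show ρ.ker = _ from ext fun n => hk.trans mem_subgroupOf.symm,
      Nat.card_congr (subgroupOfEquivOfLe hle).toEquiv, hc]
  have h4 : ∀ x : ρ.ker, x ∈ center ρ.ker ↔ x.1.1 ∈ img K.add := fun x =>
    ⟨fun e => K.mem_E Y fun q m => (congrArg (fun u : ρ.ker => u.1.1) (Subgroup.mem_center_iff.1 e
      ⟨⟨q, hle (K.P_le Y m)⟩, hk.2 (K.P_le Y m)⟩)).symm,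
    fun e => Subgroup.mem_center_iff.2 fun u => Subtype.ext (Subtype.ext (hk.1 u.2 _ e).symm)⟩
  have hp : IsPGroup 2 ρ.ker := IsPGroup.of_card h3
  have hz : ∀ v, q10 v = 0 → v ≠ 0 → φ v ∈ (⁅ρ.ker, ρ.ker⁆).map (normalizer (img K.add : Set G)).subtype :=
    fun v h1 h0 => by
      obtain ⟨_, hg, rfl⟩ := exists_E_apply_eq hq h5 (a := e10) (by decide) h0 ((q10_single _).trans h1.symm)
      obtain ⟨n, rfl⟩ := h2.ge hg
      obtain ⟨a, ha, b, hb, e⟩ : ∃ a ∈ PE h, ∃ b ∈ PE h, a * b ≠ b * a := by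
        by_contra! e
        have := card_le_of_le (show PE h ≤ WE h from fun a ha => mem_WE ha.1 (e a ha))
        rw [K.card_P Y, K.card_W Y] at this
        omega
      refine ⟨n * ⁅(⟨a, hle (K.P_le Y ha)⟩ : normalizer (img K.add : Set G)), ⟨b, hle (K.P_le Y hb)⟩⁆ * n⁻¹,
        Normal.conj_mem inferInstance _ (commutator_mem_commutator (hk.2 (K.P_le Y ha)) (hk.2 (K.P_le Y hb))) n, ?_⟩
      have hz' := (h.lx.commutator_cases ha.1 hb.1).resolve_left fun e' => e (by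
        rwa [mul_inv_eq_one, mul_inv_eq_iff_eq_mul] at e')
      rw [← hρ, K.e]
      exact congrArg (fun u => n.1 * u * n.1⁻¹) hz'
  refine ⟨_, _, ρ.ker, img_elab K.add, card_img K.add (K.inj Y), rfl, le_antisymm (le_pCore hp) ?_,
    special_of hp (fun x => (h4 _).2 (hs _ (hk.1 x.2))) fun x hx => ?_, h3, ext fun n =>
      ⟨fun ⟨x, a, b⟩ => b ▸ (h4 x).1 a, fun e => ⟨⟨n, hk.2 fun _ m => (img_elab K.add).1.1.1 ⟨_, m⟩ ⟨_, e⟩ |>
        congrArg Subtype.val⟩, (h4 _).2 e, rfl⟩⟩, ext fun n => hk.trans ⟨fun e x m => Subtype.ext (e _ m),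
      fun e x m => congrArg Subtype.val (e ⟨x, le_normalizer m⟩ m)⟩, inferInstance,
    ⟨((QuotientGroup.quotientKerEquivRange ρ).trans (MulEquiv.subgroupCongr
      (h2.trans (commutator_O_eq_E hq h5).symm))).trans (commutatorCongr (toO q10)).symm⟩⟩
  · intro n hn
    by_contra e
    have h6 := E_le_of_normalized hq h5 ((pCore 2 _).map ρ) (fun g hg _ ⟨m, a, b⟩ => by
      obtain ⟨k, rfl⟩ := h2.ge hg
      exact ⟨_, Normal.conj_mem inferInstance m a k, by rw [← b]; simp⟩) ⟨_, ⟨n, hn, rfl⟩, fun m => e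
        ((m.eq_or ⟨e10 + f10, by decide⟩).elim id fun m => O_ext fun x =>
          (m x).trans (neg_eq_of_add_eq_zero_left (add_self2 _)))⟩
    have : Finite (OrthE.E q10) := h2 ▸ Finite.of_surjective _ ρ.rangeRestrict_surjective
    have : Fact (Nat.Prime 2) := ⟨Nat.prime_two⟩
    have := (((isPGroup_pCore 2 _).map ρ).to_le h6).isNilpotent
    obtain ⟨g, hg, m⟩ := exists_not_isScalar_E hq h5
    have : Nontrivial (OrthE.E q10) := ⟨⟨g, hg⟩, 1, fun e => m ⟨1, fun x => by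
      rw [show g = 1 from congrArg Subtype.val e, one_smul]; rfl⟩⟩
    refine (Group.IsSolvable.commutator_lt_top_of_nontrivial (OrthE.E q10)).ne
      (map_injective (Subgroup.subtype_injective _) ?_)
    rw [map_subtype_commutator, commutator_E hq h5, ← MonoidHom.range_eq_map, range_subtype]
  · obtain ⟨v, e⟩ := (h4 x).1 hx
    obtain ⟨u, a, b⟩ := e ▸ ind2 (P := fun v => φ v ∈ (⁅ρ.ker, ρ.ker⁆).map (normalizer (img K.add : Set G)).subtype)
      (add_zero' K.add ▸ one_mem _) (fun _ _ a b => K.add _ _ ▸ mul_mem a b) v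
      fun i _ => hz _ (q10_single i) (by simp)
    rw [← map_subtype_commutator] at a
    obtain ⟨u, a, rfl⟩ := a
    rwa [← show u = x from Subtype.ext (Subtype.ext b)]

end CL.MP
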