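import Cfsg.Agent.SPOR.MP.DegA
import Cfsg.Agent.SPOR.LeechCls
import Cfsg.Agent.SPOR.Griess.Space
import Cfsg.Agent.INV.STD.Co0Inv

/-!
A representation of `Co0` whose character differs from that of the symmetric square by a function
which is invariant under the sign changes has dimension at least `299`.
-/

set_option autoImplicit false

namespace CL.Deg

open Cfsg CL.Leech CL.MT CL.Gr CL.Golay CL.K CL.Pack Matrix Module

/-- the character of the symmetric square -/
noncomputable def S2 (k : Co0) : ℝ := (trace (km ℝ k) ^ 2 + trace (km ℝ k * km ℝ k)) / 2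

theorem S2_conj (l k : Co0) : S2 (l * k * l⁻¹) = S2 k := by
  have e : ∀ k, trace (km ℝ (l * k * l⁻¹)) = trace (km ℝ k) := fun k => by
    rw [km_mul two_ne_zero, trace_mul_comm, ← km_mul two_ne_zero, ← mul_assoc, inv_mul_cancel, one_mul]
  rw [S2, S2, ← km_mul two_ne_zero, conj_mul, e, e, km_mul two_ne_zero]

theorem S2_one : S2 1 = 300 := by
  rw [S2, km_one two_ne_zero, mul_one, trace_one, Golay.card_pt]; norm_num

theorem km_sgn (c : Code) : km ℝ (sgn c) = diagonal fun i => if i ∈ c.1 then -1 else 1 := by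
  ext j i
  simp only [km, cv, of_apply, sgn_apply, coe_e8, Pi.single_apply, diagonal_apply]
  split_ifs <;> simp_all

theorem km_diag (ε : Sgn) : km ℝ ε = diagonal fun i => km ℝ ε i i := by
  obtain ⟨c, e⟩ := exists_sgn ε.2
  rw [e, km_sgn]
  simp

theorem sum_dd [Fintype Sgn] (i j : GolayPt) :
    ∑ ε : Sgn, km ℝ ε i i * km ℝ ε j j = if i = j then (Fintype.card Sgn : ℝ) else 0 := by
  split_ifs with h
  · subst h
    rw [Finset.sum_congr rfl (g := fun _ => 1) fun ε _ => ?_]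
    · simp
    obtain ⟨c, e⟩ := exists_sgn ε.2
    rw [e, km_sgn, diagonal_apply_eq]
    split_ifs <;> simp
  obtain ⟨k, hk, e⟩ := (by decide +kernel : ∀ i j : GolayPt, i ≠ j → ∃ k < 12,
    (bas k).testBit (E.enc i) ≠ (bas k).testBit (E.enc j)) i j h
  let c : Code := ⟨_, setOf_bas_mem hk⟩
  have := Equiv.sum_comp (Equiv.mulLeft (⟨sgn c, sgn_mem c⟩ : Sgn))
    fun ε => km ℝ ε i i * km ℝ ε j j
  rw [Finset.sum_congr rfl (g := fun ε : Sgn => -(km ℝ ε i i * km ℝ ε j j)) fun ε _ => ?_,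
    Finset.sum_neg_distrib] at this
  · linarith
  simp only [Equiv.coe_mulLeft, Subgroup.coe_mul, km_mul two_ne_zero, km_sgn, diagonal_mul, c,
    Enc.mem_setOf]
  revert e
  cases (bas k).testBit (E.enc i) <;> cases (bas k).testBit (E.enc j) <;> simp

theorem sum_S2 [Fintype Sgn] (k : Co0) :
    ∑ ε : Sgn, S2 (k * ε) = Fintype.card Sgn * ∑ i, km ℝ k i i ^ 2 := by
  have e : ∀ ε : Sgn, S2 (k * ε) = ∑ i, ∑ j, (km ℝ k i i * km ℝ k j j + km ℝ k i j * km ℝ k j i) / 2 *
      (km ℝ ε i i * km ℝ ε j j) := fun ε => by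
    rw [S2, km_mul two_ne_zero, trace, trace, pow_two, Finset.sum_mul_sum, ← Finset.sum_add_distrib,
      Finset.sum_div]
    refine Finset.sum_congr rfl fun i _ => ?_
    rw [diag_apply (_ * _ * _), mul_apply, ← Finset.sum_add_distrib, Finset.sum_div]
    refine Finset.sum_congr rfl fun j _ => ?_
    rw [km_diag ε]
    simp only [diag_apply, mul_diagonal, diagonal_apply_eq]
    ring
  rw [Finset.sum_congr rfl fun ε _ => e ε, Finset.sum_comm, Finset.mul_sum]
  refine Finset.sum_congr rfl fun i _ => ?_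
  rw [Finset.sum_comm]
  simp only [← Finset.mul_sum, sum_dd, mul_ite, mul_zero, Finset.sum_ite_eq, Finset.mem_univ, if_true]
  ring

theorem km_perm (π : M24) (i : GolayPt) :
    km ℝ (permHom π) i i ^ 2 = if π.1 i = i then 1 else 0 := by
  simp only [km, cv, of_apply, permHom_e8, coe_e8, Pi.single_apply, eq_comm (a := i)]
  split_ifs <;> simp

/-- the number of the tetrad -/
def tN (i : ℕ) : ℕ := fld 3 7 409903395717677896192 i

/-- the tetrad of a point -/
def tet (p : GolayPt) : ℕ := tN (E.enc p)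

theorem sum_fix (H : Subgroup M24) [Fintype H] (h1 : ∀ x ∈ H, ∀ i, tet (x.1 i) = tet i)
    (h2 : ∀ i j, tet i = tet j → ∃ x ∈ H, x.1 i = j) (s : M24) :
    4 * ∑ x : H, ∑ i, (if (s * x).1 i = i then 1 else 0 : ℂ) =
      Fintype.card H * (∑ i, if tet (s.1 i) = tet i then 1 else 0 : ℕ) := by
  have a : ∀ i j, tet j = tet i → ∑ x : H, (if x.1.1 i = j then 1 else 0 : ℂ) =
      ∑ x : H, if x.1.1 i = i then 1 else 0 := fun i j e => by
    obtain ⟨y, hy, rfl⟩ := h2 i j e.symm
    rw [← Equiv.sum_comp (Equiv.mulLeft (⟨y, hy⟩ : H))]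
    simp
  have b : ∀ i j, 4 * ∑ x : H, (if x.1.1 i = j then 1 else 0 : ℂ) =
      if tet j = tet i then (Fintype.card H : ℂ) else 0 := fun i j => by
    have z : ∀ j, tet j ≠ tet i → ∑ x : H, (if x.1.1 i = j then 1 else 0 : ℂ) = 0 := fun j n =>
      Finset.sum_eq_zero fun x _ => if_neg fun e => n (by rw [← e]; exact h1 x.1 x.2 i)
    split_ifs with e
    · have : ∑ j, ∑ x : H, (if x.1.1 i = j then 1 else 0 : ℂ) = Fintype.card H := by
        rw [Finset.sum_comm]; simp
      rw [← this, a i j e, ← Finset.sum_filter_add_sum_filter_not _ (fun j => tet j = tet i),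
        Finset.sum_eq_zero (s := Finset.filter (fun j => ¬ _) _) fun j m => z j (by simpa using m),
        Finset.sum_congr rfl fun j m => a i j (by simpa using m), Finset.sum_const,
        (by decide +kernel : ∀ i, (Finset.univ.filter fun j => tet j = tet i).card = 4) i]
      simp
    · rw [z j e, mul_zero]
  rw [Finset.sum_comm, Finset.mul_sum, ← Equiv.sum_comp s.1, Nat.cast_sum, Finset.mul_sum]
  refine Finset.sum_congr rfl fun i _ => ?_
  simp only [Subgroup.coe_mul, Equiv.Perm.mul_apply, EmbeddingLike.apply_eq_iff_eq, b, eq_comm (a := tet i)]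
  split_ifs <;> simp

/-- the matrix of the extra automorphism of the sextet -/
def cXi : ℕ := 0x22108421084210842108421084318c4310842104420884210842104421084218822108421084210821108421084210c4210822108410884210842108420886210842108421082110842108421084310842104221044210842108421084218841108421084208822108411084210c4208842108421044210842104421086210841088421084210842108420884310842108420882210841108421044218842108421044210842108411084210c2210442108421084210841108421046210442108421084210442108221084308842108421084210442108221084118842108421084210841108421042210c4210842108420882210842108421086110842108420882210842108421082310842108421084208841108421084218822108411084210442088421084210c4210842108420884110842108420886210862108421084210842108421084118c62108421084210842108421084308c621084210842108421084210843184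

theorem rep_xi : RepF (aut cXi) (ap cXi) := rep_aut (by decide +kernel)

/-- the permutations which normalise the second frame group -/
noncomputable def HX : Subgroup M24 :=
  NN.comap ((MulAut.conj (aut cXi)⁻¹).toMonoidHom.comp permHom)

theorem mem_HX {s : M24} : s ∈ HX ↔ (aut cXi)⁻¹ * permHom s * aut cXi ∈ NN := by
  simp [HX]

/-- equality up to sign -/
noncomputable def pmB (X Y : ℕ) : Bool := Nat.beq X Y || Nat.beq X (Nat.sub (Nat.mul 16 ONES) Y)

theorem pmB_spec {g h : Co0} {f f' : ℕ → ℕ} (hg : RepF g f) (hh : RepF h f') {i j : GolayPt}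
    (e : pmB (f (c8 (E.enc i))) (f' (c8 (E.enc j))) = true) :
    (h⁻¹ * g) • e8 i = e8 j ∨ (h⁻¹ * g) • e8 i = -e8 j := by
  have h8 : ∀ i, sqNorm (e8 i : GolayPt → ℤ) ≤ 80 := fun i => by rw [sqNorm_e8]; norm_num
  simp only [pmB, Bool.or_eq_true, Nat.beq_eq, ← enc_e8] at e
  simp only [mul_smul, inv_smul_eq_iff]
  refine e.imp (hg.smul_eq_iff hh (h8 i) (h8 j)).2 fun e => ?_
  rw [smul_neg, ← neg1_smul, ← mul_smul]
  exact (hg.smul_eq_iff (RepF.neg.mul hh) (h8 i) (h8 j)).2 e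

/-- check of a permutation -/
noncomputable def okH (P : ℕ) : Bool := okM P && (okP (permC P) P &&
  anyLt (fun j => pmB (ap (permC P) (ap cXi (c8 23))) (ap cXi (c8 j))) 24)

theorem okH_spec {P : ℕ} (h : okH P = true) :
    ∃ s ∈ HX, Golay.R s.1 P ∧ RepF (permHom s) (ap (permC P)) := by
  simp only [okH, Bool.and_eq_true, anyLt_iff] at h
  obtain ⟨h1, h2, j, hj, h3⟩ := h
  obtain ⟨s, hs, r⟩ := I.of_okM h1
  have r' := rep_perm (σ := ⟨s, hs⟩) r h2
  refine ⟨⟨s, hs⟩, mem_HX.2 (mem_NN_of_smul_mem (e8_mem_stdX none) ?_), r, r'⟩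
  rw [← E.enc_dec j hj] at h3
  rcases pmB_spec (i := none) (r'.mul rep_xi) rep_xi h3 with e | e <;> rw [mul_assoc, e]
  exacts [e8_mem_stdX _, neg_mem_stdX (e8_mem_stdX _)]

/-- the matrix of a signed permutation -/
noncomputable def sgC (P m : ℕ) : ℕ := Nat.sub (permC P) (sumLt (fun i =>
  Nat.shiftLeft (Nat.mul 16 (bit m i)) (Nat.mul 5 (Nat.add (Nat.mul 24 (app24 P i)) i))) 24)

/-- check of a permutation which lies in the product of the two frame groups -/
noncomputable def okE (P m : ℕ) : Bool := okH P && (okA (sgC P m) && allLt (fun i =>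
  pmB (ap (sgC P m) (c8 i)) (ap (permC P) (c8 i)) &&
    (pmB (ap (sgC P m) (ap cXi (c8 i))) (ap cXi (c8 i)) && Nat.beq (tN (app24 P i)) (tN i))) 24)

theorem okE_spec {P m : ℕ} (h : okE P m = true) : ∃ s ∈ HX, Golay.R s.1 P ∧
    (∀ i, tet (s.1 i) = tet i) ∧ ∃ ε ∈ Sgn, (aut cXi)⁻¹ * (permHom s * ε) * aut cXi ∈ Sgn := by
  simp only [okE, Bool.and_eq_true, allLt_iff, Nat.beq_eq] at h
  obtain ⟨h1, h2, h3⟩ := h
  obtain ⟨s, hs, r, r'⟩ := okH_spec h1
  have a := rep_aut h2
  refine ⟨s, hs, r, fun i => ?_, _, fun i => pmB_spec a r' (h3 _ (E.enc_lt i)).1, fun i => ?_⟩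
  · rw [tet, r i]; exact (h3 _ (E.enc_lt i)).2.2
  · rw [mul_inv_cancel_left, mul_assoc]
    exact pmB_spec (a.mul rep_xi) rep_xi (h3 _ (E.enc_lt i)).2.1

/-- the normaliser of the sextet -/
noncomputable def NX : Subgroup M24 where
  carrier := {s | s ∈ HX ∧ ∀ i j, tet (s.1 i) = tet (s.1 j) ↔ tet i = tet j}
  one_mem' := ⟨one_mem _, fun _ _ => Iff.rfl⟩
  mul_mem' := fun a b => ⟨mul_mem a.1 b.1, fun i j => (a.2 _ _).trans (b.2 i j)⟩
  inv_mem' := fun a => ⟨inv_mem a.1, fun i j => by rw [← a.2]; simp⟩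

/-- check of an element of the normaliser of the sextet -/
noncomputable def okN (P : ℕ) : Bool := okH P && allLt (fun i => allLt (fun j =>
  Nat.beq (tN (app24 P i)) (tN (app24 P j)) == Nat.beq (tN i) (tN j)) 24) 24

theorem okN_spec {P : ℕ} (h : okN P = true) : ∃ s : NX, Golay.R s.1.1 P := by
  simp only [okN, Bool.and_eq_true, allLt_iff, beq_iff_eq] at h
  obtain ⟨s, hs, r, -⟩ := okH_spec h.1
  refine ⟨⟨s, hs, fun i j => ?_⟩, r⟩
  have := h.2 _ (E.enc_lt i) _ (E.enc_lt j)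
  rw [Bool.eq_iff_iff, Nat.beq_eq, Nat.beq_eq] at this
  rw [tet, tet, r i, r j]
  exact this

/-- four times the number of fixed tetrads -/
def cnt (P : ℕ) : ℕ := ∑ i : GolayPt, if tN (app24 P (E.enc i)) = tet i then 1 else 0

variable {U : Type*} [AddCommGroup U] [Module ℂ U] [FiniteDimensional ℂ U]

theorem five_le_of (ψ : NX →* End ℂ U) (c : ℂ)
    (h : ∀ (s : NX) P, Golay.R s.1.1 P → comp24 P P = one24 → 4 * tr (ψ s) = c + cnt P) :
    5 ≤ finrank ℂ U := by
  obtain ⟨s₁, r₁⟩ := okN_spec (P := 610959678574542961153154757956799665) (by decide +kernel)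
  obtain ⟨s₂, r₂⟩ := okN_spec (P := 28820793223202677761424906652289079) (by decide +kernel)
  obtain ⟨s₃, r₃⟩ := okN_spec (P := 70958259501781139705369722457524960) (by decide +kernel)
  obtain ⟨s₄, r₄⟩ := okN_spec (P := 29174129899140919551332112391047223) (by decide +kernel)
  obtain ⟨s₅, r₅⟩ := okN_spec (P := 69703573836817900391856187453311712) (by decide +kernel)
  obtain ⟨t, r⟩ := okN_spec (P := 17138223204437970021661911151643361) (by decide +kernel)
  have h0 := h 1 _ R.one (by decide +kernel)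
  rw [map_one, tr, LinearMap.trace_one, show cnt one24 = 24 by decide +kernel] at h0
  have t2 : ∀ {s : NX} {P}, Golay.R s.1.1 P → comp24 P P = one24 ∧ cnt P = 16 →
      tr (ψ s) = finrank ℂ U - 2 := fun r e => by
    have := h _ _ r e.1
    rw [e.2] at this
    push_cast at this h0
    linear_combination (this - h0) / 4
  have t4 : ∀ {a b : NX} {P Q}, Golay.R a.1.1 P → Golay.R b.1.1 Q →
      comp24 (comp24 P Q) (comp24 P Q) = one24 ∧ cnt (comp24 P Q) = 8 →
      tr (ψ a * ψ b) = finrank ℂ U - 4 := fun r r' e => by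
    have := h (_ * _) _ (r.mul r') e.1
    rw [e.2, map_mul] at this
    push_cast at this h0
    linear_combination (this - h0) / 4
  have q : ∀ {a b c d : NX} {P Q U V}, Golay.R a.1.1 P → Golay.R b.1.1 Q → Golay.R c.1.1 U →
      Golay.R d.1.1 V → comp24 P Q = comp24 U V → ψ a * ψ b = ψ c * ψ d := fun r r' u u' e => by
    rw [← map_mul, ← map_mul]
    exact congrArg ψ (Subtype.ext (Subtype.ext ((r.comp24_eq_iff r' u u').1 e)))
  have o : ∀ {a b : NX} {P Q}, Golay.R a.1.1 P → Golay.R b.1.1 Q → comp24 P Q = one24 →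
      ψ a * ψ b = 1 := fun r r' e => by
    rw [← map_mul, ← map_one ψ]
    exact congrArg ψ (Subtype.ext (Subtype.ext ((r.comp24_eq_one_iff r').1 e)))
  have m : ∀ {a b : NX} {P Q}, Golay.R a.1.1 P → Golay.R b.1.1 Q →
      Golay.R (a * b).1.1 (comp24 P Q) := fun r r' => r.mul r'
  refine five_le (c := ψ t) (o r₁ r₁ ?_) (o r₂ r₂ ?_) (o r₃ r₃ ?_) (o r₄ r₄ ?_) (o r₅ r₅ ?_) (t2 r₁ ?_)
    (t2 r₂ ?_) (t2 r₃ ?_) (t2 r₄ ?_) (t2 r₅ ?_)
    (map_mul ψ s₁ s₂ ▸ map_mul ψ s₂ s₁ ▸ q (m r₁ r₂) r₁ (m r₂ r₁) r₂ ?_)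
    (map_mul ψ s₂ s₃ ▸ map_mul ψ s₃ s₂ ▸ q (m r₂ r₃) r₂ (m r₃ r₂) r₃ ?_)
    (map_mul ψ s₃ s₄ ▸ map_mul ψ s₄ s₃ ▸ q (m r₃ r₄) r₃ (m r₄ r₃) r₄ ?_)
    (map_mul ψ s₅ s₄ ▸ map_mul ψ s₄ s₅ ▸ q (m r₅ r₄) r₅ (m r₄ r₅) r₄ ?_)
    (q r₁ r₃ r₃ r₁ ?_) (q r₁ r₄ r₄ r₁ ?_) (q r₁ r₅ r₅ r₁ ?_) (q r₂ r₄ r₄ r₂ ?_) (q r₃ r₅ r₅ r₃ ?_)
    (map_mul ψ t s₂ ▸ q (m r r₂) r₅ r₅ (m r r₂) ?_) (t4 r₁ r₃ ?_) (t4 r₁ r₄ ?_) (t4 r₁ r₅ ?_)
    (t4 r₂ r₄ ?_) (t4 r₃ r₅ ?_) (map_mul ψ t s₂ ▸ t4 (m r r₂) r₅ ?_) (map_mul ψ t t ▸ o (m r r) r ?_)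
    (map_mul ψ t t ▸ q r₁ r (m r r) r₁ ?_) (map_mul ψ t t ▸ q r₃ r (m r r) r₃ ?_)
    (map_mul ψ t t ▸ q r₅ r (m r r) r₅ ?_) <;> decide +kernel

theorem co_main (σ : Co0 →* End ℂ U) (φ : Co0 → ℂ) (hφ : ∀ k, tr (σ k) = φ k + S2 k)
    (inv : ∀ k ∈ NN, ∀ ε ∈ Sgn, φ (k * ε) = φ k) : 299 ≤ finrank ℂ U := by
  classical
  have cl : ∀ l k, φ (l * k * l⁻¹) = φ k := fun l k => by
    have := hφ (l * k * l⁻¹)
    rw [S2_conj, map_mul, tr_comm, ← map_mul, ← mul_assoc, inv_mul_cancel, one_mul, hφ] at this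
    exact (add_right_cancel this).symm
  have p1 : ∀ k, k * k = 1 → φ k = φ 1 := fun k h => by
    obtain ⟨l, e⟩ := StdCo.exists_conj_Sgn h
    rw [← cl l, ← inv 1 (one_mem _) _ e, one_mul]
  have : Finite Co0 := Nat.finite_of_card_ne_zero (by rw [card_Co0]; norm_num)
  have : Finite M24 := Nat.finite_of_card_ne_zero (by rw [card_M24]; norm_num)
  let _ := Fintype.ofFinite Sgn
  obtain ⟨W, τ, -, hτ⟩ := inv_layer σ Sgn permHom fun m => frame_NN.norm _ (permHom_mem_NN m)
  replace hτ : ∀ π, tr (τ π) = φ (permHom π) + ∑ i, if π.1 i = i then 1 else 0 := fun π => by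
    have := hτ π
    simp only [hφ, fun ε : Sgn => inv _ (permHom_mem_NN π) ε ε.2, Finset.sum_add_distrib,
      ← Complex.ofReal_sum, sum_S2, km_perm] at this
    refine mul_left_cancel₀ (Nat.cast_ne_zero.2 (Fintype.card_ne_zero (α := Sgn))) (this.trans ?_)
    simp [mul_add]
  let D : Subgroup M24 :=
    { carrier := {x | x ∈ HX ∧ (∀ i, tet (x.1 i) = tet i) ∧
        ∀ y ∈ HX, φ (permHom (y * x)) = φ (permHom y)}
      one_mem' := ⟨one_mem _, fun _ => rfl, fun y _ => by rw [mul_one]⟩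
      mul_mem' := fun a b => ⟨mul_mem a.1 b.1, fun i => (a.2.1 _).trans (b.2.1 i), fun y hy => by
        rw [← mul_assoc, b.2.2 _ (mul_mem hy a.1), a.2.2 y hy]⟩
      inv_mem' := fun a => ⟨inv_mem a.1, fun i => by rw [← a.2.1]; simp, fun y hy => by
        rw [← a.2.2 _ (mul_mem hy (inv_mem a.1)), inv_mul_cancel_right]⟩ }
  have mD : ∀ {P m}, okE P m = true → ∃ x ∈ D, Golay.R x.1 P := fun h => by
    obtain ⟨s, h1, h2, h3, ε, h4, h5⟩ := okE_spec h
    refine ⟨s, ⟨h1, h3, fun y hy => ?_⟩, h2⟩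
    rw [← inv _ (permHom_mem_NN _) ε h4, ← cl (aut cXi)⁻¹, ← cl (aut cXi)⁻¹ (permHom y), inv_inv,
      ← inv _ (mem_HX.1 hy) _ h5, map_mul]
    congr 1
    group
  obtain ⟨a, a1, a2⟩ := mD (P := 21553437447306391113730797094863959) (m := 15696649)
    (by decide +kernel)
  obtain ⟨b, b1, b2⟩ := mD (P := 58708955334971165046248774589121250) (m := 14578242)
    (by decide +kernel)
  let _ := Fintype.ofFinite D
  obtain ⟨F, ψ, -, hψ⟩ := inv_layer τ D NX.subtype fun s x hx =>
    ⟨mul_mem (mul_mem s.2.1 hx.1) (inv_mem s.2.1), fun i => by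
      have := (s.2.2 _ _).2 (hx.2.1 (s.1.1⁻¹ i))
      simpa using this, fun y hy => by
      have := hx.2.2 _ (mul_mem (mul_mem (inv_mem s.2.1) hy) s.2.1)
      rw [← cl (permHom s.1), ← cl (permHom s.1) (permHom (_ * _ * _))] at this
      simpa [mul_assoc] using this⟩
  have k : ∀ (s : NX) P, Golay.R s.1.1 P → comp24 P P = one24 →
      4 * tr (ψ s) = 4 * φ 1 + cnt P := fun s P r e => by
    have h1 := sum_fix D (fun x hx => hx.2.1) (fun i j e => by
      rcases (by decide +kernel : ∀ i j : GolayPt, tet i = tet j → i = j ∨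
        app24 21553437447306391113730797094863959 (E.enc i) = E.enc j ∨
        app24 58708955334971165046248774589121250 (E.enc i) = E.enc j ∨
        app24 (comp24 21553437447306391113730797094863959 58708955334971165046248774589121250)
          (E.enc i) = E.enc j) i j e with e | e | e | e
      exacts [⟨1, one_mem _, e⟩, ⟨a, a1, E.enc_injective ((a2 i).trans e)⟩,
        ⟨b, b1, E.enc_injective ((b2 i).trans e)⟩,
        ⟨a * b, mul_mem a1 b1, E.enc_injective ((a2.mul b2 i).trans e)⟩]) s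
    have h2 := hψ s
    have h3 : φ (permHom s) = φ 1 := p1 _ (by
      rw [← map_mul, show s.1 * s.1 = 1 from Subtype.ext ((r.comp24_eq_one_iff r).1 e), map_one])
    have h4 : cnt P = ∑ i, if tet (s.1.1 i) = tet i then 1 else 0 :=
      Finset.sum_congr rfl fun i _ => by rw [tet.eq_1 (s.1.1 i), r i]; rfl
    simp only [hτ, Subgroup.coe_subtype, fun x : D => x.2.2.2 _ s.2.1, Finset.sum_add_distrib, h3,
      Finset.sum_const, Finset.card_univ, nsmul_eq_mul] at h2
    refine mul_left_cancel₀ (Nat.cast_ne_zero.2 (Fintype.card_ne_zero (α := D))) ?_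
    rw [h4]
    linear_combination 4 * h2 + h1
  have h5 := five_le_of ψ _ k
  have h6 := k 1 _ R.one (by decide +kernel)
  have h7 := hφ 1
  rw [map_one, tr, LinearMap.trace_one] at h6 h7
  rw [show cnt one24 = 24 by decide +kernel] at h6
  rw [S2_one] at h7
  have : (finrank ℂ U : ℂ) = (finrank ℂ F + 294 : ℕ) := by
    push_cast at h6 h7 ⊢
    linear_combination h7 - h6 / 4
  rw [Nat.cast_inj] at this
  omega

end CL.Deg
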