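import Mathlib
import Cfsg.Agent.SPOR.MP.EvTy
import Cfsg.Agent.SPOR.MP.EvSimd
import Cfsg.Agent.SPOR.MP.EvSig

/-! The checks of an identity between two tables and their meaning. -/

set_option autoImplicit false

namespace CL.MP

open Cfsg CL.Leech CL.MT CL.Gr CL.Gr.PL CL.MO CL.K CL.Pack Finset Matrix
open CL.Golay (E)

noncomputable def zA (g p : ℕ) : ℕ := apT g (lZ p)
noncomputable def bA (g p q : ℕ) : ℕ := pmul (zA g p) (zA g q)
noncomputable def cA (g p q : ℕ) : ℕ := pmul (bA g p q) (apT g (nat_lit 2048))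

/-- entry of a row of `kakRow` -/
def f32 (R q : ℕ) : ℤ :=
  Int.subNatNat (fld (nat_lit 32) (nat_lit 4294967295) R q) (nat_lit 2147483648)

def pairU (x x' b c b' c' : ℤ) : Bool :=
  eqZ x' (Int.mul (Int.ofNat (nat_lit 64)) (Int.add b c)) &&
    (eqZ x (Int.mul (Int.ofNat (nat_lit 64)) (Int.add b' c')) && eqZ (Int.sub b' c') (Int.sub b c))

noncomputable def chkU (c g a : ℕ) (f : ℕ → ℕ) (o c' g' a' : ℕ) (f' : ℕ → ℕ) (o' : ℕ) : Bool :=
  allLt (fun p => force (kakRow c a p) fun R => force (kakRow c' a' p) fun R' => allLt (fun q =>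
    Bool.rec (motive := fun _ => Bool) (pairU (f32 R q) (f32 R' q) (ts f o (bA g p q))
      (ts f o (cA g p q)) (ts f' o' (bA g' p q)) (ts f' o' (cA g' p q))) (eqZ (f32 R q) (f32 R' q))
      (Nat.beq p q)) (nat_lit 24)) (nat_lit 24)

noncomputable def chkV (c g c' g' a : ℕ) (f : ℕ → ℕ) (o : ℕ) : Bool :=
  allLt (fun p => Nat.beq (kakRow c a p) (kakRow c' a p) && allLt (fun q =>
    Bool.rec (motive := fun _ => Bool) (eqZ (ts f o (bA g p q)) (ts f o (bA g' p q)) &&
      eqZ (ts f o (cA g p q)) (ts f o (cA g' p q))) true (Nat.beq p q)) (nat_lit 24)) (nat_lit 24)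

theorem eqZ_iff {a b : ℤ} : eqZ a b = true ↔ a = b := by
  show Nat.beq (a - b).natAbs 0 = true ↔ _
  rw [Nat.beq_eq, Int.natAbs_eq_zero, sub_eq_zero]

theorem f32_eq (R q : ℕ) : f32 R q = (fld 32 4294967295 R q : ℤ) - 2 ^ 31 := Int.subNatNat_eq_coe

theorem chkU_spec {c g a o c' g' a' o' : ℕ} {f f' : ℕ → ℕ}
    (h : chkU c g a f o c' g' a' f' o' = true) {p q : ℕ} (hp : p < 24) (hq : q < 24) :
    (p = q → f32 (kakRow c a p) q = f32 (kakRow c' a' p) q) ∧ (p ≠ q →
      f32 (kakRow c' a' p) q = 64 * (ts f o (bA g p q) + ts f o (cA g p q)) ∧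
      f32 (kakRow c a p) q = 64 * (ts f' o' (bA g' p q) + ts f' o' (cA g' p q)) ∧
      ts f' o' (bA g' p q) - ts f' o' (cA g' p q) = ts f o (bA g p q) - ts f o (cA g p q)) := by
  have h1 := allLt_iff.1 h p hp
  rw [force_eq, force_eq] at h1
  have h2 := allLt_iff.1 h1 q hq
  refine ⟨fun e => ?_, fun e => ?_⟩
  · rw [Nat.beq_eq.mpr e] at h2
    exact eqZ_iff.1 h2
  · rw [Bool.eq_false_iff.2 fun h' => e (Nat.eq_of_beq_eq_true h')] at h2
    simp only [pairU, Bool.and_eq_true, eqZ_iff] at h2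
    exact h2

theorem chkV_spec {c g c' g' a o : ℕ} {f : ℕ → ℕ} (h : chkV c g c' g' a f o = true) {p : ℕ}
    (hp : p < 24) : kakRow c a p = kakRow c' a p ∧ ∀ q < 24, p ≠ q →
      ts f o (bA g p q) = ts f o (bA g' p q) ∧ ts f o (cA g p q) = ts f o (cA g' p q) := by
  have h1 := Bool.and_eq_true_iff.1 (allLt_iff.1 h p hp)
  refine ⟨Nat.eq_of_beq_eq_true h1.1, fun q hq e => ?_⟩
  have h2 := allLt_iff.1 h1.2 q hq
  rw [Bool.eq_false_iff.2 fun h' => e (Nat.eq_of_beq_eq_true h')] at h2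
  simpa only [Bool.and_eq_true, eqZ_iff] using h2

variable {P : Pk ℝ}

variable (P) in
/-- the element `x` has the compact matrix `c` and the tableau `g` -/
def Elt (c g : ℕ) (x : GG P) : Prop := (∀ j < 24, ∀ i < 24, ent c j i ≤ 16) ∧
  ∃ (k : Co0) (h : Matrix Cd Cd ℝ), P.dat.Acts k h x.1 ∧ El P k h g ∧
    Rep k (matOf c) (kOf (matOf c))

theorem elt_of_ok {c g : ℕ} (h : elOK c g = true) : ∃ x, Elt P c g x := by
  obtain ⟨k, m, r, e⟩ := elOK_spec (P := P) h
  obtain ⟨x, a⟩ := e.exists_acts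
  exact ⟨x, elOK_ent h, k, m, a, e, r⟩

def cId : ℕ := 0x821084210842108421084210842108441084210842108421084210842108422084210842108421084210842108421104210842108421084210842108421088210842108421084210842108421084410842108421084210842108421084220842108421084210842108421084211042108421084210842108421084210882108421084210842108421084210844108421084210842108421084210842208421084210842108421084210842110421084210842108421084210842108821084210842108421084210842108441084210842108421084210842108422084210842108421084210842108421104210842108421084210842108421088210842108421084210842108421084410842108421084210842108421084220842108421084210842108421084211042108421084210842108421084210882108421084210842108421084210844108421084210842108421084210842208421084210842108421084210842110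
def gId : ℕ := 0x8000000040000000200000001000000008000000040000000200000001000000008000000040000000200000001000000008000000040000000200000001000000008000000040000000200000001000000008000000040000000200000001

theorem ent_cId : ∀ j < 24, ∀ i < 24, ent cId j i = if i = j then 16 else 8 := by decide +kernel

theorem lane_gId : ∀ j < 24, lane gId j = 2 ^ j := by decide +kernel

theorem elt_one : Elt P cId gId 1 := by
  have ha : ∀ j < 24, ∀ i < 24, ent cId j i ≤ 16 := fun j hj i hi => by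
    rw [ent_cId j hj i hi]; split_ifs <;> norm_num
  refine ⟨ha, 1, 1, Dat.acts_one two_ne_zero, el_of_gens ⟨by simp, fun a => by simpa using PM.refl _⟩
    fun j hj => by rw [lane_gId j hj, XL_pow hj]; simp, fun x hx => ?_⟩
  rw [one_smul, matOf_eq]
  exact app_eq ha (fun i _ => xs_le (bd_of_sqNorm hx) i) fun j hj => by
    rw [Finset.sum_eq_single_of_mem j (mem_range.2 hj) fun b hb e => by
      simp [ent_cId j hj b (mem_range.1 hb), e]]
    simp [ent_cId j hj j hj]

theorem mod_of_XL {p q : ℕ} (h : XL P p = XL P q) : p % 2 ^ 24 = q % 2 ^ 24 := by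
  rw [← lab_lvL, ← lab_lvL]
  exact cong_iff_lab.1 (Dat.cong_of_pm two_ne_zero P.toCl ((XL_pm p).symm.trans (h ▸ XL_pm q)))

theorem s2_real_inj {a b : ZMod 2} (h : s2 ℝ a = s2 ℝ b) : a = b := s2_inj two_ne_zero h

theorem XL_ne_zero (p : ℕ) : XL P p ≠ 0 := fun h => by
  have := XL_orth (P := P) p
  rw [h, Matrix.mul_zero] at this
  exact zero_ne_one this

theorem cs_mod (p q : ℕ) : cs (p % 2 ^ 24) q = cs p q ∧ cs p (q % 2 ^ 24) = cs p q :=
  ⟨Finset.sum_congr rfl fun j hj => by rw [bt_mod, if_pos (by have := mem_range.1 hj; omega)],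
    Finset.sum_congr rfl fun j hj => by rw [bt_mod, if_pos (by have := mem_range.1 hj; omega)]⟩

theorem sy_mod (p q : ℕ) : sy (p % 2 ^ 24) q = sy p q := by
  rw [sy, sy, (cs_mod _ _).1, (cs_mod _ _).2]

theorem sy_mod' (p q : ℕ) : sy p (q % 2 ^ 24) = sy p q := by
  rw [sy, sy, (cs_mod _ _).1, (cs_mod _ _).2]

variable {k : Co0} {h : Matrix Cd Cd ℝ} {g : ℕ}

theorem El.sy (e : El P k h g) (p q : ℕ) : sy (apT g p) (apT g q) = sy p q := by
  have h1 := XL_comm (P := P) (apT g p) (apT g q)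
  rw [← e.2, ← e.2, ← conj_mul' e.1.1, ← conj_mul' e.1.1, XL_comm p q, Matrix.mul_smul,
    Matrix.smul_mul, XL_mul, e.2] at h1
  exact (s2_real_inj (smul_left_injective ℝ (XL_ne_zero _) h1)).symm

theorem cs_lZ (p e : ℕ) : cs p (lZ e) = 0 := Finset.sum_eq_zero fun j hj => by
  have := bt_mod (lZ e) 12 j
  rw [if_pos (mem_range.1 hj), show 2 ^ 12 = 4096 from rfl, lZ_mod, bt_zero] at this
  rw [← this, mul_zero]

theorem El.bA (e : El P k h g) (p q : ℕ) : h * XL P (lB p q) * hᵀ = XL P (bA g p q) := by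
  rw [MP.bA, ← XL_mul, zA, zA, ← e.2, ← e.2, ← conj_mul' e.1.1, XL_mul, pmul_eq_xor (cs_lZ _ _)]
  rfl

theorem El.cA (e : El P k h g) {p q : ℕ} (hp : p < 24) (hq : q < 24) :
    h * XL P (lB p q ^^^ 2048) * hᵀ = XL P (cA g p q) := by
  rw [MP.cA, ← XL_mul, ← e.bA, ← e.2, ← conj_mul' e.1.1, XL_mul, pmul_eq_xor (by
    rw [cs_W0, show lB p q = lZ p ^^^ lZ q from rfl, bt_xor, bt_lZ p hp, bt_lZ q hq, z2_add_self])]

theorem El.rowG (e : El P k h g) (L : ℕ) (B : ℕ → ℕ) (W n : ℕ) : h * XL P (rowG pmul L B W n) * hᵀ =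
    XL P (rowG pmul (apT g L) (fun j => apT g (B j)) (apT g W) n) := by
  have : ∀ i, h * XL P (rowN pmul L B n i) * hᵀ =
      XL P (rowN pmul (apT g L) (fun j => apT g (B j)) n i) := fun i => by
    induction i with
    | zero => exact e.2 L
    | succ i ih =>
      rw [rowN_succ, rowN_succ]
      split_ifs
      · exact ih
      · rw [← XL_mul, ← XL_mul, conj_mul' e.1.1, ih, e.2]
  rw [rowG_eq, rowG_eq]
  split_ifs
  · exact this 6
  · rw [← XL_mul, ← XL_mul, conj_mul' e.1.1, this, e.2]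

theorem El.mod_eq (e : El P k h g) {p q : ℕ} (hh : h * XL P q * hᵀ = XL P p) :
    p % 2 ^ 24 = apT g (q % 2 ^ 24) % 2 ^ 24 := by
  rw [e.2] at hh
  rw [← mod_of_XL hh, ← e.lab, ← e.lab]
  exact cong_iff_lab.1 (Cong.smul (cong_iff_lab.2 (by rw [lab_lvL, lab_lvL, Nat.mod_mod])) k)

theorem ts_cast {f : ℕ → ℕ} (hf : LK f) (o p : ℕ) :
    (ts f o p : ℝ) = s2 ℝ (bt p 24) * tauF f o (p % 2 ^ 24) := by
  rw [ts_eq hf, s2]
  split_ifs <;> simp

variable (P) in
/-- the half of the table of `v` that is read off through an element -/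
structure View (v : VV ℝ) (c g a : ℕ) (f : ℕ → ℕ) (o : ℕ) : Prop where
  vA : ∀ p q, 262144 * v.1.1 p q = f32 (kakRow c a (E.enc p)) (E.enc q)
  vB : ∀ p < 24, ∀ q < 24, p ≠ q → 2048 * fc P v (XL P (lB p q)) = ts f o (bA g p q)
  vC : ∀ p < 24, ∀ q < 24, p ≠ q → 2048 * fc P v (XL P (lB p q ^^^ 2048)) = ts f o (cA g p q)
  vD : ∀ r < 760, ∀ m < 64, 2048 * fc P v (XL P (rwD r m)) = ts f o (rwA g LL BD r m)

variable {c a o : ℕ} {f : ℕ → ℕ} {x : GG P} {y v : VV ℝ}

theorem fc_inv (aa : P.dat.Acts k h x.1) (e : El P k h g) (y : VV ℝ) (m : Matrix Cd Cd ℝ) :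
    fc P (x⁻¹.1 y) m = fc P y (h * m * hᵀ) := by
  rw [← fc_acts aa e.1.1]
  congr 1
  exact iv_app_inv x y

theorem Tb.read (t : Tb P y (atb a) (tauF f o)) (hf : LK f) (aa : P.dat.Acts k h x.1)
    (e : El P k h g) {p q : ℕ} (hq : ShL (q % 2 ^ 24)) (hh : h * XL P q * hᵀ = XL P p) :
    2048 * fc P (x⁻¹.1 y) (XL P q) = ts f o p := by
  rw [fc_inv aa e, hh, t.signed (e.mod_eq hh ▸ e.shL hq), ts_cast hf]

theorem ShL.mod {l : ℕ} (h : ShL l) : ShL (l % 2 ^ 24) := by rwa [Nat.mod_eq_of_lt h.lt]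

theorem view_of_tb (hf : LK f) (ex : Elt P c g x) (t : Tb P y (atb a) (tauF f o)) :
    View P (x⁻¹.1 y) c g a f o ∧ ∀ r < 760, ∀ n < 64,
      2048 * fc P (x⁻¹.1 y) (XL P (rwE r n)) = ts f o (rwA g LE BE r n) := by
  obtain ⟨ha, k, h, aa, e, r⟩ := ex
  refine ⟨⟨fun p q => ?_, fun p hp q hq n => t.read hf aa e (shL_lB hp hq n).1.mod (e.bA p q),
    fun p hp q hq n => t.read hf aa e (shL_lB hp hq n).2.mod (e.cA hp hq),
    fun r hr m hm => t.read hf aa e (shL_rwD hr hm) (e.rowG _ _ _ _)⟩,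
    fun r hr m hm => t.read hf aa e (shL_rwE hr hm) (e.rowG _ _ _ _)⟩
  have ai := aa.inv two_ne_zero e.1.1
  have : (x⁻¹.1 y).1.1 = (km ℝ k)ᵀ * y.1.1 * km ℝ k := by
    change ((x.1)⁻¹ y).1.1 = _
    rw [ai.e1, km_inv two_ne_zero, transpose_transpose]
  rw [this, kak_spec ha r t.1, f32_eq]
  norm_num

theorem tbOn_of_view (hf : LK f) (ex : Elt P c g x) (w : View P v c g a f o) :
    TbOn P (x.1 v) (atb a) (tauF f o) fun l => sy l (apT g 2048) = 0 := by
  obtain ⟨ha, k, h, aa, e, r⟩ := ex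
  refine ⟨fun p q => ?_, fun l ⟨s, hs, hl⟩ h0 => ?_⟩
  · let M : Matrix GolayPt GolayPt ℝ := fun p q => atb a (E.enc p) (E.enc q) / 4096
    have h1 : v.1.1 = (km ℝ k)ᵀ * M * km ℝ k := by
      ext p q
      have := kak_spec (M := M) (a := a) ha r (fun p q => by simp only [M]; ring) p q
      have h2 := w.vA p q
      rw [f32_eq] at h2
      push_cast at h2
      linarith
    have o := km_orth' (F := ℝ) two_ne_zero k
    rw [aa.e1, h1, ← Matrix.mul_assoc, ← Matrix.mul_assoc, o, Matrix.one_mul, Matrix.mul_assoc, o,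
      Matrix.mul_one]
    simp only [M]
    ring
  · have e1 : l = apT g (lab (k⁻¹ • s)) % 2 ^ 24 := by rw [← e.lab', smul_inv_smul, hl]
    have key : ∀ p q, lab (k⁻¹ • s) = q % 2 ^ 24 → h * XL P q * hᵀ = XL P p →
        2048 * fc P v (XL P q) = ts f o p → 2048 * fc P (x.1 v) (XL P l) = tauF f o l := by
      intro p q h1 h2 h3
      rw [← fc_acts aa e.1.1, h2, ts_cast hf, XL_eq_smul, fc_smul, mul_left_comm, e.mod_eq h2, ← h1,
        ← e1] at h3
      exact mul_left_cancel₀ (s2_ne_zero _) h3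
    rw [e1, sy_mod, e.sy] at h0
    have sh : ShL (lab (k⁻¹ • s)) := ⟨_, (sqNorm_smul _ s).trans hs, rfl⟩
    have m := (Nat.mod_eq_of_lt sh.lt).symm
    rcases cover_sh sh h0 with ⟨p, hp, q, hq, n, e2 | e2⟩ | ⟨r, hr, n, hn, e2⟩
    · exact key _ _ (e2 ▸ m) (e.bA p q) (w.vB p hp q hq n)
    · exact key _ _ (e2 ▸ m) (e.cA hp hq) (w.vC p hp q hq n)
    · exact key _ _ e2 (e.rowG _ _ _ _) (w.vD r hr n hn)

theorem view_sig {c' g' a' o' : ℕ} {f' : ℕ → ℕ} (hf : LK f) (hf' : LK f') (ho : o ≤ 511)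
    (ho' : o' ≤ 511) (hT : chkT f o g f' o' g' = true) (hU : chkU c g a f o c' g' a' f' o' = true)
    (w : View P v c g a f o) (wE : ∀ r < 760, ∀ n < 64,
      2048 * fc P v (XL P (rwE r n)) = ts f o (rwA g LE BE r n)) :
    View P ((sig P)⁻¹.1 v) c' g' a' f' o' := by
  have BC : ∀ p < 24, ∀ q < 24, p ≠ q →
      2048 * fc P ((sig P)⁻¹.1 v) (XL P (lB p q)) = ts f' o' (bA g' p q) ∧
      2048 * fc P ((sig P)⁻¹.1 v) (XL P (lB p q ^^^ 2048)) = ts f' o' (cA g' p q) := by
    intro p hp q hq n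
    have n' : E.dec p ≠ E.dec q := fun e => n ((E.dec_inj hp hq).1 e)
    have h1 := sigi_add (P := P) v n'
    have h2 := sigi_sub (P := P) v n'
    have h3 := w.vA (E.dec p) (E.dec q)
    rw [E.enc_dec p hp, E.enc_dec q hq] at h1 h2 h3
    obtain ⟨-, h4, h5⟩ := (chkU_spec hU hp hq).2 n
    have h4 := congrArg (Int.cast (R := ℝ)) h4
    have h5 := congrArg (Int.cast (R := ℝ)) h5
    push_cast at h4 h5
    have h6 := w.vB p hp q hq n
    have h7 := w.vC p hp q hq n
    constructor <;> linarith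
  refine ⟨fun p q => ?_, fun p hp q hq n => (BC p hp q hq n).1,
    fun p hp q hq n => (BC p hp q hq n).2, fun r hr m hm => ?_⟩
  · have h1 := chkU_spec hU (E.enc_lt p) (E.enc_lt q)
    by_cases n : p = q
    · rw [← h1.1 (by rw [n]), ← w.vA, ← n, sigi_diag]
    · have n' : E.enc p ≠ E.enc q := fun e => n (E.enc_inj.1 e)
      have h2 := sigi_off (P := P) v n
      have h6 := w.vB _ (E.enc_lt p) _ (E.enc_lt q) n'
      have h7 := w.vC _ (E.enc_lt p) _ (E.enc_lt q) n'
      have h8 := congrArg (Int.cast (R := ℝ)) (h1.2 n').1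
      push_cast at h8
      linarith
  · have h1 := congrArg (Int.cast (R := ℝ)) (chkT_spec hf hf' ho ho' hT hr hm)
    have h2 := congrArg (2048 * ·) (sigi_row (P := P) v hr hm)
    push_cast at h1
    simp only [Finset.mul_sum] at h2
    rw [Finset.sum_congr rfl (g := fun n => (if parB (m &&& n) = 0 then 1 else -1) *
      (ts f o (rwA g LE BE r n) : ℝ)) fun n hn => by
        rw [mul_left_comm, wE r hr n (mem_range.1 hn), s2]
        have := parB_lt (m &&& n)
        interval_cases parB (m &&& n) <;> simp] at h2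
    linarith

theorem view_cmp {c' g' : ℕ} (hf : LK f) (ho : o ≤ 511) (hR : chkR f o g g' = true)
    (hV : chkV c g c' g' a f o = true) (w : View P v c g a f o) : View P v c' g' a f o :=
  ⟨fun p q => (chkV_spec hV (E.enc_lt p)).1 ▸ w.vA p q,
    fun p hp q hq n => ((chkV_spec hV hp).2 q hq n).1 ▸ w.vB p hp q hq n,
    fun p hp q hq n => ((chkV_spec hV hp).2 q hq n).2 ▸ w.vC p hp q hq n,
    fun r hr m hm => chkR_spec hf ho hR hr hm ▸ w.vD r hr m hm⟩

end CL.MP
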