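import Cfsg.Agent.SPOR.MP.P10C

/-! The normaliser and the centraliser of the elementary abelian group of order `2^10`. -/

set_option autoImplicit false
set_option maxRecDepth 100000

namespace CL.MP

open Cfsg CL.Leech CL.MT CL.StdCo CL.E8C CL.K CL.LX CL.MSS Subgroup QuadraticMap CL.Orth CL.OrthE
open CL.Golay (E O0 O0_mem mem_Fix)

variable {G : Type*} [Group G] {z : G} {Q : Subgroup G} {R : leechLattice → G → Prop}
  {A : Co0 → G → Prop} {h : MT z Q R A} {p y : G} {φ : V10 → G}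

/-- the centraliser of `W` in `Q` -/
abbrev PE (h : MT z Q R A) : Subgroup G := Q ⊓ centralizer (WE h : Set G)

theorem mem_WE [Finite G] {x} (hx : x ∈ Q) (hc : ∀ q ∈ PE h, x * q = q * x) : x ∈ WE h := by
  by_contra e
  obtain ⟨q, a, b, c⟩ := h.lx.exists_centralizes_not_comm (WE_le h) (z_WE h) hx e
  exact c (hc q ⟨a, b⟩)

theorem YD.cent' (Y : YD h p y) {q} (hq : q ∈ PE h) : q * y = y * q :=
  Y.cent q hq.1 fun x hx => (hq.2 x hx).symm

theorem Ark.basis (K : Ark h y φ) (i : Fin 5 ⊕ Fin 5) : φ (Pi.single i 1) = y ∨ φ (Pi.single i 1) ∈ WE h := by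
  by_cases e : i = .inr 0
  · exact Or.inl (e ▸ K.f)
  · exact Or.inr (K.mem_W (Pi.single_eq_of_ne' e _))

theorem Ark.y_mem (K : Ark h y φ) : y ∈ img K.add := ⟨_, K.f⟩

theorem Ark.mem_N (K : Ark h y φ) {n} (h1 : ∀ x ∈ WE h, n * x * n⁻¹ ∈ img K.add)
    (h2 : n * y * n⁻¹ ∈ img K.add) : n ∈ normalizer (img K.add : Set G) :=
  mem_norm_img K.add fun i => (K.basis i).elim (fun e => e ▸ h2) (h1 _)

theorem Ark.C0_mem [Finite G] (K : Ark h y φ) (Y : YD h p y) {k d} (hk : k ∈ C0) (hd : A k d) :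
    d ∈ normalizer (img K.add : Set G) := by
  refine K.mem_N (fun x hx => K.W_le (WE_norm h hk hd hx)) ((mul_mem_cancel_right (inv_mem K.y_mem)).1
    (K.W_le (mem_WE ?_ fun q hq => ?_)))
  · have := h.A_mul (h.A_mul (h.A_mul hd Y.hy) (h.A_inv hd)) (h.A_inv Y.hy)
    rw [mem_centralizer_singleton_iff.1 hk, mul_inv_cancel_right, mul_inv_cancel] at this
    exact (h.A_ker this).2 (one_mem _)
  · have h1 : Commute (d⁻¹ * q * d) y := Y.cent _ (h.lx.norm' (h.A_comm hd) hq.1) fun x hx => by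
      calc _ = d⁻¹ * (q * (d * x * d⁻¹)) * d := by group
        _ = _ := by rw [← hq.2 _ (WE_norm h hk hd hx)]; group
    refine (Commute.mul_left ?_ (Commute.inv_left (Y.cent' hq).symm)).eq
    calc _ = d * (y * (d⁻¹ * q * d)) * d⁻¹ := by group
      _ = _ := by rw [← h1.eq]; group

theorem Ark.p_mem (K : Ark h y φ) (Y : YD h p y) : p ∈ normalizer (img K.add : Set G) :=
  K.mem_N (fun x hx => (Y.pW x hx).elim (fun e => K.W_le e) fun e =>
    (mul_mem_cancel_right K.y_mem).1 (K.W_le e)) (K.W_le Y.py)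

theorem Ark.exists_move [Finite G] (K : Ark h y φ) (Y : YD h p y) :
    ∃ n ∈ normalizer (img K.add : Set G), n * z * n⁻¹ = y :=
  let ⟨_, hk, _, hd, e⟩ := Y.move
  ⟨_, mul_mem (mul_mem (K.p_mem Y) (K.C0_mem Y hk hd)) (K.p_mem Y), e⟩

theorem Ark.mem_E [Finite G] (K : Ark h y φ) (Y : YD h p y) {c} (hc : ∀ q ∈ PE h, c * q = q * c) :
    c ∈ img K.add := by
  obtain ⟨k, hk⟩ := h.ex_g c (hc z ⟨h.lx.z_mem, fun x hx => WE_comm h hx (z_WE h)⟩)
  have key : ∀ u : leechLattice, (∀ v ∈ L, (16 : ℤ) ∣ dotInt v.1 u.1) → Cong (k • u) u := fun u hu =>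
    let ⟨f, hf⟩ := h.ex_x u
    cong_of_comm h hk hf (hc f ⟨h.R_mem hf, fun _ ⟨v, a, b⟩ => (h.comm_iff b hf).2 (hu v a)⟩)
  rcases center_or (key _ fun v hv => dvd_dot hv e8_L) fun i j _ e => key _ fun v hv => by
    by_cases m : i ∈ E.setOf O0
    · exact dvd_dot hv (f44_L m (e.1 m))
    · rw [dot_f44, mem_L.1 hv i m, mem_L.1 hv j (mt e.2 m)]; norm_num with e | e
  · exact K.W_le (mem_WE ((h.A_ker hk).2 e) hc)
  · exact (mul_mem_cancel_right K.y_mem).1 (K.W_le (mem_WE ((h.A_ker (h.A_mul hk Y.hy)).2 e)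
      fun q hq => (Commute.mul_left (hc q hq) (Y.cent' hq).symm).eq))

theorem Ark.P_le (K : Ark h y φ) (Y : YD h p y) : PE h ≤ centralizer (img K.add : Set G) := by
  rintro q hq _ ⟨v, rfl⟩
  have := conj_of_basis K.add (g := id) (n := q) (fun _ _ => rfl) (fun i => mul_inv_eq_of_eq_mul
    ((K.basis i).elim (fun e => e.symm ▸ Y.cent' hq) fun e => (hq.2 _ e).symm)) v
  exact (mul_inv_eq_iff_eq_mul.1 this).symm

theorem Ark.inf_eq (K : Ark h y φ) (Y : YD h p y) : Q ⊓ centralizer (img K.add : Set G) = PE h :=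
  le_antisymm (inf_le_inf_left _ (centralizer_le K.W_le)) (le_inf inf_le_left (K.P_le Y))

theorem Ark.card_W (K : Ark h y φ) (Y : YD h p y) : Nat.card (WE h) = 2 ^ 9 := by
  have h1 : ((WE h).subgroupOf (img K.add)).index = 2 := index_eq_two_iff.2 ⟨⟨y, K.y_mem⟩, by
    rintro ⟨_, v, rfl⟩
    have e : ∀ v, φ v ∈ WE h ↔ v (.inr 0) = 0 := fun v => ⟨fun a => K.zero_of Y (WE_le h a), K.mem_W⟩
    simp only [mem_subgroupOf, coe_mul, ← K.f, ← K.add, e, Pi.add_apply, Pi.single_eq_same]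
    generalize v (.inr 0) = a
    revert a; decide⟩
  have h2 := ((WE h).subgroupOf (img K.add)).card_mul_index
  rw [h1, Nat.card_congr (subgroupOfEquivOfLe K.W_le).toEquiv, card_img K.add (K.inj Y)] at h2
  simp at h2
  omega

theorem Ark.card_P [Finite G] (K : Ark h y φ) (Y : YD h p y) : Nat.card (PE h) = 2 ^ 17 := by
  have := h.lx.card_centralizer (WE_le h) (z_WE h)
  rw [K.card_W Y, h.card] at this
  exact Nat.eq_of_mul_eq_mul_right (by norm_num) (this.trans (by norm_num))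

theorem Ark.card_le [Finite G] (K : Ark h y φ) (Y : YD h p y) :
    Nat.card (centralizer (img K.add : Set G)) ≤ 2 ^ 26 := by
  obtain ⟨s, hs⟩ := h.ex_x (e8 none)
  obtain ⟨θ, -, -, e⟩ := exists_hom_of_rel (centralizer (img K.add : Set G)) Q (fun c (k : Q0) => A k c)
    (fun c hc => let ⟨k, a, b⟩ := (CF.of h hs fun x hx => (hc x (K.W_le hx)).symm).lift h hs; ⟨⟨k, a⟩, b⟩)
    h.A_mul h.A_inv fun {c k} a => (h.A_ker a).trans ⟨fun b => (MT.mem_center_iff.1 b).elim (fun b => Subtype.ext b)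
      fun b => absurd ((mem_Q0.1 k.2 0).symm.trans (b ▸ neg1_smul _)) (e8_ne_neg _ _), fun b => b ▸ one_mem _⟩
  have := Leech.finite_Co0
  have h1 := (θ.ker.index_mul_card).symm
  rw [index_ker, e, ← inf_subgroupOf_right, Nat.card_congr (subgroupOfEquivOfLe inf_le_right).toEquiv, K.inf_eq Y,
    K.card_P Y] at h1
  have := (card_le_card_group θ.range).trans card_Q0_le
  omega

theorem Ark.decomp [Finite G] (K : Ark h y φ) (Y : YD h p y) :
    Nat.card (centralizer (img K.add : Set G)) = 2 ^ 26 ∧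
      ∀ c ∈ centralizer (img K.add : Set G), c * c ∈ img K.add := by
  obtain ⟨n, hn, e⟩ := K.exists_move Y
  have hP := e ▸ h.lx.conj n
  have hE := cj_eq_of_mem_normalizer hn
  have hC : n •ᶜ centralizer (img K.add : Set G) = centralizer (img K.add : Set G) :=
    cj_eq_of_mem_normalizer (normalizer_le_normalizer_centralizer _ hn)
  have hz : ∀ c ∈ centralizer (img K.add : Set G), c * z = z * c := fun c hc => (hc z ⟨_, K.e⟩).symm
  have h1 := K.P_le Y
  have h2 : n •ᶜ PE h = n •ᶜ Q ⊓ centralizer (img K.add : Set G) := by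
    rw [← K.inf_eq Y, map_inf _ _ _ (MulAut.conj n).injective, hC]
  have h3 : n •ᶜ PE h ≤ centralizer (img K.add : Set G) := h2 ▸ inf_le_right
  have h4 : PE h ⊓ n •ᶜ PE h ≤ img K.add := fun x hx => by
    obtain ⟨a, b⟩ := mem_inf.1 hx
    rw [← hE, mem_cj]
    refine K.mem_E Y fun q hq => ?_
    have m := conj_mem_cj (g := n) hq
    rcases hP.conj_cases (h2.le b).1 (h2.le m).1 with e' | e'
    · calc _ = n⁻¹ * (n * q * n⁻¹ * x * (n * q * n⁻¹)⁻¹) * n * q := by rw [e']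
        _ = _ := by group
    · exact absurd ((mul_mem_cancel_left (H := Q) a.1).1 (e' ▸ h.lx.norm _ (hz _ (h3 m)) _ a.1)) Y.not_mem
  have h5 : centralizer (img K.add : Set G) ≤ normalizer (PE h : Set G) := fun c hc =>
    K.inf_eq Y ▸ inf_normalizer_le_normalizer_inf ⟨h.lx.mem_normalizer (hz c hc), le_normalizer hc⟩
  have h6 : centralizer (img K.add : Set G) ≤ normalizer (n •ᶜ PE h : Set G) := fun c hc =>
    h2 ▸ inf_normalizer_le_normalizer_inf ⟨hP.mem_normalizer (hc y K.y_mem).symm, le_normalizer hc⟩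
  have h7 : PE h ⊓ n •ᶜ PE h < WE h := lt_of_le_of_ne
    (fun x hx => let ⟨_, e⟩ := h4 hx; e ▸ K.mem_W (K.zero_of Y (e ▸ hx.1.1))) fun e' => Y.not_mem (by
      have := hP.symm_of_card (g := n⁻¹) (by rw [card_map_of_injective (MulAut.conj n).injective]; exact h.eight_lt)
        (by simpa [← e, mul_assoc] using (h2.le (e'.ge (z_WE h)).2).1)
      rwa [inv_cj_cj] at this)
  have h8 := card_sup_mul_card_inf_of_le_normalizer (h1.trans h6)
  have h9 := card_dvd_of_le h7.le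
  have h10 : Nat.card ↥(PE h ⊓ n •ᶜ PE h) ≠ Nat.card (WE h) := fun e => h7.ne (eq_of_le_of_card_ge h7.le e.ge)
  rw [card_map_of_injective (MulAut.conj n).injective, K.card_P Y] at h8
  rw [K.card_W Y] at h9 h10
  have h11 : Nat.card ↥(PE h ⊓ n •ᶜ PE h) ≤ 2 ^ 8 := by
    obtain ⟨i, hi, e⟩ := (Nat.dvd_prime_pow Nat.prime_two).1 h9
    rw [e] at h10 ⊢
    exact Nat.pow_le_pow_right (by norm_num) (Nat.lt_succ_iff.1 (lt_of_le_of_ne hi fun e => h10 (e ▸ rfl)))
  have h12 := card_le_of_le (sup_le h1 h3)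
  have h13 := K.card_le Y
  have h14 : 2 ^ 26 ≤ Nat.card ↥(PE h ⊔ n •ᶜ PE h) := by nlinarith
  refine ⟨by omega, fun c hc => ?_⟩
  rw [← eq_of_le_of_card_ge (sup_le h1 h3) (by omega)] at hc
  obtain ⟨a, ha, b, hb, rfl⟩ := (mem_sup_of_le_normalizer (h1.trans h6)).1 hc
  rw [show a * b * (a * b) = a * a * (a⁻¹ * (b * a * b⁻¹)) * (b * b) by group]
  refine mul_mem (mul_mem ?_ (h4 (mem_inf.2
    ⟨mul_mem (inv_mem ha) ((mem_normalizer_iff.1 (h5 (h3 hb)) a).1 ha), ?_⟩))) ?_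
  · rcases h.lx.sq a ha.1 with e | e <;> rw [e]
    exacts [one_mem _, ⟨_, K.e⟩]
  · simpa [mul_assoc] using mul_mem ((mem_normalizer_iff.1 (h6 (inv_mem (h1 ha))) b).1 hb) (inv_mem hb)
  · rcases hP.sq b (h2.le hb).1 with e | e <;> rw [e]
    exacts [one_mem _, K.y_mem]

end CL.MP
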