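import Cfsg.Agent.SPOR.E8Q
import Cfsg.Agent.SPOR.MonType2

/-! Lattice facts about the vectors `4 e_i + 4 e_j` and the `E8` sublattice of an octad. -/

set_option autoImplicit false
set_option maxRecDepth 100000

namespace CL.MP

open Cfsg CL.Leech CL.MT CL.StdCo CL.E8C CL.K Subgroup
open CL.Golay (E Code O0 O0_mem mem_Fix)

/-- the vector `4 e_i + 4 e_j` -/
abbrev f44 (i j : GolayPt) : leechLattice := v44 i j 4 4 rfl rfl

theorem f44_apply (i j p : GolayPt) :
    (f44 i j).1 p = (if p = i then 4 else 0) + if p = j then 4 else 0 := by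
  simp [coe_v44, Pi.single_apply]

theorem dot_f44 (w : GolayPt → ℤ) (i j : GolayPt) : dotInt w (f44 i j).1 = 4 * w i + 4 * w j := by
  rw [coe_v44, dot_add_right, dot_single_right, dot_single_right]; ring

theorem dot_e8 (w : GolayPt → ℤ) (i : GolayPt) : dotInt w (e8 i).1 = 8 * w i := by
  rw [coe_e8, dot_single_right]; ring

theorem sqNorm_f44 {i j : GolayPt} (h : i ≠ j) : sqNorm (f44 i j).1 = 32 := by
  rw [sqNorm_eq_dot, dot_f44, f44_apply, f44_apply]; simp [h, h.symm]

theorem f44_L {i j : GolayPt} (hi : i ∈ E.setOf O0) (hj : j ∈ E.setOf O0) : f44 i j ∈ L :=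
  mem_L.2 fun p hp => by
    rw [f44_apply, if_neg (ne_of_mem_of_not_mem hi hp).symm, if_neg (ne_of_mem_of_not_mem hj hp).symm]; rfl

theorem e8_L : e8 none ∈ L := mem_L.2 (by decide +kernel)

theorem cong_e8 (i j : GolayPt) : Cong (e8 i) (e8 j) :=
  one_smul ℤ (e8 j) ▸ e8_sub_e8 i j 1 (Or.inl rfl)

theorem mono_f44 {σ : M24} {c : Code} {i j i' j' : GolayPt} (h : i ≠ j) (h' : i' ≠ j')
    (e : Cong (mono σ c • f44 i j) (f44 i' j')) :
    (σ.1 i = i' ∧ σ.1 j = j' ∨ σ.1 i = j' ∧ σ.1 j = i') ∧ (i' ∈ c.1 ↔ j' ∈ c.1) := by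
  have key : ∀ p, (mono σ c • f44 i j).1 p = (if p ∈ c.1 then -1 else 1) *
      ((if σ.1 i = p then 4 else 0) + if σ.1 j = p then 4 else 0) := fun p => by
    rw [coe_mono_smul, signedPerm, f44_apply]
    simp only [Equiv.symm_apply_eq, eq_comm (a := p)]
    split_ifs <;> rfl
  have n1 : ∀ p, σ.1 i = p → σ.1 j ≠ p := fun p a b => σ.1.injective.ne h (a.trans b.symm)
  have n2 : ∀ p, p = i' → p ≠ j' := fun p a b => h' (a.symm.trans b)
  have n3 := n1 i'
  have n4 := n1 j'
  have n5 := n2 (σ.1 i)
  have n6 := n2 (σ.1 j)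
  have a := key i'
  have b := key j'
  rcases e.short (by rw [sqNorm_smul, sqNorm_f44 h]; norm_num) (by rw [sqNorm_f44 h']; norm_num)
    with e | e | e
  · rw [e, f44_apply] at a b
    simp only [h', h'.symm, if_true, if_false] at a b
    split_ifs at a b <;> first | omega | tauto
  · rw [e, AddSubgroup.coe_neg, Pi.neg_apply, f44_apply] at a b
    simp only [h', h'.symm, if_true, if_false] at a b
    split_ifs at a b <;> first | omega | tauto
  · rw [sqNorm_f44 h'] at e; omega

theorem fix_pairs {σ : M24} {c : Code} {S : Finset GolayPt} (h3 : 3 ≤ S.card)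
    (h : ∀ i ∈ S, ∀ j ∈ S, i ≠ j → Cong (mono σ c • f44 i j) (f44 i j)) :
    (∀ i ∈ S, σ.1 i = i) ∧ ∀ i ∈ S, ∀ j ∈ S, (i ∈ c.1 ↔ j ∈ c.1) := by
  refine ⟨fun i hi => ?_, fun i hi j hj => ?_⟩
  · obtain ⟨j, hj, k, hk, e⟩ := Finset.one_lt_card.1 (show 1 < (S.erase i).card by
      rw [Finset.card_erase_of_mem hi]; omega)
    rw [Finset.mem_erase] at hj hk
    rcases (mono_f44 hj.1.symm hj.1.symm (h i hi j hj.2 hj.1.symm)).1 with a | a
    · exact a.1
    rcases (mono_f44 hk.1.symm hk.1.symm (h i hi k hk.2 hk.1.symm)).1 with b | b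
    · exact b.1
    · exact absurd (a.1.symm.trans b.1) e
  · by_cases e : i = j
    · rw [e]
    · exact (mono_f44 e e (h i hi j hj e)).2

theorem exists_mono_of {k : Co0} (h : Cong (k • e8 none) (e8 none)) : ∃ σ c, k = mono σ c :=
  exists_mono_of_mem_NN (St_e8 none ▸ mem_St.2 h)

theorem pm_Q0 {k : Co0} (h8 : Cong (k • e8 none) (e8 none))
    (h : ∀ i ∈ E.setOf O0, ∀ j ∈ E.setOf O0, i ≠ j → Cong (k • f44 i j) (f44 i j)) :
    k ∈ Q0 ∨ neg1 * k ∈ Q0 := by
  obtain ⟨σ, c, rfl⟩ := exists_mono_of h8
  obtain ⟨h1, h2⟩ := fix_pairs (by rw [O0_mem.2]; norm_num) h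
  have ho : ∀ j, oc j ∈ E.setOf O0 := fun j => (mem_O _).2 ⟨j, rfl⟩
  by_cases e : oc 0 ∈ c.1
  · exact Or.inr (mem_Q0.2 fun j => by
      rw [mul_smul, mono_e8, h1 _ (ho j), if_pos ((h2 _ (ho 0) _ (ho j)).1 e), neg1_smul, neg_neg])
  · exact Or.inl (mem_Q0.2 fun j => by
      rw [mono_e8, h1 _ (ho j), if_neg (mt (h2 _ (ho 0) _ (ho j)).2 e)])

theorem center_or {k : Co0} (h8 : Cong (k • e8 none) (e8 none))
    (h : ∀ i j, i ≠ j → (i ∈ E.setOf O0 ↔ j ∈ E.setOf O0) → Cong (k • f44 i j) (f44 i j)) :
    k ∈ center Co0 ∨ k * t ∈ center Co0 := by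
  obtain ⟨σ, c, rfl⟩ := exists_mono_of h8
  obtain ⟨h1, h2⟩ := fix_pairs (S := E.setOf O0) (by rw [O0_mem.2]; norm_num)
    fun i hi j hj e => h i j e (iff_of_true hi hj)
  obtain ⟨h3, h4⟩ := fix_pairs (S := cT.1) (by rw [card_cT]; norm_num)
    fun i hi j hj e => h i j e (iff_of_false (Finset.mem_compl.1 hi) (Finset.mem_compl.1 hj))
  obtain rfl : σ = 1 := Subtype.ext (Equiv.ext fun i => (_root_.em _).elim (h1 i) fun e => h3 i (Finset.mem_compl.2 e))
  have a : none ∈ E.setOf O0 := by decide +kernel
  have b : some 4 ∈ cT.1 := Finset.mem_compl.2 (by decide +kernel)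
  have k : ∀ d : Code, (∀ i, i ∈ d.1 ↔ none ∈ d.1) → sgn d ∈ center Co0 := fun d hd => by
    by_cases e : none ∈ d.1
    · rw [show d = c1 from Subtype.ext (Finset.eq_univ_of_forall fun i => (hd i).2 e)]
      exact neg1_mem_center
    · rw [show d = c0 from Subtype.ext (Finset.eq_empty_of_forall_notMem fun i => mt (hd i).1 e), sgn_c0]
      exact one_mem _
  by_cases e : none ∈ c.1 ↔ some 4 ∈ c.1
  · exact Or.inl (k c fun i => (_root_.em _).elim (fun m => h2 i m _ a) fun m =>
      (h4 i (Finset.mem_compl.2 m) _ b).trans e.symm)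
  · refine Or.inr ((sgn_mul c cT).symm ▸ k _ fun i => ?_ : sgn c * sgn cT ∈ _)
    have u := fun m => h2 i m _ a
    have v := fun m => h4 i m _ b
    simp only [cx, E8C.cT, Finset.mem_symmDiff, Finset.mem_compl] at u v ⊢
    tauto

theorem sgn_cases {c : Code} (h : sgn c ∈ Q0) : sgn c = 1 ∨ sgn c = t ∨ ∃ u w : leechLattice,
    (∀ p ∈ E.setOf O0, u.1 p = 0) ∧ w.1 none = 0 ∧ ¬ (16 : ℤ) ∣ dotInt (sgn c • u - u).1 w.1 := by
  obtain ⟨k, hk, e⟩ := exists_KT (mono_mem_Q0.1 h).2
  have H : ∀ k ∈ KT, Golay.cw k = 0 ∨ Golay.cw k = O0 ^^^ (2 ^ 24 - 1) ∨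
      ∃ u ∈ [0x40020010008004002801000a0040020014008004002801400a00500280100080040020010008,
        0x40020010008005002001000a005002001000a004002801000a005002001000a0040020010008],
      ∃ w ∈ [0x4002001000800400200100080040020014008005002001000a004002001400a0050028014008,
        0x4002001000800400200100080050020010008005002801000a00500280100080040028014008],
      isL u = true ∧ isL w = true ∧ (∀ p ∈ E.setOf O0, vec u p = 0) ∧ vec w none = 0 ∧ ¬ (16 : ℤ) ∣ dotInt (fun p =>
        (if (Golay.cw k).testBit (E.enc p) = true then -vec u p else vec u p) - vec u p) (vec w) := by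
    decide +kernel
  rcases H k hk with a | a | ⟨u, -, w, -, a1, a2, a3, a4, a5⟩
  · rw [a, E.setOf_zero] at e
    exact Or.inl ((congrArg _ (Subtype.ext e.symm)).trans sgn_c0)
  · rw [a, E.setOf_compl] at e
    exact Or.inr (Or.inl (congrArg _ (Subtype.ext e.symm)))
  · refine Or.inr (Or.inr ⟨lv u a1, lv w a2, a3, a4, ?_⟩)
    convert a5 using 3
    · funext p
      rw [AddSubgroup.coe_sub, Pi.sub_apply, sgn_apply, ← e]
      simp only [E.mem_setOf]
      rfl
    · rfl

theorem κ_of_cong {x y : leechLattice} (hx : x ∈ L) (hy : y ∈ L) (h : Cong x y) : κ x = κ y := by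
  obtain ⟨u, e⟩ := h
  have hu : u ∈ L := mem_L.2 fun p hp => by
    have := congrFun (congrArg Subtype.val e) p
    simp [mem_L.1 hx p hp, mem_L.1 hy p hp] at this
    exact this
  rw [sub_eq_iff_eq_add'.1 e, κ_add hy, two_nsmul, κ_add hu, CharTwo.add_self_eq_zero, add_zero]

theorem cong_of_κ {x y : leechLattice} (hx : x ∈ L) (hy : y ∈ L) (h : κ x = κ y) : Cong x y := by
  refine ⟨sec fun i => (n x i - n y i) / 2, sub_eq_iff_eq_add'.2 ?_⟩
  conv_lhs => rw [← sec_n hx]
  rw [two_nsmul, ← sec_add, ← sec_n hy, ← sec_add, n_sec]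
  refine congrArg _ (funext fun i => ?_)
  have := (ZMod.intCast_eq_intCast_iff_dvd_sub _ _ 2).1 (congrFun h i)
  simp only [Pi.add_apply]
  omega

/-- short representatives -/
def shT : ℕ := 0x79977799957bb778957bb76779977788777978797997789879977887799778887779877999978998999789877979698a777988799997889899798a8979796a8a7b965999977a997899989987977a9988777a787999989898977a9889757a966877988777999889989798a7877978698a777a8879977aa878777a8869997a8a8a976b997977899778756b976999899988978998777b875a9a97899887978998887789877977898778998989899789a7889789a877778988787987688999898a8899887999798879787988798979887988958ab677776a787a79887889956cb8689988899977888778798869899988898899888899978aa878798868897988688a78797979789777987879798978977788787978797879787a789778877879788a789787779a978998789787877897878878798879967ba878947bc6677a796a8a787a797998989798987a9989767a97689898989798989898989898877a785a8a767a87797a966998767a8769789887887a966899967aa878987a8a89767a8868988999777a87599a98899987988999887889787976899678788978899889988896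89a777768987787a876989988989887aa5689778898878766b88699889a888968ab777786a797a78887789946cb7689a887a99788878787888788978887888968aa77778888778788887899888898898888899788888787a886a89788888886779777989977998899779878979798a899778998997789889797a89899778886b9549998997879889978987857ba7688779887989978898899788878997888887989777677a777a879897876978598a877a9879877a9878677a7869897a7a8a877a8979877a89788b9669a969966788877a88798b966a98877a88898998888887899777878997788989798987899788878998778789987869875889878998888789a777876b897a898989898ba569a88b876a998789887869876889878988888988799967887778898879898988798889887899878a987889887889676a786a89a687976b86499a856ca7698988898889888899676a687a8988888989888888887979798a977998887979898a9779888a977899a67bb878847bb6678a797a8a88798979889787988879898988978788887988796879687a889788878a796a8a867a9779867a977888989787889897886a965899867a987888989887867a9868887a8979867aa778667a876988988788a898a8978698a676889888878898888886899777868997786a87598988a79786866b987988899878866b9869888998888689a7778889897868876789888989888689a67788898878888988898889888868887779868a97788a88798988887988888878998aa67898888878898888788888888799868aa778888887898888898888888899888888788888888988888888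

/-- the coefficients of a short representative -/
def shC (w : ι → ZMod 2) (i : ι) : ℤ :=
  ((shT >>> (32 * (∑ j, (w j).val * 2 ^ (finSumFinEquiv j).1) + 4 * (finSumFinEquiv i).1)) % 16 : ℕ) - 8

theorem exists_short_L (w : ι → ZMod 2) : ∃ x ∈ L, κ x = w ∧ sqNorm x.1 ≤ 64 := by
  have g : ∀ i j, dotInt (em (Ay i)) (em (Ay j)) = 4 * ∑ k, Ay i k * Ay j k := by decide +kernel
  have H : ∀ w : ι → ZMod 2, (∀ i, (shC w i : ZMod 2) = w i) ∧
      ∑ i, shC w i * ∑ j, shC w j * (4 * ∑ k, Ay i k * Ay j k) ≤ 64 := by decide +kernel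
  refine ⟨_, sec_L (shC w), funext fun i => by rw [κ, n_sec, (H w).1], ?_⟩
  rw [sqNorm_eq_dot, dot_sec]
  simpa only [dot_comm (sec _ : GolayPt → ℤ), dot_sec, g] using (H w).2

/-- an automorphism commuting with the sign change -/
def gT : ℕ := 0x52108420484190842108420c8318c64294632906520c65294a52906421084294a3290a3214a3294a31906421084194a3290a32146518ca5290a42108418c65290a521465294a3190a421084294a5290652146319465190a4210812108421484190842108420c8318c64194a5190a520ca5194a5190642108428c65290a5214a318ca529064210832108420c84090842108421485294a4194a529065214a528c63290642108419463190a5214a329465290a42108428ca5190a3214652946529064210842946519063214a528ca5190a42108429465290a320ca519463290a421084294a5190a520c6328ca3290a42108428ca3290a520ca528c65190a42108428ca319065214a5194a3290a4210832108420c84290842108420485294a418ca52906320ca3294a5290a4210832108420c84290842108421481294a32108420c84290842108421485094a32108420c84290842108421485284a32108420c842908421084214852942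

theorem exists_gT : ∃ g ∈ C0, (g • e8 none).1 none = 2 := by
  have h := rep_aut (c := gT) (by decide +kernel)
  have e : ∀ i, (aut gT • e8 i).1 = vec (ap gT (c8 (E.enc i))) := fun i => by
    rw [← enc_e8, h _ (by rw [sqNorm_e8]; norm_num), vec_enc (bd_of_sqNorm (by
      rw [sqNorm_smul, sqNorm_e8]; norm_num))]
  have H : ∀ i p, (p ∈ cT.1 ↔ i ∈ cT.1) ∨ vec (ap gT (c8 (E.enc i))) p = 0 := by
    simp only [E8C.cT, Finset.mem_compl, not_iff_not]; decide +kernel
  refine ⟨aut gT, mem_centralizer_singleton_iff.2 (co_ext_e8 fun i => Subtype.ext (funext fun p => ?_)),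
    by rw [e]; decide +kernel⟩
  rw [mul_smul, mul_smul, t, sgn_apply, sgn, mono_e8]
  rcases H i p with a | a
  · split_ifs with b c c
    · rw [smul_neg]; rfl
    · exact absurd (a.2 b) c
    · exact absurd (a.1 c) b
    · rfl
  · rw [← e] at a
    split_ifs <;> simp [smul_neg, a]

end CL.MP
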