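import Cfsg.Agent.SPOR.MP.P10A
import Cfsg.Agent.SPOR.GolayTrioGrp
import Cfsg.Agent.SPOR.Co1.Code

/-! The classes modulo two of the frames attached to the sextets refining a trio. -/

set_option autoImplicit false
set_option maxRecDepth 100000

namespace CL.MP

open Cfsg CL.Leech CL.MT CL.StdCo CL.K Subgroup MulAction
open CL.Golay (E Code trLv trHom tri Tr0 Syn Syn_eq_iff sex)
open scoped Pointwise

/-- codes of the basic vectors -/
def cb : Fin 5 → ℕ := ![0x4002001000800400200100080040020010008004002001000800400200100080040020010008,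
  0x8002001000800400200100080040020010008004002001000800400200100080040020010008,
  0x400200100080040020018008004002001000800400200100080040020010008004003001800c,
  0x600200100080040020010008004002001000800400200100080040020010008006002001800c,
  0x400200100080040020010008004002001000800400200100080040020018008006003001000c]

theorem isL_cb : ∀ i, isL (cb i) = true := by decide +kernel

/-- zero, the standard frame and three tetrads -/
noncomputable def bs (i : Fin 5) : leechLattice := lv (cb i) (isL_cb i)

/-- the three tetrads -/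
abbrev tet (j : Fin 3) : Finset GolayPt := E.setOf (trLv (Pi.single j 1))

theorem bs_zero : bs 0 = 0 := Subtype.ext (funext (by decide +kernel))

theorem bs_one : bs 1 = e8 none := Subtype.ext (funext (by decide +kernel))

theorem bs_tet : ∀ (j : Fin 3) p, (bs j.succ.succ).1 p = if p ∈ tet j then 4 else 0 := by decide +kernel

theorem bs_four : ∀ i p, (4 : ℤ) ∣ (bs i).1 p := by decide +kernel

theorem bs_norm : ∀ i, sqNorm (bs i).1 = if i = 0 then 0 else 64 := by decide +kernel

theorem dvd_dot_four {x y : leechLattice} (hx : ∀ p, (4 : ℤ) ∣ x.1 p) (hy : ∀ p, (4 : ℤ) ∣ y.1 p) :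
    (16 : ℤ) ∣ dotInt x.1 y.1 := Finset.dvd_sum fun p _ => mul_dvd_mul (hx p) (hy p)

theorem κ_bs (i : Fin 5) : Co1T.κ (bs i) = F2M.vdec 24 (Co1T.kv (cb i)) := by
  rw [← F2M.vdec_vcode (Co1T.κ _), ← Co1T.kv_enc (by rw [bs_norm]; split_ifs <;> norm_num), bs, enc_lv]

theorem bs_ind (u : Fin 5 → ZMod 2) (h : ∑ i, u i • Co1T.κ (bs i) = 0) (i : Fin 5) (hi : i ≠ 0) : u i = 0 := by
  simp only [κ_bs] at h
  revert u i
  decide +kernel

theorem syn_of_cong {x y : leechLattice} {S T : Finset GolayPt}
    (hx : ∀ p, x.1 p % 8 = if p ∈ S then 4 else 0) (hy : ∀ p, y.1 p % 8 = if p ∈ T then 4 else 0)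
    (h : Cong x y) : symmDiff S T ∈ Code := by
  obtain ⟨u, hu, e⟩ := cong_iff_coe.1 h
  obtain ⟨m, -, -, h3, -⟩ := (mem_iff' _).1 hu
  rw [red_eq_ind (s := symmDiff S T) fun p => by
    have a := hx p
    have b := hy p
    have c := congrFun e p
    simp only [Pi.sub_apply, two_nsmul, Pi.add_apply] at c
    rw [Finset.mem_symmDiff]
    split_ifs at a b <;> simp only [*, not_true, not_false_iff, and_true, and_false, or_false, or_true,
      iff_false, iff_true] <;> omega] at h3
  exact (mem_supports_iff _).2 h3

theorem cong_of_syn {x y : leechLattice} {S T : Finset GolayPt}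
    (hx : ∀ p, x.1 p = if p ∈ S then 4 else 0) (hy : ∀ p, y.1 p = if p ∈ T then 4 else 0)
    (hc : S.card = T.card) (h : symmDiff S T ∈ Code) : Cong x y := by
  refine cong_iff_coe.2 ⟨fun p => (if p ∈ S then 2 else 0) - if p ∈ T then 2 else 0,
    (mem_iff' _).2 ⟨0, Or.inl rfl, fun p => by split_ifs <;> rfl, ?_, by simp [hc]⟩, funext fun p => ?_⟩
  · rw [red_eq_ind (s := symmDiff S T) fun p => by
      rw [Finset.mem_symmDiff]; split_ifs <;> simp [*]]
    exact (mem_supports_iff _).1 h
  · rw [Pi.sub_apply, hx, hy, two_nsmul, Pi.add_apply]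
    split_ifs <;> rfl

theorem mem_smul_iff' (σ : Equiv.Perm GolayPt) (S : Finset GolayPt) (p : GolayPt) :
    p ∈ σ • S ↔ σ.symm p ∈ S := Finset.inv_smul_mem_iff.symm

/-- two sextets -/
def sxA : List ℕ := [9088, 131079, 328768, 2131984, 5771264, 8405032]
/-- two sextets -/
def sxB : List ℕ := [9536, 147492, 328320, 1574928, 6328320, 8388619]

theorem tri_sx : ∀ o ∈ tri Tr0, ∃ a ∈ sxA, ∃ b ∈ sxB,
    (E.setOf a ∪ E.setOf b).card = 6 ∧ E.setOf a ∪ E.setOf b ⊆ o := by
  simp only [Golay.tri_eq, Finset.forall_mem_insert, Finset.mem_singleton, forall_eq]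
  decide +kernel

theorem tri_sx' : ∀ a ∈ sxA, ∀ b ∈ sxB,
    (E.setOf a ∪ E.setOf b).card = 6 → ∃ o ∈ tri Tr0, E.setOf a ∪ E.setOf b ⊆ o := by
  simp only [Golay.tri_eq, Finset.exists_mem_insert, Finset.mem_singleton, exists_eq_left]
  decide +kernel

theorem sex_perm {σ : Equiv.Perm GolayPt} (hσ : σ ∈ M24) {t : ℕ} {L : List ℕ}
    (h : Syn (σ • E.setOf t) = Syn (E.setOf t)) (e : sex t = (L.map E.setOf).toFinset) {a : ℕ} (ha : a ∈ L) :
    ∃ b ∈ L, σ • E.setOf a = E.setOf b := by
  have h1 : E.setOf a ∈ sex t := e ▸ List.mem_toFinset.2 (List.mem_map_of_mem ha)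
  have h2 := Finset.smul_mem_smul_finset (a := σ) h1
  rw [sex, Golay.smul_sextetOf hσ, Golay.sextetOf_congr h, ← sex, e] at h2
  obtain ⟨b, hb, e⟩ := List.mem_map.1 (List.mem_toFinset.1 h2)
  exact ⟨b, hb, e.symm⟩

theorem tri_of_syn {σ : Equiv.Perm GolayPt} (hσ : σ ∈ M24) (h : ∀ j, Syn (σ • tet j) = Syn (tet j)) :
    σ • tri Tr0 = tri Tr0 := by
  refine Finset.eq_of_subset_of_card_le (fun o hm => ?_) (Finset.card_smul_finset _ _).ge
  obtain ⟨o, ho, rfl⟩ := Finset.mem_smul_finset.1 hm
  obtain ⟨a, ha, b, hb, e1, e2⟩ := tri_sx o ho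
  obtain ⟨a', ha', e3⟩ := sex_perm hσ (h 0) (Golay.sex_eq_of_list (L := sxA) (by decide +kernel)) ha
  obtain ⟨b', hb', e4⟩ := sex_perm hσ (h 1) (Golay.sex_eq_of_list (L := sxB) (by decide +kernel)) hb
  rw [← Finset.card_smul_finset σ, Finset.smul_finset_union, e3, e4] at e1
  obtain ⟨o', ho', e5⟩ := tri_sx' a' ha' b' hb' e1
  have m := (Golay.tri_mem Golay.isTri_Tr0).2.1
  have e6 := Finset.smul_finset_subset_smul_finset (a := σ) e2
  rw [Finset.smul_finset_union, e3, e4] at e6
  have e7 := e1.ge.trans (Finset.card_le_card (Finset.subset_inter e6 e5))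
  exact Golay.octad_eq_of_le_card_inter ((Golay.smul_mem_octads hσ).2 (m o ho)) (m o' ho')
    (Nat.le_of_succ_le e7) ▸ ho'

theorem gam_of_cong {σ : M24} {c : Code}
    (h : ∀ j : Fin 3, Cong (mono σ c • bs j.succ.succ) (bs j.succ.succ)) :
    ∃ m : σ.1 ∈ M24 ⊓ stabilizer _ (tri Tr0), (trHom ⟨_, m⟩).1 = 1 := by
  have h1 : ∀ j, Syn (σ.1 • tet j) = Syn (tet j) := fun j => Syn_eq_iff.2 (syn_of_cong (fun p => by
    simp only [coe_mono_smul, signedPerm, bs_tet, mem_smul_iff']
    split_ifs <;> rfl) (fun p => by rw [bs_tet]; split_ifs <;> rfl) (h j))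
  have i1 : ∀ v w, Golay.syn (trLv v) = Golay.syn (trLv w) → v = w := by decide +kernel
  refine ⟨⟨σ.2, tri_of_syn σ.2 h1⟩, Units.ext (Matrix.ext fun i j => ?_)⟩
  have := (h1 j).symm.trans ((Orb.homOfGraph_spec Golay.trGam_ex Golay.trGam_uniq
    ⟨_, σ.2, tri_of_syn σ.2 h1⟩).2.1 _)
  rw [Golay.Syn_setOf (Golay.trLv_lt _), Golay.Syn_setOf (Golay.trLv_lt _)] at this
  have := congrFun (i1 _ _ this) i
  rw [Matrix.mulVec_single_one] at this
  rw [Units.val_one, Matrix.one_apply, ← Pi.single_apply, this]
  rfl

theorem cong_of_gam {σ : ↥(M24 ⊓ stabilizer (Equiv.Perm GolayPt) (tri Tr0))} (h : (trHom σ).1 = 1) (i : Fin 5) :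
    Cong (permHom ⟨σ.1, σ.2.1⟩ • bs i) (bs i) := by
  refine Fin.cases (by rw [bs_zero, smul_zero]; exact Cong.refl _) (fun i => Fin.cases ?_ (fun j => ?_) i) i
  · rw [Fin.succ_zero_eq_one, bs_one, permHom_e8]; exact cong_e8 _ _
  · refine cong_of_syn (fun p => ?_) (bs_tet j) (Finset.card_smul_finset σ.1 _) (Syn_eq_iff.1
      (((Orb.homOfGraph_spec Golay.trGam_ex Golay.trGam_uniq σ).2.1 (Pi.single j 1)).trans
        (congrArg (fun v => Syn (E.setOf (trLv v))) ((congrArg (fun g : GL (Fin 3) (ZMod 2) => g.1.mulVec _) h).trans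
          (Matrix.one_mulVec _)))))
    simp only [permHom_apply, bs_tet, mem_smul_iff']

theorem center_of {k : Co0} (h : ∀ u : leechLattice, (∀ p, (4 : ℤ) ∣ u.1 p) → Cong (k • u) u) :
    k ∈ center Co0 := by
  obtain ⟨σ, c, rfl⟩ := exists_mono_of (bs_one ▸ h _ (bs_four 1))
  obtain ⟨h1, h2⟩ := fix_pairs (S := Finset.univ) (by decide) fun i _ j _ _ => h _ fun p => by
    rw [f44_apply]; split_ifs <;> norm_num
  obtain rfl : σ = 1 := Subtype.ext (Equiv.ext fun i => h1 i (Finset.mem_univ _))
  have h3 := fun i => h2 i (Finset.mem_univ _) none (Finset.mem_univ _)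
  by_cases e : none ∈ c.1
  · rw [show c = c1 from Subtype.ext (Finset.eq_univ_of_forall fun i => (h3 i).2 e)]
    exact neg1_mem_center
  · rw [show c = c0 from Subtype.ext (Finset.eq_empty_of_forall_notMem fun i => mt (h3 i).1 e)]
    exact (sgn_c0.symm ▸ one_mem _ : sgn c0 ∈ center Co0)

/-- automorphisms permuting the basic classes -/
def kS : Fin 3 → ℕ := ![0x62108421084110842108420886210843104221084210c421084210842108421884210862108621084210c421084110c221084210c42108421084210841104621084210c421084210842108421084310442108411084310842108421084208842108421084210843184421084110c421084110843108421084218842108621082210842104421082210842108431084210842088621084210842108421884208c22108421084310c621084210c4210842108421084218842108221086210842104421084210841104421084310843108421084210842108420884218c22108421084210842108421884218c62108421084210842108420884208c6210842108421084310c42108431084310842108221084210841108421084218862108421884210822108221084210c42108621084210843108421084218862108421084218842108421084210841184421084218842108421084210843084421084208842108421084210841084,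
  0x22108421084210842108421082218c4308842108621044210842108421084118842108621044210842108421084210c2210842108221084210c42108421046210842108221084210c42108421084310442108420886210842108421084218841108421084218841108421084110c4210842088621084210843188421086210c4210842108421084210842088431084210842188411084210842108421884110c411084210841088421086210c421084210842108421042210842108621084210c421084210842108420884310c41108421084210841104421084218862108421084210842108421884310c4310842108421084310c421084218862108421084210842108420884110c43108421084210842188431084210842188431084210c6210842108621084210c4210822108421084210842108421082208442108420884110842108421884310862108421084210842108421082208c621084210842108421084210822184,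
  0x621084208841108421084210842188431044210822108421084210c421084218822108421046210842108421084110c4210822108421084210c421084208862108421046210842108421084210843108421084210c2110842108221084218841108421084210842188421084210c42188410884210842108411044210862108421084210c42108221084208843108421084210842188421084210c4218843188421084210842088221084210c62108421084210842188621084210c6210842108421084210842104421884308842108421084210842104421884118842108421084210843108421084210c63108421084210841108421084210c61108421084210841108421084210c23108421084210842108421084210842088631044310c4210862108421084210c42108421084210842108421084218823104421084210842108421084218861104621084218843108421084210842188421084210842108421084208821104]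

theorem exists_swap (i : Fin 3) :
    ∃ k : Co0, ∀ j, Cong (k • bs j) (bs (Equiv.swap 1 i.succ.succ j)) := by
  have H : ∀ i, okA (kS i) = true ∧ ∀ j,
      Co1T.kv (ap (kS i) (cb j)) = Co1T.kv (cb (Equiv.swap 1 i.succ.succ j)) := by decide +kernel
  have n : ∀ j, sqNorm (bs j).1 ≤ 64 := fun j => by rw [bs_norm]; split_ifs <;> norm_num
  refine ⟨aut (kS i), fun j => Co1T.κ_eq_iff.1 (F2M.vcode_injective ?_)⟩
  rw [← Co1T.kv_enc (n _), ← Co1T.kv_enc (by rw [sqNorm_smul]; exact n j),
    ← rep_aut (H i).1 _ ((n j).trans (by norm_num))]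
  simpa only [bs, enc_lv] using (H i).2 j

end CL.MP
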